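import Cfsg.Agent.H563.KG.Elim_m3
import Cfsg.Agent.H460.FTypedAE_m3
import Cfsg.Agent.H946.KZ.SameF4
import Cfsg.Agent.H502.Cov.AltOdd_mg_m3
import Cfsg.Agent.H188.Der.Ro
import Cfsg.Agent.H325.Cov.Act
import Cfsg.Agent.H946.ExcNum_m3
import Cfsg.Agent.H56.Exc.Auto_m3
import Cfsg.Agent.H264.FKS.Res_m3
import Cfsg.Agent.H325.Same.ExcPairE_m3
import Cfsg.Agent.H56.Exc.BigRows
import Cfsg.Agent.H378.OmD4
import Cfsg.Agent.H172.SIComm
import Cfsg.Agent.H28.FamFour
import Cfsg.Agent.S1067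
import Cfsg.Agent.H378.TwAdj
import Cfsg.Agent.H77.E4Poly_m3
import Cfsg.Agent.H129.TorusTw
import Cfsg.Agent.H671.Frame
import Cfsg.Agent.H168.ExcE8_m3
import Cfsg.Agent.H185.NFTd
import Cfsg.Agent.H392.TD.Nat8
import Cfsg.Agent.H708.O8.Par_m3
import Cfsg.Agent.H936.List12c
import Cfsg.Agent.H4.JT.Two
import Cfsg.Agent.H349.KD4.Zs
import Cfsg.Agent.H129.RealE7_m3
import Cfsg.Agent.H278.Cov.Defs
import Mathlib
import Cfsg.Agent.H4.JT.DegOdd_m3
import Cfsg.Agent.H19.Cyc.MatMo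
import Cfsg.Agent.H603.SporElim
import Cfsg.Agent.S0144
import Cfsg.Agent.H858.SidM12
import Cfsg.Agent.H180.KM11Cube
import Cfsg.Agent.CoThreeStd.M12.Out
import Cfsg.Agent.CoThreeStd.OutAut
import Cfsg.Agent.Schreier.MTwelve
import Cfsg.Agent.SmallSimple.SylowCount
import Cfsg.Agent.FastGrp
import Cfsg.Agent.Prune
set_option linter.all false

section
prune_inst 0x7ff8fcf8cbb825dedfff7e7ffef1dffc19d09fffe6dff943ffe8e3ff0bdf03000bc5fbaf0de0d0fe0ed6e01410b87853fb7eeeffe26fdc7ffffd5ff45ffbee0ff5f6bd0911d290240f380fff03f07f8e7f3fffffffffffffffffffffffffffbeffffffffffff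

-- part: H406/Cov/Top
section
prune_inst 0x5030334404a200000000000080000200240000900000800040000b400200e2020000000000800000100000000000000811000010020000000a000000000400001000020050c10000420006000000000000000000000000000000000000000000000000000
set_option linter.all false
open scoped Cfsg.Agent.FastGrp

-- part: H406/Cov/Tab5
section
/-!
# Cross characteristic, one class of tori of `F₄(q)`, `p ≥ 5` (helper406, after helper563's `KG.Tab`)

`no_cross5`, `no_spor5` : as `no_cross`, `no_spor` for one class `e₀` and the small fields of order 5, 7.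
-/

set_option autoImplicit false
set_option exponentiation.threshold 700

namespace Cfsg.Agent.H406.Cov

open Cfsg.Agent.H902 Cfsg.Agent.H290.ElReg Cfsg.Agent.H290.ElTab Cfsg.Agent.H290.ElCross
open Cfsg.Agent.H436 (Prim)
open Cfsg.Agent.H563.KG

/-- the small fields -/
def sm5 : List (ℕ × ℕ) := [(5, 5), (7, 7)]

/-- the survivors -/
def svR5 (n : ℕ) (Y : Art.Sh) (cls : List ℕ) : Bool := (reg n).all fun x => sm5.all fun y =>
  y.1 == x.2.1 || !(tq Y cls (OL x.1 (x.2.1 ^ x.2.2)) (Art.dd x.1 (x.2.1 ^ x.2.2)) y.2)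

def svS5 (Y : Art.Sh) (cls : List ℕ) : Bool := Cfsg.Agent.OrdDiv.spor.all fun x => sm5.all fun y => !(tq Y cls x.2 1 y.2)

private theorem all_ok5 : (bndR 52 8 = true) ∧ (bndS 8 = true) ∧ (svR5 52 .F4 [8] = true) ∧ (svR5 52 .F4 [12] = true) ∧
    (svS5 .F4 [8] = true) ∧ (svS5 .F4 [12] = true) := by decide +kernel
theorem bndR_52_8 : bndR 52 8 = true := all_ok5.1
theorem bndS_8 : bndS 8 = true := all_ok5.2.1
theorem svR5_8 : svR5 52 .F4 [8] = true := all_ok5.2.2.1
theorem svR5_12 : svR5 52 .F4 [12] = true := all_ok5.2.2.2.1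
theorem svS5_8 : svS5 .F4 [8] = true := all_ok5.2.2.2.2.1
theorem svS5_12 : svS5 .F4 [12] = true := all_ok5.2.2.2.2.2

theorem mem_sm5 {p f : ℕ} (hp : p.Prime) (hf : 1 ≤ f) (h5 : 5 ≤ p) (h : p ^ f ≤ 7) : (p, p ^ f) ∈ sm5 := by
  have h1 : p ≤ 7 := (Nat.le_self_pow (by omega) p).trans h
  have h3 : f ≤ 1 := by
    by_contra hcon
    have h5 : 5 ^ 2 ≤ p ^ f := (Nat.pow_le_pow_left h5 2).trans (Nat.pow_le_pow_right hp.pos (by omega))
    omega
  have h4' : p ≠ 6 := by rintro rfl; exact absurd hp (by norm_num)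
  have h5 : p = 5 ∨ p = 7 := by omega
  have h6 : f = 1 := by omega
  subst h6
  rcases h5 with rfl | rfl <;> decide

theorem le_seven8 {q : ℕ} (h : ncl 8 q ≤ 2701) : q ≤ 8 := by
  by_contra hq
  have h3 : 9 ^ 4 ≤ q ^ 4 := Nat.pow_le_pow_left (by omega) 4
  have h2 : 2701 < ncl 8 q := ncl_gt (by decide) (by
    show 2701 * 2 < q ^ 4 + 1
    omega)
  omega

variable {n : ℕ} {Y : Art.Sh} {e₀ p f : ℕ}

/-- the tables needed for one class -/
structure Tb (n : ℕ) (Y : Art.Sh) (e₀ : ℕ) : Prop where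
  hn : n ≤ 248
  hb : bndR n e₀ = true
  hs : svR5 n Y [e₀] = true
  hbS : bndS e₀ = true
  hsS : svS5 Y [e₀] = true
  he₀ : Cls e₀
  hle : ∀ q, ncl e₀ q ≤ 2701 → q ≤ 8

theorem tb_12 : Tb 52 .F4 12 where
  hn := by norm_num
  hb := bndR_52_12
  hs := svR5_12
  hbS := bndS_12
  hsS := svS5_12
  he₀ := by unfold Cls; omega
  hle := fun _ h => (le_seven12 h).trans (by norm_num)

theorem tb_8 : Tb 52 .F4 8 where
  hn := by norm_num
  hb := bndR_52_8
  hs := svR5_8
  hbS := bndS_8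
  hsS := svS5_8
  he₀ := by unfold Cls; omega
  hle := fun _ => le_seven8

theorem le_seven_of {p f : ℕ} (hp : p.Prime) (hf : 1 ≤ f) (h5 : 5 ≤ p) (h : p ^ f ≤ 8) : p ^ f ≤ 7 := by
  rcases Nat.lt_or_ge (p ^ f) 8 with h1 | h1
  · omega
  · exfalso
    have h2 : p ^ f = 2 ^ 3 := by omega
    have h3 : p ∣ 2 ^ 3 := by rw [← h2]; exact dvd_pow_self p (by omega)
    have h4 := (Nat.prime_dvd_prime_iff_eq hp Nat.prime_two).1 (hp.dvd_of_dvd_pow h3)
    omega

/-- **Cross characteristic.** -/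
theorem no_cross5 (T : Tb n Y e₀) {X : Art.Sh} {l a N : ℕ}
    (hR : Art.Real X l a N) (hlb : lb X (l ^ a) ≤ n) (hp : p.Prime) (h5 : 5 ≤ p) (hf : 1 ≤ f) (hpl : p ≠ l)
    (hcls : ncl e₀ (p ^ f) ∣ N) (hd : N ∣ OL Y (p ^ f)) : False := by
  obtain ⟨hn, hb, hs, -, -, he₀, hle⟩ := T
  obtain ⟨hl, ha, hokX, heq⟩ := hR
  have hq : 2 ≤ p ^ f := hp.two_le.trans (Nat.le_self_pow (by omega) p)
  have hreg := mem_reg hn hl ha hokX hlb
  have hs' : smooth (NA X l a) = true :=
    List.all_eq_true.1 smooth_reg (X, (l, a)) (mem_reg le_rfl hl ha hokX (hlb.trans hn))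
  have hsS : smooth (NS X l a) = true := by
    have h1 : NS X l a ∣ NA X l a := Dvd.intro_left _ rfl
    have h2 : NA X l a ∣ prs.prod ^ 100 := Nat.dvd_of_mod_eq_zero (by simpa [smooth] using hs')
    simpa [smooth] using Nat.mod_eq_zero_of_dvd (h1.trans h2)
  have hM : OL X (l ^ a) = Art.dd X (l ^ a) * N := by unfold OL; rw [numL_eq]; exact heq.symm
  have hNM : N ∣ OL X (l ^ a) := Dvd.intro_left _ hM.symm
  have hNS : ∀ r, r.Prime → r ∣ N → r ∣ NS X l a := by
    intro r hr h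
    unfold NS
    have h1 : r ∣ (l ^ a) ^ Art.NN X * numL X (l ^ a) := h.trans hNM
    rcases hr.dvd_mul.1 h1 with h2 | h2
    · exact (hr.dvd_of_dvd_pow (hr.dvd_of_dvd_pow h2)).mul_right _
    · exact h2.mul_left _
  have hb' := List.all_eq_true.1 hb (X, (l, a)) hreg
  simp only [Bool.and_eq_true, Nat.ble_eq, Nat.blt_eq] at hb'
  have hM0 : OL X (l ^ a) ≠ 0 := by
    intro h0
    have h3 : l ^ a ≠ 0 := pow_ne_zero _ hl.ne_zero
    have h4 : NS X l a ≠ 0 := by
      intro h5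
      have h6 : NS X l a ∣ prs.prod ^ 100 := Nat.dvd_of_mod_eq_zero (by simpa [smooth] using hsS)
      rw [h5] at h6
      have h7 := Nat.eq_zero_of_zero_dvd h6
      have h8 : prs.prod ≠ 0 := by decide +kernel
      exact pow_ne_zero 100 h8 h7
    apply h4
    unfold OL at h0
    rcases Nat.mul_eq_zero.1 h0 with h5 | h5
    · exact absurd h5 (pow_ne_zero _ h3)
    · unfold NS
      rw [h5, mul_zero]
  have h1 : ncl e₀ (p ^ f) ∣ De (pd (NS X l a)) (OL X (l ^ a)) e₀ := by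
    refine dvd_De hM0 hb'.2 (hcls.trans hNM) fun r hr hrd => ?_
    have hprim := prim_of_dvd he₀ (by omega) hr hrd
    exact ⟨mem_pd hsS hr (hNS r hr (hrd.trans hcls)), mod_of_prim hq (by
      have := he₀.ge
      omega) hprim⟩
  have h2 : ncl e₀ (p ^ f) ≤ 2701 := by
    have h3 : De (pd (NS X l a)) (OL X (l ^ a)) e₀ ≠ 0 := by
      unfold De
      intro h4
      rw [List.prod_eq_zero_iff, List.mem_map] at h4
      obtain ⟨r, -, h5⟩ := h4
      exact hM0 (Nat.eq_zero_of_gcd_eq_zero_left h5)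
    exact (Nat.le_of_dvd (Nat.pos_of_ne_zero h3) h1).trans hb'.1
  have h3 := mem_sm5 hp hf h5 (le_seven_of hp hf h5 (hle _ h2))
  have h4 := List.all_eq_true.1 (List.all_eq_true.1 hs (X, (l, a)) hreg) _ h3
  rw [tq_of (fun e he => (by rw [List.mem_singleton.1 he]; exact hcls.trans hNM)) hM hd] at h4
  simp at h4
  exact hpl h4

/-- **Sporadic groups.** -/
theorem no_spor5 (T : Tb n Y e₀) {x : Cfsg.Agent.OrdDiv.Grp × ℕ} (hx : x ∈ Cfsg.Agent.OrdDiv.spor)
    (hp : p.Prime) (h5 : 5 ≤ p) (hf : 1 ≤ f)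
    (hcls : ncl e₀ (p ^ f) ∣ x.2) (hd : x.2 ∣ OL Y (p ^ f)) : False := by
  obtain ⟨-, -, -, hb, hs, he₀, hle⟩ := T
  have hq : 2 ≤ p ^ f := hp.two_le.trans (Nat.le_self_pow (by omega) p)
  have hs' : smooth x.2 = true := List.all_eq_true.1 smooth_spor x hx
  have hb' := List.all_eq_true.1 hb x hx
  simp only [Bool.and_eq_true, Nat.ble_eq, Nat.blt_eq] at hb'
  have hM0 : x.2 ≠ 0 := by
    have : ∀ x ∈ Cfsg.Agent.OrdDiv.spor, x.2 ≠ 0 := by decide +kernel
    exact this x hx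
  have h1 : ncl e₀ (p ^ f) ∣ De (pd x.2) x.2 e₀ := by
    refine dvd_De hM0 hb'.2 hcls fun r hr hrd => ?_
    have hprim := prim_of_dvd he₀ (by omega) hr hrd
    exact ⟨mem_pd hs' hr (hrd.trans hcls), mod_of_prim hq (by
      have := he₀.ge
      omega) hprim⟩
  have h2 : ncl e₀ (p ^ f) ≤ 2701 := by
    have h3 : De (pd x.2) x.2 e₀ ≠ 0 := by
      unfold De
      intro h4
      rw [List.prod_eq_zero_iff, List.mem_map] at h4
      obtain ⟨r, -, h5⟩ := h4
      exact hM0 (Nat.eq_zero_of_gcd_eq_zero_left h5)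
    exact (Nat.le_of_dvd (Nat.pos_of_ne_zero h3) h1).trans hb'.1
  have h3 := mem_sm5 hp hf h5 (le_seven_of hp hf h5 (hle _ h2))
  have h4 := List.all_eq_true.1 (List.all_eq_true.1 hs x hx) _ h3
  rw [tq_of (fun e he => (by rw [List.mem_singleton.1 he]; exact hcls)) (one_mul _).symm hd] at h4
  simp at h4

end Cfsg.Agent.H406.Cov
end

-- part: H406/Cov/FTyp
section
/-!
# Orthogonal groups: root group data with all nodes over fields (helper406, after helper185's `H185.TypedO`)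

* `ftyped_odd` : `POmega F (quadFormOdd m F)`, type `B_m`, all nodes of order `q`;
* `ftyped_minus` : `POmega F (quadFormMinus m F a b)`, type `B_m`, the last node of order `q ^ 2`.
-/

set_option autoImplicit false

namespace Cfsg.Agent.H406.Cov

open QuadraticMap
open Cfsg Cfsg.Agent.LieClassical Cfsg.Agent.LieClassical.OrthCore Cfsg.Agent.LieClassical.OrthTrans
open Cfsg.Agent.LieClassical.OrthSimple Cfsg.Agent.LieClassical.OrthFinite Cfsg.Agent.LieClassical.OrthForms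
open Cfsg.Agent.ChevalleyStructure.CoxeterGeom Cfsg.Agent.Tits.Roots Cfsg.Agent.Nodes.TypeC
open Cfsg.Agent.Nodes.Comb Cfsg.Agent.Nodes.Reps Cfsg.Agent.Nodes.WittRoot Cfsg.Agent.Nodes.BNOf
open Cfsg.Agent.Nodes.WittRGD Cfsg.Agent.Nodes.RGDLib Cfsg.Agent.Nodes.WittModel Cfsg.Agent.Nodes.WittU
open Cfsg.Agent.TitsThree Cfsg.Agent.TitsThree.Siegel Cfsg.Agent.TitsThree.SiegelGen
  Cfsg.Agent.TitsThree.WittFrame Cfsg.Agent.TitsThree.WBridge Cfsg.Agent.TitsThree.WittWeyl
  Cfsg.Agent.TitsThree.FrameCN Cfsg.Agent.TitsThree.KSideO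
open Cfsg.Agent.FixBN.WittNodeA Cfsg.Agent.FixBN.WittNodeB
open Cfsg.Agent.FixBN.WittNodeO (vec vec_inl vec_inr0 vec_inr1 vec_add vec_smul vec_zero unvec unvec_vec vec_unvec
  vec_injective form_vec polar_vec exists_type cj' cj'_mul cj'_comm cj'_ne_zero vec_mem exists_vec isSolvable_T_of)
open Cfsg.Agent.H460.Typed Cfsg.Agent.H460.FTypWitt
open Cfsg.Agent.H185.TypedTw (FNode HasFTyped)
open Cfsg.Agent.H185.TypedO (isSolvable_minus ambT_minus)
open Cfsg.Agent.Nodes.WittAll (AmbT)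
open Cfsg.Agent.Nodes.WittInst (ambT_O amb_O_of_two fixp_minus)

variable {F : Type} [Field F] [Finite F] {p : ℕ} [Fact p.Prime] [CharP F p]

/-- **`PΩ_{2m+1}(q)`, `q` odd.** -/
theorem ftyped_odd {m : ℕ} (hm : 2 ≤ m) (h2 : (2 : F) ≠ 0) :
    HasFTyped p (Cfsg.POmega F (Cfsg.quadFormOdd m F)) (CoxeterMatrix.B m) (fun _ => Nat.card F) := by
  rw [← coe_oddForm]
  have hG : _root_.Cfsg.Agent.LieClassical.OrthTrans.Good (oddForm m F) := by
    apply good_of_finite (nondeg_oddForm m F h2)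
    rw [Module.finrank_fintype_fun_eq_card, Fintype.card_sum, Fintype.card_sum, Fintype.card_fin,
      Fintype.card_unit]
    omega
  let d : Unit ⊕ (Fin m ⊕ Fin m) → F := Pi.single (Sum.inl ()) 1
  have hd : d ∈ (wodd m F).V0 := fun j => by simp [d]
  have hQ : ∀ a : F, (oddForm m F) (a • d) = a ^ 2 := by
    intro a
    rw [coe_oddForm, quadFormOdd_apply]
    simp only [d, _root_.Pi.smul_apply, _root_.Pi.single_eq_same, _root_.smul_eq_mul, _root_.mul_one, _root_.ne_eq, _root_.reduceCtorEq, _root_.not_false_eq_true, _root_.Pi.single_eq_of_ne, _root_.MulZeroClass.mul_zero, _root_.Finset.sum_const_zero, _root_.add_zero]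
  have hW : (wodd m F).V0 = Submodule.span F {d} := by
    ext v
    rw [Submodule.mem_span_singleton]
    constructor
    · intro hv
      have hv' : ∀ j, v (Sum.inr j) = 0 := hv
      refine ⟨v (Sum.inl ()), ?_⟩
      funext j
      rcases j with j | j
      · simp [d]
      · simp [d, hv']
    · rintro ⟨c, rfl⟩
      exact Submodule.smul_mem _ _ hd
  let f : F → (toFrame (wodd m F)).Adm := fun a =>
    ⟨a • d, -a ^ 2, Submodule.smul_mem _ _ hd, by rw [← hQ]; rfl⟩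
  have hp0 : (f 1).c ≠ 0 := by show -(1 : F) ^ 2 ≠ 0; simp
  refine hasTyped_model (model (wodd m F) hG ⟨f 1, hp0⟩) (AmbT.of_amb (amb_O_of_two _ h2) p) hp0 (by omega) ?_
    (fun _ _ => rfl) ?_
  · exact Cfsg.Agent.FixBN.WittNodeC.isSolvable_T _ fun g k hg hk =>
      Cfsg.Agent.FixBN.WittNodeC.comm_Tor _ (amb_O_of_two _ h2) d hW hg hk
  · intro R i hi
    have hpol : ∀ a b : F, polar (oddForm m F) (a • d) (b • d) = 2 * a * b := by
      intro a b
      rw [polar_oddForm]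
      simp only [d, _root_.Pi.smul_apply, _root_.Pi.single_eq_same, _root_.smul_eq_mul, _root_.mul_one, _root_.ne_eq, _root_.reduceCtorEq, _root_.not_false_eq_true, _root_.Pi.single_eq_of_ne, _root_.MulZeroClass.mul_zero, _root_.add_zero, _root_.Finset.sum_const_zero]
    refine typedAt_Z hp0 R hi f ?_ ?_ ?_ ?_ ?_
    · intro a b
      apply Frame.Adm.ext
      · show (a + b) • d = a • d + b • d
        rw [add_smul]
      · show -(a + b) ^ 2 = -a ^ 2 + -b ^ 2 - (1 : F)⁻¹ * polar (oddForm m F) (b • d) (a • d)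
        rw [hpol]; ring
    · rintro ⟨w, c, hw, hok⟩
      obtain ⟨a, rfl⟩ : ∃ a : F, a • d = w := by
        rw [hW] at hw
        exact Submodule.mem_span_singleton.1 hw
      have h3 : c = -(oddForm m F) (a • d) := hok
      rw [hQ] at h3
      subst h3
      exact ⟨a, rfl⟩
    · intro a ha
      change -a ^ 2 = 0 at ha
      simpa using ha
    · intro a ha
      show ((1 : F)⁻¹ * -(1 : F) ^ 2 * (-a ^ 2)⁻¹) • (a • d + ((1 : F)⁻¹ * (-(1 : F) ^ 2)⁻¹ *
        polar (oddForm m F) (a • d) ((1 : F) • d)) • ((1 : F) • d)) = (-a⁻¹) • d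
      rw [hpol, smul_smul, ← add_smul, smul_smul]
      congr 1
      field_simp
      ring
    · intro a ha
      show (1 : F)⁻¹ * (-(1 : F) ^ 2 * -(1 : F) ^ 2) * (-a ^ 2)⁻¹ = -(-a⁻¹) ^ 2
      field_simp

open scoped QuadraticAlgebra in
/-- **`PΩ⁻_{2m+2}(q)`, every characteristic.** -/
theorem ftyped_minus {m : ℕ} (hm : 2 ≤ m) (a b : F)
    (hab : ∀ z₁ z₂ : F, z₁ ^ 2 + a * z₁ * z₂ + b * z₂ ^ 2 = 0 → z₁ = 0 ∧ z₂ = 0) :
    HasFTyped p (Cfsg.POmega F (Cfsg.quadFormMinus m F a b)) (CoxeterMatrix.B m)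
      (fun i => if (i : ℕ) + 1 < m then Nat.card F else Nat.card F ^ 2) := by
  have Hab : Fact (∀ r : F, r ^ 2 ≠ -b + a * r) := ⟨fun r hr => by
    have h3 := (hab (-r) 1 (by linear_combination hr)).2
    exact one_ne_zero h3⟩
  rw [← coe_minusForm]
  have hG : _root_.Cfsg.Agent.LieClassical.OrthTrans.Good (minusForm m F a b) := by
    apply good_of_finite (nondeg_minusForm m F a b hab)
    rw [Module.finrank_fintype_fun_eq_card, Fintype.card_sum, Fintype.card_sum, Fintype.card_fin,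
      Fintype.card_fin]
    omega
  have hA : AmbT (toFrame (wminus m F a b hab)) p (E (minusForm m F a b)) := ambT_minus hm a b hab hG
  let f : QuadraticAlgebra F (-b) a → (toFrame (wminus m F a b hab)).Adm := fun z =>
    ⟨vec m a b z, -z.norm, vec_mem hab z, by rw [← form_vec (m := m)]; rfl⟩
  have hp0 : (f 1).c ≠ 0 := by
    show -(1 : QuadraticAlgebra F (-b) a).norm ≠ 0
    rw [map_one]; simp
  have hfinE : Finite (QuadraticAlgebra F (-b) a) := Finite.of_equiv _ (QuadraticAlgebra.equivProd (-b) a).symm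
  have hcard : Nat.card (QuadraticAlgebra F (-b) a) = Nat.card F ^ 2 := by
    rw [Nat.card_congr (QuadraticAlgebra.equivProd (-b) a), Nat.card_prod, _root_.sq]
  have hI : Group.IsSolvable (T (model (wminus m F a b hab) hG ⟨f 1, hp0⟩)) := isSolvable_minus hab hA _ rfl
  refine hasTyped_model (model (wminus m F a b hab) hG ⟨f 1, hp0⟩) hA hp0 (by omega) hI
    (fun i hi => if_pos hi) ?_
  intro R i hi
  rw [if_neg hi, ← hcard]
  refine typedAt_Z hp0 R hi f ?_ ?_ ?_ ?_ ?_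
  · intro z w
    apply Frame.Adm.ext
    · exact vec_add z w
    · show -(z + w).norm = -z.norm + -w.norm - (1 : F)⁻¹ * polar (minusForm m F a b) (vec m a b w) (vec m a b z)
      rw [polar_vec]
      simp only [QuadraticAlgebra.norm_def, QuadraticAlgebra.re_add, QuadraticAlgebra.im_add]
      ring
  · rintro ⟨w, c, hw, hok⟩
    obtain ⟨z, rfl⟩ := exists_vec hab hw
    have h3 : c = -(minusForm m F a b) (vec m a b z) := hok
    rw [form_vec] at h3
    subst h3
    exact ⟨z, rfl⟩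
  · intro z hz
    change -z.norm = 0 at hz
    exact QuadraticAlgebra.norm_eq_zero_iff_eq_zero.1 (neg_eq_zero.1 hz)
  · intro z hz
    have hn : z.norm ≠ 0 := fun h => hz (QuadraticAlgebra.norm_eq_zero_iff_eq_zero.1 h)
    show ((1 : F)⁻¹ * -(1 : QuadraticAlgebra F (-b) a).norm * (-z.norm)⁻¹) • (vec m a b z +
      ((1 : F)⁻¹ * (-(1 : QuadraticAlgebra F (-b) a).norm)⁻¹ *
        polar (minusForm m F a b) (vec m a b z) (vec m a b 1)) • vec m a b 1) = vec m a b (-z⁻¹)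
    rw [polar_vec, ← vec_smul, ← vec_add, ← vec_smul]
    congr 1
    rw [QuadraticAlgebra.inv_def, map_one]
    ext
    · simp only [QuadraticAlgebra.re_smul, QuadraticAlgebra.re_add, QuadraticAlgebra.re_neg, QuadraticAlgebra.re_star,
        QuadraticAlgebra.re_one, QuadraticAlgebra.im_one, smul_eq_mul]
      field_simp
      ring
    · simp only [QuadraticAlgebra.im_smul, QuadraticAlgebra.im_add, QuadraticAlgebra.im_neg, QuadraticAlgebra.im_star,
        QuadraticAlgebra.re_one, QuadraticAlgebra.im_one, smul_eq_mul]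
      field_simp
      ring
  · intro z hz
    have hn : z.norm ≠ 0 := fun h => hz (QuadraticAlgebra.norm_eq_zero_iff_eq_zero.1 h)
    show (1 : F)⁻¹ * (-(1 : QuadraticAlgebra F (-b) a).norm * -(1 : QuadraticAlgebra F (-b) a).norm) * (-z.norm)⁻¹ =
      -(-z⁻¹).norm
    have h3 : (-z⁻¹).norm = z.norm⁻¹ := by
      rw [QuadraticAlgebra.norm_neg, eq_comm, inv_eq_of_mul_eq_one_right]
      rw [← map_mul, mul_inv_cancel₀ hz, map_one]
    rw [h3, map_one]
    field_simp


end Cfsg.Agent.H406.Cov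
end

-- part: H406/Cov/Elim1
section
/-!
# One class of tori of `F₄(p ^ f)`, `p ≥ 5`, with the field restriction from regular unipotent elements: numbers
(helper406)

* `NF g f₁ f` : what the nodes of the group `g` over `p ^ f₁` give: `f₁ ∣ f` etc.
* `elim_one` : only `F₄(q)`, and, for class 8, `PSp₈(q)`, `Ω₉(q)`, `PΩ⁺₁₀(q)`.
-/

set_option autoImplicit false

namespace Cfsg.Agent.H406.Cov

open Cfsg.Agent.OrdDiv Cfsg.Agent.H436 Cfsg.Agent.H915.GN Cfsg.Agent.H264.GN Cfsg.Agent.H264.FKS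
open Cfsg.Agent.H325.Same

variable {p f c f₁ : ℕ} {g : Grp}

/-- the restriction of the field -/
def NF (g : Grp) (f₁ f : ℕ) : Prop :=
  match g with
  | .psl _ _ => f₁ ∣ f
  | .psp _ _ => f₁ ∣ f
  | .psu m _ => (m = 3 ∨ m = 4) → 2 * f₁ ∣ f
  | .oodd _ _ => f₁ ∣ f
  | .oplus _ _ => f₁ ∣ f
  | .ominus _ _ => 2 * f₁ ∣ f
  | .g2 _ => f₁ ∣ f
  | .f4 _ => f₁ ∣ f
  | .e6 _ => f₁ ∣ f
  | .e7 _ => f₁ ∣ f
  | .e8 _ => f₁ ∣ f
  | .td4 _ => 3 * f₁ ∣ f
  | _ => True

theorem mul_cancel {c k i M : ℕ} (hf₁ : 1 ≤ f₁) (h : f₁ * M = c * f₁ * k * i) : M = c * (k * i) := by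
  have h1 : f₁ * M = f₁ * (c * (k * i)) := by rw [h]; ring
  exact Nat.eq_of_mul_eq_mul_left hf₁ h1

theorem not_two_pow (hp : p.Prime) (h5 : 5 ≤ p) (hf₁ : 1 ≤ f₁) {m : ℕ} {b : ℕ} (hb : b.Prime) (hb3 : b ≤ 3)
    (h : p ^ f₁ = b ^ m) : False := by
  have h4 : p ∣ b ^ m := by
    rw [← h]
    exact dvd_pow_self p (by omega)
  have h6 := (Nat.prime_dvd_prime_iff_eq hp hb).1 (hp.dvd_of_dvd_pow h4)
  omega

/-- **The elimination.** -/
theorem elim_one (hp : p.Prime) (h5 : 5 ≤ p) (hg : Cond g) (hch : HasChar p g) {i : ℕ} (hi : i ∈ [2, 6, 8, 12])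
    (hei : 8 ≤ i) (hf₁ : 1 ≤ f₁) (hf : 1 ≤ f) (hfl : fld g = p ^ f₁) (hfM : f₁ * Mg g = f * i) (h2 : ag g * i ≤ 24 * Mg g)
    (hY : ∀ k, (k = 4 ∨ k = 5 ∨ 7 ≤ k) → Yg g k → ∃ j, j ∈ [2, 6, 8, 12] ∧ i * k ∣ Mg g * j) (hN : NF g f₁ f) :
    g = .f4 (p ^ f) ∨ (i = 8 ∧ (g = .psp 4 (p ^ f) ∨ g = .oodd 4 (p ^ f) ∨ g = .oplus 5 (p ^ f))) := by
  have hi2 : i = 8 ∨ i = 12 := by
    simp only [List.mem_cons, List.not_mem_nil, or_false] at hi
    omega
  have h6 : 2 * ag g ≤ 6 * Mg g := by rcases hi2 with rfl | rfl <;> omega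
  have hkp : ∀ {c : ℕ}, c * f₁ ∣ f → ∃ k, 1 ≤ k ∧ f = c * f₁ * k ∧ Mg g = c * (k * i) := by
    rintro c ⟨k, rfl⟩
    exact ⟨k, Nat.one_le_iff_ne_zero.2 (by rintro rfl; simp at hf), rfl, mul_cancel hf₁ hfM⟩
  have hkp1 : f₁ ∣ f → ∃ k, 1 ≤ k ∧ f = f₁ * k ∧ Mg g = k * i := by
    intro h
    obtain ⟨k, h1, h2, h3⟩ := hkp (c := 1) (by rwa [one_mul])
    exact ⟨k, h1, by rw [h2, one_mul], by rw [h3, one_mul]⟩
  cases g
  case psl m q =>
    exfalso
    obtain ⟨hm, -, -⟩ := hg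
    have hb := bd_psl (ρ := 6) (by omega) h6
    obtain ⟨k, hk, -, hM⟩ := hkp1 hN
    have hM' : m = k * i := hM
    have : 1 * i ≤ k * i := Nat.mul_le_mul_right _ hk
    omega
  case psp m q =>
    obtain ⟨hm, -, -⟩ := hg
    have hb := bd_psp (ρ := 6) (by omega) h6
    obtain ⟨k, hk, hfk, hM⟩ := hkp1 hN
    have hM' : 2 * m = k * i := hM
    rcases hi2 with rfl | rfl
    · obtain rfl : k = 1 := by omega
      obtain rfl : m = 4 := by omega
      obtain rfl : q = p ^ f₁ := hfl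
      right
      exact ⟨rfl, Or.inl (by rw [hfk, mul_one])⟩
    · exfalso
      obtain rfl : m = 6 := by omega
      have h7 : 6 ^ 2 * 12 ≤ 24 * (2 * 6) := h2
      omega
  case oodd m q =>
    obtain ⟨hm, -, -⟩ := hg
    have hb := bd_psp (ρ := 6) (by omega) h6
    obtain ⟨k, hk, hfk, hM⟩ := hkp1 hN
    have hM' : 2 * m = k * i := hM
    rcases hi2 with rfl | rfl
    · obtain rfl : k = 1 := by omega
      obtain rfl : m = 4 := by omega
      obtain rfl : q = p ^ f₁ := hfl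
      right
      exact ⟨rfl, Or.inr (Or.inl (by rw [hfk, mul_one]))⟩
    · exfalso
      obtain rfl : m = 6 := by omega
      have h7 : 6 ^ 2 * 12 ≤ 24 * (2 * 6) := h2
      omega
  case oplus m q =>
    obtain ⟨hm, -⟩ := hg
    have hb := bd_oplus (ρ := 6) (by omega) h6
    obtain ⟨k, hk, hfk, hM⟩ := hkp1 hN
    have hM' : 2 * (m - 1) = k * i := hM
    rcases hi2 with rfl | rfl
    · obtain rfl : k = 1 := by omega
      obtain rfl : m = 5 := by omega
      obtain rfl : q = p ^ f₁ := hfl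
      right
      exact ⟨rfl, Or.inr (Or.inr (by rw [hfk, mul_one]))⟩
    · omega
  case ominus m q =>
    exfalso
    obtain ⟨hm, -⟩ := hg
    have hb := bd_ominus (ρ := 6) (by omega) h6
    obtain ⟨k, hk, hfk, hM⟩ := hkp (c := 2) hN
    have hM' : 2 * m = 2 * (k * i) := hM
    have : 1 * i ≤ k * i := Nat.mul_le_mul_right _ hk
    omega
  case psu m q =>
    exfalso
    obtain ⟨hm, -, -⟩ := hg
    obtain ⟨M', hM'⟩ : ∃ k, k = (if m % 2 = 0 then m - 1 else m) := ⟨_, rfl⟩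
    have hM1 : (m % 2 = 0 ∧ M' = m - 1) ∨ (m % 2 = 1 ∧ M' = m) := by
      rw [hM']
      split_ifs <;> omega
    have hM : Mg (.psu m q) = 2 * M' := by rw [hM']; rfl
    have hodd : M' % 2 = 1 := by omega
    by_cases hm4 : m = 3 ∨ m = 4
    · obtain ⟨k, hk, hfk, h7⟩ := hkp (c := 2) (hN hm4)
      rw [hM] at h7
      have h8 : M' = k * i := by omega
      rcases hi2 with rfl | rfl <;> omega
    · obtain ⟨j, hj, hjd⟩ := hY 4 (Or.inl rfl) ⟨by norm_num, Or.inl ⟨by omega, rfl⟩⟩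
      rw [hM] at hjd
      obtain ⟨t, ht⟩ := hjd
      simp only [List.mem_cons, List.not_mem_nil, or_false] at hj
      rcases hi2 with rfl | rfl
      · rcases hj with rfl | rfl | rfl | rfl <;> omega
      · have h4 : 2 * ag (.psu m q) ≤ 4 * Mg (.psu m q) := by (clear * - h2; omega)
        have hb := bd_psu (ρ := 4) hm h4
        have hm9 : m = 9 := by rcases hj with rfl | rfl | rfl | rfl <;> (clear * - hodd ht hm hM1 hm4 hb; omega)
        subst hm9
        have hM9 : M' = 9 := by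
          rcases hM1 with ⟨h, -⟩ | ⟨-, h⟩
          · exact absurd h (by norm_num)
          · exact h
        obtain ⟨j', hj', hjd'⟩ := hY 8 (by norm_num) ⟨by norm_num, Or.inl ⟨by norm_num, rfl⟩⟩
        rw [hM] at hjd'
        simp only [List.mem_cons, List.not_mem_nil, or_false] at hj'
        rw [hM9] at hjd'
        clear hj ht hM' hM1 hM hodd hb h4
        rcases hj' with rfl | rfl | rfl | rfl <;> revert hjd' <;> norm_num
  case te6 q =>
    exfalso
    obtain ⟨j, hj, hjd⟩ := hY 10 (by norm_num) (show 10 ∈ [2, 3, 4, 6, 8, 10, 12, 18] by decide)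
    have hjd' : i * 10 ∣ 18 * j := hjd
    simp only [List.mem_cons, List.not_mem_nil, or_false] at hj
    rcases hi2 with rfl | rfl <;> (clear * - hj hjd'; omega)
  case g2 q =>
    exfalso
    obtain ⟨k, hk, hfk, hM⟩ := hkp1 hN
    have hM' : 6 = k * i := hM
    have : 1 * i ≤ k * i := Nat.mul_le_mul_right _ hk
    omega
  case f4 q =>
    obtain ⟨k, hk, hfk, hM⟩ := hkp1 hN
    have hM' : 12 = k * i := hM
    obtain rfl : q = p ^ f₁ := hfl
    left
    have : k = 1 := by rcases hi2 with rfl | rfl <;> omega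
    subst this
    rw [hfk, mul_one]
  case e6 q =>
    exfalso
    obtain ⟨k, hk, hfk, hM⟩ := hkp1 hN
    have hM' : 12 = k * i := hM
    have h7 : 36 * i ≤ 24 * 12 := h2
    rcases hi2 with rfl | rfl <;> omega
  case e7 q =>
    exfalso
    have h7 : 63 * i ≤ 24 * 18 := h2
    omega
  case e8 q =>
    exfalso
    have h7 : 120 * i ≤ 24 * 30 := h2
    omega
  case td4 q =>
    exfalso
    obtain ⟨k, hk, hfk, hM⟩ := hkp (c := 3) hN
    have hM' : 12 = 3 * (k * i) := hM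
    have : 1 * i ≤ k * i := Nat.mul_le_mul_right _ hk
    omega
  case sz q =>
    exfalso
    obtain rfl : q = p ^ f₁ := hfl
    obtain ⟨m, hm, hqm⟩ : ∃ m, 1 ≤ m ∧ p ^ f₁ = 2 ^ (2 * m + 1) := hg
    exact not_two_pow hp h5 hf₁ Nat.prime_two (by norm_num) hqm
  case ree q =>
    exfalso
    obtain rfl : q = p ^ f₁ := hfl
    obtain ⟨m, hm, hqm⟩ : ∃ m, 1 ≤ m ∧ p ^ f₁ = 3 ^ (2 * m + 1) := hg
    exact not_two_pow hp h5 hf₁ Nat.prime_three (by norm_num) hqm
  case tf4 q =>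
    exfalso
    obtain rfl : q = p ^ f₁ := hfl
    obtain ⟨m, hm, hqm⟩ : ∃ m, 1 ≤ m ∧ p ^ f₁ = 2 ^ (2 * m + 1) := hg
    exact not_two_pow hp h5 hf₁ Nat.prime_two (by norm_num) hqm
  all_goals exact absurd hch not_false

end Cfsg.Agent.H406.Cov
end

-- part: H406/Cov/Nf
section
/-!
# The restriction of the field by the nodes (helper406)

* `nd_psu3` : `PSU₃(q)` has a torus element of order `(q² - 1) / (3, q + 1)` normalizing a Sylow `p`-subgroup;
* `nf_of` : the field restriction `NF` for the groups of Lie type in characteristic `p`.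
-/

set_option autoImplicit false

namespace Cfsg.Agent.H406.Cov

open Cfsg Cfsg.Agent.OrdDiv Cfsg.Agent.H436 Cfsg.Agent.H915.GN Cfsg.Agent.H264.FKS Cfsg.Lie
open Cfsg.Agent.Nodes.RGDChev (IsType typeList)
open Cfsg.Agent.H185.TypedTw (FNode HasFTyped)

theorem charP_of {F : Type} [Field F] [Fintype F] {p n : ℕ} (hp : p.Prime) (h : Fintype.card F = p ^ n) :
    CharP F p := by
  obtain ⟨r, hr⟩ := CharP.exists F
  obtain ⟨k, hk1, hk2⟩ := FiniteField.card F r
  have h1 : r ∣ p ^ n := by rw [← h, hk2]; exact dvd_pow_self r k.pos.ne'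
  rw [← (Nat.prime_dvd_prime_iff_eq hk1 hp).1 (hk1.dvd_of_dvd_pow h1)]
  exact hr

theorem simple_of {S K : Type*} [Group S] [Group K] [hS : IsSimpleGroup S] (e : S ≃* K) : IsSimpleGroup K := by
  have : Nontrivial K := e.symm.toEquiv.nontrivial
  exact IsSimpleGroup.isSimpleGroup_of_surjective e.toMonoidHom e.surjective

theorem nd_iso {p : ℕ} [Fact p.Prime] {S K : Type*} [Group S] [Finite S] [IsSimpleGroup S] [Group K] (e : S ≃* K)
    {l : ℕ} {M : CoxeterMatrix (Fin l)} {Q : Fin l → ℕ} (T : HasFTyped p K M Q) (i : Fin l) : ND p S (Q i) := by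
  have : Finite K := Finite.of_equiv S e.toEquiv
  have : IsSimpleGroup K := simple_of e
  exact (nd_of_ftyped T i).of_equiv e.symm

/-- **`PSU₃(q)`.** -/
theorem nd_psu3 {F : Type} [Field F] [Fintype F] {q p : ℕ} [hp : Fact p.Prime] [CharP F p] {f₁ : ℕ} (hq : q = p ^ f₁)
    (hf₁ : 1 ≤ f₁) (hF : Fintype.card F = q ^ 2)
    (hN : Nat.gcd 3 (q + 1) * (q + 1) * Nat.card (PSU 3 F q) = q ^ 3 * prU q 3) : ND p (PSU 3 F q) (q ^ 2) := by
  have hpq : p ∣ q := hq ▸ dvd_pow_self p (by omega)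
  have hq1 : 1 < q := lt_of_lt_of_le hp.out.one_lt (Nat.le_of_dvd (by rw [hq]; exact pow_pos hp.out.pos _) hpq)
  obtain ⟨B, U, c, w, R⟩ := Cfsg.Agent.H188.Der.exists_ro (F := F) (p := p) hF hq1
  have hfin : Finite (PSU 3 F q) := Quotient.finite _
  have hsub : ∀ {n : ℕ}, 1 ≤ n → ¬ p ∣ q ^ n - 1 := by
    intro n hn h
    have h1 : p ∣ q ^ n := hpq.trans (dvd_pow_self q (by omega))
    have h2 : 1 ≤ q ^ n := Nat.one_le_pow _ _ (by omega)
    have h3 := Nat.dvd_sub h1 h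
    rw [Nat.sub_sub_self h2] at h3
    exact hp.out.one_lt.ne' (Nat.dvd_one.1 h3)
  have hadd : ∀ {n : ℕ}, 1 ≤ n → ¬ p ∣ q ^ n + 1 := by
    intro n hn h
    have h1 : p ∣ q ^ n := hpq.trans (dvd_pow_self q (by omega))
    exact hp.out.one_lt.ne' (Nat.dvd_one.1 ((Nat.dvd_add_right h1).1 h))
  have hpr : ¬ p ∣ prU q 3 := by
    have h1 : prU q 3 = (q ^ 1 + 1) * ((q ^ 2 - 1) * (q ^ 3 + 1)) := by
      simp only [prU, List.range_succ, _root_.Nat.beq_eq, _root_.List.range_zero, _root_.List.nil_append, _root_.List.cons_append, _root_.List.map_cons, _root_.Nat.zero_mod, ↓ _root_.reduceIte, _root_.zero_add, _root_.pow_one, _root_.Nat.mod_succ, _root_.one_ne_zero, _root_.Nat.reduceAdd, _root_.Nat.mod_self, _root_.List.map_nil, _root_.List.prod_cons, _root_.List.prod_nil, _root_.mul_one]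
    rw [h1]
    intro h
    rcases hp.out.dvd_mul.1 h with h | h
    · exact hadd le_rfl h
    rcases hp.out.dvd_mul.1 h with h | h
    · exact hsub (by norm_num) h
    · exact hadd (by norm_num) h
  have hidx : ¬ p ∣ U.index := by
    intro h
    apply hpr
    rw [← U.index_mul_card, R.cardU] at hN
    have h3 : 0 < q ^ 3 := by positivity
    have h4 : Nat.gcd 3 (q + 1) * (q + 1) * U.index = prU q 3 := by
      apply Nat.eq_of_mul_eq_mul_right h3
      rw [mul_assoc, hN]; ring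
    rw [← h4]
    exact h.mul_left _
  let P : Sylow p (PSU 3 F q) := R.pU.toSylow hidx
  have hPU : ∀ x, x ∈ P ↔ x ∈ U := fun x => Iff.rfl
  refine ⟨P, c, Nat.gcd 3 (q + 1), ?_, Nat.gcd_pos_of_pos_left _ (by norm_num), Nat.gcd_le_left _ (by norm_num), ?_⟩
  · refine Subgroup.mem_normalizer_iff.2 fun y => ?_
    constructor
    · intro hy
      exact R.data.norm c R.cB y hy
    · intro hy
      have h1 : c⁻¹ * (c * y * c⁻¹) * c⁻¹⁻¹ ∈ U := R.data.norm c⁻¹ (inv_mem R.cB) _ hy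
      have h2 : c⁻¹ * (c * y * c⁻¹) * c⁻¹⁻¹ = y := by group
      rw [h2] at h1
      exact h1
  · intro k hk
    have hkU : c ^ k ∈ U := hk
    -- the order of `c ^ k` is prime to `p`
    have hd : Nat.gcd 3 (q + 1) ∣ q ^ 2 - 1 := by
      have h1 : q ^ 2 - 1 = (q + 1) * (q - 1) := by
        have := Nat.sq_sub_sq q 1
        rwa [one_pow] at this
      rw [h1]
      exact (Nat.gcd_dvd_right _ _).mul_right _
    have hc1 : c ^ k = 1 := by
      have h1 : orderOf (c ^ k) ∣ q ^ 2 - 1 := by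
        refine (orderOf_dvd_of_pow_eq_one (n := orderOf c) ?_).trans ?_
        · rw [← pow_mul, mul_comm, pow_mul, pow_orderOf_eq_one, one_pow]
        · rw [R.oc]
          exact Nat.div_dvd_of_dvd hd
      obtain ⟨j, hj⟩ := (IsPGroup.iff_orderOf.1 R.pU) ⟨c ^ k, hkU⟩
      rw [Subgroup.orderOf_mk] at hj
      rw [← orderOf_eq_one_iff]
      rcases Nat.eq_zero_or_pos j with rfl | hj0
      · rw [hj, pow_zero]
      · exfalso
        apply hsub (n := 2) (by norm_num)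
        refine dvd_trans ?_ h1
        rw [hj]
        exact dvd_pow_self p hj0.ne'
    have h1 : orderOf c ∣ k := orderOf_dvd_of_pow_eq_one hc1
    rw [R.oc] at h1
    obtain ⟨j, rfl⟩ := h1
    rw [← mul_assoc, Nat.mul_div_cancel' hd]
    exact Dvd.intro _ rfl

variable {p f f₁ : ℕ} {g : Grp}

/-- **The field restriction.** -/
theorem nf_of {S : Type} [Group S] [Finite S] [IsSimpleGroup S] (hp : p.Prime) (h5 : 5 ≤ p) (hg : IsNamed g S)
    (hfl : fld g = p ^ f₁) (hf₁ : 1 ≤ f₁) (H : ∀ a, 1 ≤ a → ND p S (p ^ a) → a ∣ f) : NF g f₁ f := by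
  have hpf := Fact.mk hp
  obtain ⟨hr, hc, he, -⟩ := hg
  cases g
  case psl m q =>
    obtain ⟨F, _, _, hF, ⟨e⟩⟩ := hr
    obtain rfl : q = p ^ f₁ := hfl
    have := charP_of hp hF
    obtain ⟨n, rfl⟩ : ∃ n, m = n + 1 := ⟨m - 1, by have := hc.1; omega⟩
    have h1 := nd_iso e (Cfsg.Agent.H460.FTypedAE.ftyped_psl F (p := p) (n := n) (by have := hc.1; omega))
      ⟨0, by have := hc.1; omega⟩
    rw [Nat.card_eq_fintype_card, hF] at h1
    exact H f₁ hf₁ h1
  case psp m q =>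
    obtain ⟨F, _, _, hF, ⟨e⟩⟩ := hr
    obtain rfl : q = p ^ f₁ := hfl
    have := charP_of hp hF
    have h1 := nd_iso e (Cfsg.Agent.H460.FTypC.ftyped_psp F (p := p) (m := m) (by have := hc.1; omega))
      ⟨0, by have := hc.1; omega⟩
    rw [Nat.card_eq_fintype_card, hF] at h1
    exact H f₁ hf₁ h1
  case psu m q =>
    obtain ⟨F, _, _, hF, ⟨e⟩⟩ := hr
    obtain rfl : q = p ^ f₁ := hfl
    have := charP_of (n := f₁ * 2) hp (by rw [hF, pow_mul])
    rintro (rfl | rfl)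
    · have hN : Nat.gcd 3 (p ^ f₁ + 1) * (p ^ f₁ + 1) * Nat.card (PSU 3 F (p ^ f₁)) = (p ^ f₁) ^ 3 * prU (p ^ f₁) 3 := by
        rw [← Nat.card_congr e.toEquiv]
        exact he
      have h1 := (nd_psu3 (F := F) rfl hf₁ hF hN).of_equiv e.symm
      rw [← pow_mul, mul_comm] at h1
      exact H (2 * f₁) (by omega) h1
    · have h1 := nd_iso e (Cfsg.Agent.H460.FTypC.ftyped_psu_even (p := p) hF (m := 2) le_rfl) ⟨0, by norm_num⟩
      rw [if_pos (by norm_num), ← pow_mul, mul_comm] at h1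
      exact H (2 * f₁) (by omega) h1
  case oodd m q =>
    obtain ⟨F, _, _, hF, ⟨e⟩⟩ := hr
    obtain rfl : q = p ^ f₁ := hfl
    have := charP_of hp hF
    have h2 : (2 : F) ≠ 0 := by
      intro h
      have h3 : p ∣ 2 := (CharP.cast_eq_zero_iff F p 2).1 (by exact_mod_cast h)
      have := Nat.le_of_dvd (by norm_num) h3
      omega
    have h1 := nd_iso e (ftyped_odd (F := F) (p := p) (m := m) (by have := hc.1; omega) h2)
      ⟨0, by have := hc.1; omega⟩
    rw [Nat.card_eq_fintype_card, hF] at h1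
    exact H f₁ hf₁ h1
  case oplus m q =>
    obtain ⟨F, _, _, hF, ⟨e⟩⟩ := hr
    obtain rfl : q = p ^ f₁ := hfl
    have := charP_of hp hF
    have h1 := nd_iso e (Cfsg.Agent.H460.FTypO.ftyped_plus (F := F) (p := p) (m := m) (by have := hc.1; omega))
      ⟨0, by omega⟩
    rw [Nat.card_eq_fintype_card, hF] at h1
    exact H f₁ hf₁ h1
  case ominus m q =>
    obtain ⟨F, _, _, a, b, hF, hab, ⟨e⟩⟩ := hr
    obtain rfl : q = p ^ f₁ := hfl
    have := charP_of hp hF
    have hm : 2 ≤ m - 1 := by have := hc.1; omega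
    have h1 := nd_iso e (ftyped_minus (F := F) (p := p) (m := m - 1) hm a b hab) ⟨m - 2, by omega⟩
    rw [if_neg (by show ¬ (m - 2 + 1 < m - 1); omega), Nat.card_eq_fintype_card, hF, ← pow_mul, mul_comm] at h1
    exact H (2 * f₁) (by omega) h1
  case g2 q =>
    obtain ⟨F, _, _, hF, ⟨e⟩⟩ := hr
    obtain rfl : q = p ^ f₁ := hfl
    have := charP_of hp hF
    have h1 := nd_iso e (Cfsg.Agent.H460.FTypedAE.ftyped_chev (D := chevG2) (l := 2) (M := CoxeterMatrix.G₂)
      (by simp [IsType, typeList]) F p) ⟨0, by norm_num⟩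
    rw [Nat.card_eq_fintype_card, hF] at h1
    exact H f₁ hf₁ h1
  case f4 q =>
    obtain ⟨F, _, _, hF, ⟨e⟩⟩ := hr
    obtain rfl : q = p ^ f₁ := hfl
    have := charP_of hp hF
    have h1 := nd_iso e (Cfsg.Agent.H460.FTypedAE.ftyped_chev (D := chevF4) (l := 4) (M := CoxeterMatrix.F₄)
      (by simp [IsType, typeList]) F p) ⟨0, by norm_num⟩
    rw [Nat.card_eq_fintype_card, hF] at h1
    exact H f₁ hf₁ h1
  case e6 q =>
    obtain ⟨F, _, _, hF, ⟨e⟩⟩ := hr
    obtain rfl : q = p ^ f₁ := hfl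
    have := charP_of hp hF
    have h1 := nd_iso e (Cfsg.Agent.H460.FTypedAE.ftyped_chev (D := chevE6) (l := 6) (M := CoxeterMatrix.E₆)
      (by simp [IsType, typeList]) F p) ⟨0, by norm_num⟩
    rw [Nat.card_eq_fintype_card, hF] at h1
    exact H f₁ hf₁ h1
  case e7 q =>
    obtain ⟨F, _, _, hF, ⟨e⟩⟩ := hr
    obtain rfl : q = p ^ f₁ := hfl
    have := charP_of hp hF
    have h1 := nd_iso e (Cfsg.Agent.H460.FTypedAE.ftyped_chev (D := chevE7) (l := 7) (M := CoxeterMatrix.E₇)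
      (by simp [IsType, typeList]) F p) ⟨0, by norm_num⟩
    rw [Nat.card_eq_fintype_card, hF] at h1
    exact H f₁ hf₁ h1
  case e8 q =>
    obtain ⟨F, _, _, hF, ⟨e⟩⟩ := hr
    obtain rfl : q = p ^ f₁ := hfl
    have := charP_of hp hF
    have h1 := nd_iso e (Cfsg.Agent.H460.FTypedAE.ftyped_chev (D := chevE8) (l := 8) (M := CoxeterMatrix.E₈)
      (by simp [IsType, typeList]) F p) ⟨0, by norm_num⟩
    rw [Nat.card_eq_fintype_card, hF] at h1
    exact H f₁ hf₁ h1
  case td4 q =>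
    obtain ⟨F, _, _, hF, ⟨e⟩⟩ := hr
    obtain rfl : q = p ^ f₁ := hfl
    have := charP_of (n := f₁ * 3) hp (by rw [hF, pow_mul])
    have h1 := nd_iso e (Cfsg.Agent.H185.TypedTw.ftyped_3D4 F (p := p) (q := p ^ f₁)
      (hp.isPrimePow.pow (by omega)) (by rw [Nat.card_eq_fintype_card, hF])) 1
    have h2 : (![p ^ f₁, (p ^ f₁) ^ 3] : Fin 2 → ℕ) 1 = p ^ (3 * f₁) := by
      show (p ^ f₁) ^ 3 = _
      rw [← pow_mul, mul_comm]
    rw [h2] at h1
    exact H (3 * f₁) (by omega) h1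
  all_goals exact trivial

end Cfsg.Agent.H406.Cov
end

-- part: H406/Cov/Red1
section
/-!
# Reducedness of a group containing one full cyclic torus and a regular unipotent element (helper406)

`red_one`: a linear group of degree `n < ncl e q` containing an element of order `Φ_e(q)`, `e = 8, 12`, whose classes are
big, without normal `p`-subgroups, has no nontrivial normal subgroup of order prime to the class `e`, if some element
commutes with no involution.
-/

set_option autoImplicit false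

namespace Cfsg.Agent.H406.Cov

open Cfsg.Agent.H56.Exc Cfsg.Agent.H325.Loc Cfsg.Agent.H563.KG
open Cfsg.Agent.H436 (Prim)

universe u

/-- a number with all prime divisors of class `e` -/
theorem exists_prim_ncl {q e : ℕ} (he : Cls e) (hq : 2 ≤ q) : ∃ r, Prim q e r ∧ r ∣ ncl e q := by
  obtain ⟨r, hr⟩ := Cfsg.Agent.H436.exists_prim hq (show 3 ≤ e by have := he.ge; omega) (by have := he.ge; omega)
  exact ⟨r, hr, dvd_ncl he (by omega) hr⟩

/-- the power of a torus generator of order `ncl e q` -/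
theorem exists_ncl_pow {G : Type*} [Group G] {q e : ℕ} {x : G} (hq : 1 ≤ q) (hx : orderOf x = Ph e q) :
    orderOf (x ^ Nat.gcd (cc e) (Ph e q)) = ncl e q := by
  have h0 := Ph_pos e hq
  rw [orderOf_pow_of_dvd (Nat.gcd_pos_of_pos_right _ h0).ne' (by rw [hx]; exact Nat.gcd_dvd_right _ _), hx]
  rfl

theorem red_one (hE : CycFixSolv.{u}) {F : Type*} [Field F] {ι : Type*} [Fintype ι] [DecidableEq ι] {G : Type u}
    [Group G] [Finite G] {p : ℕ} [hp : Fact p.Prime] [CharP F p] {τ : G →* GL ι F} (hτ : Function.Injective τ)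
    {q e : ℕ} (he : Cls e) (hq : 2 ≤ q) (hcc : ∀ t : ℕ, t.Prime → t ∣ cc e → t = 2)
    (hcore : ∀ A : Subgroup G, A.Normal → IsPGroup p A → A = ⊥)
    (hbig : ∀ r, Prim q e r → Big G r (Ph e q) e) {x : G} (hx : orderOf x = Ph e q)
    (hn : Fintype.card ι < ncl e q) {u : G} (hu : ∀ a : G, a ^ 2 = 1 → u * a = a * u → a = 1) :
    Red G (Prim q e) := by
  intro N hN hNr
  by_contra hne
  have hq1 : 1 ≤ q := by omega
  obtain ⟨r, hr, hrn⟩ := exists_prim_ncl he hq
  have hrp := hr.prime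
  have := Fact.mk hrp
  have hcyc : ∀ s, Prim q e s → ∀ z : G, orderOf z = s → ∀ a b : G, z * a = a * z → z * b = b * z → a * b = b * a := by
    intro s hs z hz a b ha hb
    have h1 := (hbig s hs).cyc z hz
    let _ := IsCyclic.commGroup (α := ↥(Subgroup.centralizer ({z} : Set G)))
    have h2 : (⟨a, Subgroup.mem_centralizer_singleton_iff.2 ha.symm⟩ : ↥(Subgroup.centralizer ({z} : Set G))) *
        ⟨b, Subgroup.mem_centralizer_singleton_iff.2 hb.symm⟩ = ⟨b, Subgroup.mem_centralizer_singleton_iff.2 hb.symm⟩ *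
        ⟨a, Subgroup.mem_centralizer_singleton_iff.2 ha.symm⟩ := mul_comm _ _
    exact congrArg Subtype.val h2
  set y := x ^ Nat.gcd (cc e) (Ph e q) with hy
  have hyo : orderOf y = ncl e q := exists_ncl_pow hq1 hx
  have hn0 := ncl_pos e hq1
  -- an element of order `r`
  have hz : orderOf (y ^ (ncl e q / r)) = r := by
    rw [orderOf_pow_of_dvd (Nat.div_pos (Nat.le_of_dvd hn0 hrn) hrp.pos).ne' (by rw [hyo]; exact Nat.div_dvd_of_dvd hrn),
      hyo, Nat.div_div_self hrn hn0.ne']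
  set z := y ^ (ncl e q / r) with hzd
  -- `N` is solvable
  have hsolv : Group.IsSolvable N := by
    apply hE N (MulAut.conjNormal (H := N) z) r hrp _ (hNr r hr)
    · refine ⟨(Subgroup.centralizer {z}).comap N.subtype, ?_, fun a ha => ?_⟩
      · have := (hbig r hr).cyc z hz
        let g : ↥((Subgroup.centralizer {z}).comap N.subtype) →* ↥(Subgroup.centralizer {z}) :=
          (N.subtype.comp ((Subgroup.centralizer {z}).comap N.subtype).subtype).codRestrict _ fun y => y.2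
        exact isCyclic_of_injective g fun a b hab => by
          have h3 : ((a : N) : G) = ((b : N) : G) :=
            congrArg (fun w : ↥(Subgroup.centralizer {z}) => (w : G)) hab
          exact Subtype.ext (Subtype.ext h3)
      · rw [Subgroup.mem_comap, Subgroup.mem_centralizer_singleton_iff]
        have h2 := congrArg Subtype.val ha
        rw [MulAut.conjNormal_apply, mul_inv_eq_iff_eq_mul] at h2
        exact h2.symm
    · rw [← map_pow, ← hz, pow_orderOf_eq_one, map_one]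
  obtain ⟨t, ht, A, hAn, hAN, hA0, hAc, hAt⟩ := exists_elem' hN hsolv hne
  have hPt : IsPGroup t A := fun a => ⟨1, by rw [pow_one]; exact Subtype.ext (hAt a a.2)⟩
  have := Fact.mk ht
  by_cases htp : t = p
  · subst htp
    exact hA0 (hcore A hAn hPt)
  have hntA : Nontrivial A := (Subgroup.nontrivial_iff_ne_bot A).2 hA0
  have htA : t ∣ Nat.card A := by
    rcases hPt.card_eq_or_dvd with h | h
    · exact absurd h Finite.one_lt_card.ne'
    · exact h
  have htN : t ∣ Nat.card N := htA.trans (Subgroup.card_dvd_of_le hAN)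
  have htp' : ¬ Prim q e t := fun h => hNr t h htN
  have htn : ¬ t ∣ ncl e q := fun h => htp' (prim_of_dvd he hq1 ht h)
  have hcomm := Cfsg.Agent.H325.Cov.cent_all hτ hAn hAc ht htp hAt hyo htn (fun j hj a ha h => by
    have h1 : Prim q e (orderOf (y ^ j)) :=
      prim_of_dvd he hq1 hj ((orderOf_dvd_of_pow_eq_one (by
        rw [← pow_mul, mul_comm, pow_mul, pow_orderOf_eq_one, one_pow])).trans (by rw [hyo]))
    exact hcyc _ h1 (y ^ j) rfl y a (Commute.pow_left (Commute.refl y) j).eq h) (Or.inl hn)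
  -- `A` is cyclic of order 2
  obtain ⟨a, ha⟩ := exists_prime_orderOf_dvd_card' t htA
  have ha1 : orderOf (a : G) = t := by rw [Subgroup.orderOf_coe, ha]
  have hzA : ∀ b ∈ A, z * b = b * z := fun b hb => (Commute.pow_left (show Commute y b from hcomm b hb) _).eq
  have hzc : ∀ b ∈ A, b ∈ Subgroup.centralizer ({z} : Set G) := fun b hb =>
    Subgroup.mem_centralizer_singleton_iff.2 (hzA b hb).symm
  have hcycz := (hbig r hr).cyc z hz
  have ht2 : t = 2 := by
    apply hcc t ht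
    have h1 : t ∣ Ph e q := by
      rw [← ha1, ← Subgroup.orderOf_mk (a : G) (hzc a a.2)]
      exact (orderOf_dvd_natCard _).trans ((hbig r hr).card z hz)
    rw [← ncl_mul e q] at h1
    rcases ht.dvd_mul.1 h1 with h2 | h2
    · exact absurd h2 htn
    · exact h2.trans (Nat.gcd_dvd_left _ _)
  subst ht2
  have huA : (u * (a : G) * u⁻¹) ∈ Subgroup.zpowers (a : G) := by
    have h1 : u * (a : G) * u⁻¹ ∈ A := hAn.conj_mem a a.2 u
    refine mem_zpowers_of_cyclic hcycz (hzc a a.2) (hzc _ h1) ?_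
    rw [ha1]
    exact orderOf_dvd_of_pow_eq_one (hAt _ h1)
  have h2 : u * (a : G) * u⁻¹ = a := by
    obtain ⟨k, hk⟩ := huA
    have hk' : (a : G) ^ k = u * a * u⁻¹ := hk
    rcases Int.even_or_odd' k with ⟨l, rfl | rfl⟩
    · exfalso
      have h3 : (a : G) ^ (2 * l) = 1 := by
        rw [zpow_mul, zpow_ofNat, ← ha1, pow_orderOf_eq_one, one_zpow]
      rw [h3] at hk'
      have h4 : (a : G) = 1 := by
        have : (a : G) = u⁻¹ * (u * a * u⁻¹) * u := by group
        rw [this, ← hk']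
        group
      rw [h4, orderOf_one] at ha1
      omega
    · rw [← hk', zpow_add, zpow_mul, zpow_ofNat, ← ha1, pow_orderOf_eq_one, one_zpow, one_mul, zpow_one]
  have h3 : (a : G) = 1 := hu a (by rw [← ha1]; exact pow_orderOf_eq_one _) (by
    rw [mul_inv_eq_iff_eq_mul] at h2
    exact h2)
  rw [h3, orderOf_one] at ha1
  omega

end Cfsg.Agent.H406.Cov
end

-- part: H406/Cov/One
section
/-!
# Subgroups of `F₄(q)`, `p ≥ 5`, containing one cyclic torus and a regular unipotent element (helper406)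

* `exists_name5` : naming of the simple normal subgroup, one class of tori;
* `core_one` : a subgroup `B` of `F₄(q)` containing an element of order `Φ_e(q)`, `e = 8, 12`, and a regular unipotent
  element has a simple normal subgroup `S` of Lie type in characteristic `p`, of index prime to `p`;
* `four_of_one` : `S` is `F₄(q)`, or `e = 8` and `S` is `PSp₈(q)`, `Ω₉(q)` or `PΩ⁺₁₀(q)`.
-/

set_option autoImplicit false

namespace Cfsg.Agent.H406.Cov

open Cfsg Cfsg.Agent.OrdDiv Cfsg.Agent.H436 Cfsg.Agent.H902 Cfsg.Agent.H902.Names Cfsg.Agent.H915.GN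
  Cfsg.Agent.H290.ElReg Cfsg.Agent.H264.GN Cfsg.Agent.H264.FKS Cfsg.Agent.H56.Exc Cfsg.Agent.H325.Loc
open Cfsg.Agent.H563.KG hiding mod_of_prim

/-! ### Alternating groups -/

theorem pow_dvd_factorial_mul {p : ℕ} (hp : 1 ≤ p) (k : ℕ) : p ^ k ∣ (p * k).factorial := by
  induction k with
  | zero => simp
  | succ k ih =>
    have h1 : (p * k).factorial * p.factorial ∣ (p * k + p).factorial :=
      Nat.factorial_mul_factorial_dvd_factorial_add _ _
    have h2 : p ∣ p.factorial := Nat.dvd_factorial hp le_rfl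
    rw [pow_succ, Nat.mul_succ]
    exact (Nat.mul_dvd_mul ih h2).trans h1

theorem two_mul_card_alt {S : Type*} [Group S] {m : ℕ} (hm : 2 ≤ m) (Φ : S ≃* alternatingGroup (Fin m)) :
    2 * Nat.card S = m.factorial := by
  have : Nontrivial (Fin m) := Fin.nontrivial_iff_two_le.2 hm
  rw [Nat.card_congr Φ.toEquiv, Nat.card_eq_fintype_card, two_mul_card_alternatingGroup, Fintype.card_perm,
    Fintype.card_fin]

/-- in the alternating group `A_m` the number `ncl e q` is at most `m` (after helper563's `window`) -/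
theorem ncl_le_alt {q e m : ℕ} (hq : 2 ≤ q) (he : Cls e) {S : Type*} [Group S] [Finite S] (hm : 2 ≤ m)
    (Φ : S ≃* alternatingGroup (Fin m)) (hn : ncl e q ∣ Nat.card S)
    (hcen : ∀ r, Prim q e r → ∀ x : S, orderOf x = r → Group.IsNilpotent (Subgroup.centralizer ({x} : Set S))) :
    ncl e q ≤ m := by
  have he7 := he.ge
  obtain ⟨r, hr⟩ := exists_prim hq (show 3 ≤ e by omega) (by omega)
  have key : ∀ s, Prim q e s → s ≤ m ∧ m ≤ s + 3 := fun s hs => by
    have h1 : s ∣ Nat.card S := (dvd_ncl he (by omega) hs).trans hn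
    have h5 := lt_of_prim hs
    exact ⟨Cfsg.Agent.H290.ElRich.le_of_dvd_alt hs.prime hm Φ h1,
      Cfsg.Agent.H290.ElRich.alt_le hs.prime (by omega) Φ h1 (hcen s hs)⟩
  have hmod : ∀ s, Prim q e s → e ∣ s - 1 := fun s hs =>
    Nat.dvd_of_mod_eq_zero (Cfsg.Agent.H563.KG.mod_of_prim hq (by omega) hs)
  have huniq : ∀ {s : ℕ}, s.Prime → s ∣ ncl e q → s = r := by
    intro s hs hsd
    have hs' := prim_of_dvd he (by omega) hs hsd
    have h1 := key s hs'
    have h2 := key r hr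
    have h3 := hmod s hs'
    have h4 := hmod r hr
    have h5 := lt_of_prim hs'
    have h6 := lt_of_prim hr
    by_contra hne
    rcases Nat.lt_or_gt_of_ne hne with h | h
    · have h7 := Nat.le_of_dvd (by omega) (Nat.dvd_sub h4 h3)
      omega
    · have h7 := Nat.le_of_dvd (by omega) (Nat.dvd_sub h3 h4)
      omega
  have hpow := Nat.eq_prime_pow_of_unique_prime_dvd (ncl_pos e (by omega : 1 ≤ q)).ne' huniq
  set k := (ncl e q).primeFactorsList.length with hk
  have hr1 : r ∣ ncl e q := dvd_ncl he (by omega) hr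
  have h2 := key r hr
  have h8 := lt_of_prim hr
  have hk1 : k = 1 := by
    have hk0 : k ≠ 0 := by
      intro h0
      rw [h0, pow_zero] at hpow
      rw [hpow] at hr1
      exact hr.prime.one_lt.ne' (Nat.dvd_one.1 hr1)
    by_contra hk1
    have h3 : r ^ 2 ∣ ncl e q := by rw [hpow]; exact pow_dvd_pow _ (by omega)
    have h4 := two_mul_card_alt hm Φ
    have h5 : r ^ 2 ∣ m.factorial := by
      rw [← h4]
      exact (h3.trans hn).mul_left _
    have hlog : Nat.log r m < 2 := by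
      apply Nat.log_lt_of_lt_pow' (by norm_num)
      nlinarith only [he7, h2, h8]
    rw [Nat.Prime.pow_dvd_factorial_iff hr.prime hlog] at h5
    have h6 : ∑ i ∈ Finset.Ico 1 2, m / r ^ i = m / r := by
      rw [Finset.sum_Ico_succ_top (by norm_num), Finset.Ico_self, Finset.sum_empty, zero_add, pow_one]
    rw [h6] at h5
    have h7 : m / r < 2 := Nat.div_lt_of_lt_mul (by omega)
    omega
  rw [hpow, hk1, pow_one]
  exact h2.1

theorem pow_bd {p : ℕ} (h5 : 5 ≤ p) : ∀ f : ℕ, 1 ≤ f → 2 * (p * (24 * f + 1)) ≤ (p ^ f) ^ 4 := by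
  intro f hf
  induction f, hf using Nat.le_induction with
  | base =>
    have h1 : 5 ^ 3 ≤ p ^ 3 := Nat.pow_le_pow_left h5 3
    have h2 : (p ^ 1) ^ 4 = p * p ^ 3 := by ring
    rw [h2]
    calc 2 * (p * (24 * 1 + 1)) = p * 50 := by ring
      _ ≤ p * p ^ 3 := Nat.mul_le_mul_left _ (by omega)
  | succ n hn ih =>
    have h1 : 5 ^ 4 ≤ p ^ 4 := Nat.pow_le_pow_left h5 4
    have h2 : (p ^ (n + 1)) ^ 4 = p ^ 4 * (p ^ n) ^ 4 := by ring
    rw [h2]
    calc 2 * (p * (24 * (n + 1) + 1)) ≤ 5 ^ 4 * (2 * (p * (24 * n + 1))) := by nlinarith only []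
      _ ≤ p ^ 4 * (p ^ n) ^ 4 := Nat.mul_le_mul h1 ih

theorem ncl_ge {p f e : ℕ} (h5 : 5 ≤ p) (hf : 1 ≤ f) (he : e = 12 ∨ e = 8) : p * (24 * f + 1) ≤ ncl e (p ^ f) := by
  have h1 := pow_bd h5 f hf
  have hq : 5 ≤ p ^ f := h5.trans (Nat.le_self_pow (by omega) p)
  rcases he with rfl | rfl
  · rw [ncl12_eq, Ph12_eq (by omega)]
    generalize p ^ f = Q at *
    have h2 : 5 ^ 2 ≤ Q ^ 2 := Nat.pow_le_pow_left hq 2
    have h3 : Q ^ 4 = Q ^ 2 * Q ^ 2 := by ring
    rw [h3] at h1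
    obtain ⟨a, ha⟩ : ∃ a, Q ^ 2 = a + 1 := ⟨Q ^ 2 - 1, by omega⟩
    rw [ha] at h1 h2 ⊢
    rw [Nat.add_sub_cancel]
    nlinarith only [h1]
  · have h2 : Ph 8 (p ^ f) ≤ ncl 8 (p ^ f) * 2 := Ph_le 8 (p ^ f) (by decide)
    have h3 : Ph 8 (p ^ f) = (p ^ f) ^ 4 + 1 := rfl
    omega

theorem no_alt {p f e m : ℕ} (hp : p.Prime) (h5 : 5 ≤ p) (hf : 1 ≤ f) (he : e = 12 ∨ e = 8) {S : Type*} [Group S]
    (hm : 2 ≤ m) (Φ : S ≃* alternatingGroup (Fin m)) (hle : ncl e (p ^ f) ≤ m)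
    (hd : Nat.card S ∣ num (.f4 (p ^ f))) : False := by
  have h1 := (ncl_ge h5 hf he).trans hle
  have h2 : p ^ (24 * f + 1) ∣ m.factorial :=
    (pow_dvd_factorial_mul hp.one_le _).trans (Nat.factorial_dvd_factorial h1)
  rw [← two_mul_card_alt hm Φ] at h2
  have h3 : p ^ (24 * f + 1) ∣ Nat.card S := by
    refine Nat.Coprime.dvd_of_dvd_mul_left (Nat.Coprime.pow_left _ ?_) h2
    rw [Nat.coprime_primes hp Nat.prime_two]
    omega
  have h4 := (Cfsg.Agent.H325.Same.td_f4 hp hf hd).pp h3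
  omega

/-! ### The name -/

/-- a name is alternating, sporadic (or the Tits group), or of Lie type (copy of `H192.Singer.cases_name`) -/
theorem cases_name {g : Grp} (hc : Cond g) :
    (∃ m, g = .alt m) ∨ g ∈ OrdDiv.spor.map (fun x => x.1) ∨ ∃ r, r.Prime ∧ HasChar r g := by
  have hpp : ∀ {q : ℕ}, IsPrimePow q → ∃ r : ℕ, r.Prime ∧ ∃ f, q = r ^ f := by
    intro q hq
    obtain ⟨r, f, hr, -, h⟩ := (isPrimePow_nat_iff q).1 hq
    exact ⟨r, hr, f, h.symm⟩
  cases g with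
  | alt n => exact .inl ⟨n, rfl⟩
  | psl n q => exact .inr (.inr (hpp hc.2.2))
  | psp n q => exact .inr (.inr (hpp hc.2.2))
  | psu n q => exact .inr (.inr (hpp hc.2.2))
  | oodd n q => exact .inr (.inr (hpp hc.2.2))
  | oplus n q => exact .inr (.inr (hpp hc.2))
  | ominus n q => exact .inr (.inr (hpp hc.2))
  | g2 q => exact .inr (.inr (hpp hc.2))
  | f4 q => exact .inr (.inr (hpp hc))
  | e6 q => exact .inr (.inr (hpp hc))
  | e7 q => exact .inr (.inr (hpp hc))
  | e8 q => exact .inr (.inr (hpp hc))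
  | te6 q => exact .inr (.inr (hpp hc))
  | td4 q => exact .inr (.inr (hpp hc))
  | sz q => obtain ⟨m, -, rfl⟩ := hc; exact .inr (.inr ⟨2, Nat.prime_two, _, rfl⟩)
  | ree q => obtain ⟨m, -, rfl⟩ := hc; exact .inr (.inr ⟨3, Nat.prime_three, _, rfl⟩)
  | tf4 q => obtain ⟨m, -, rfl⟩ := hc; exact .inr (.inr ⟨2, Nat.prime_two, _, rfl⟩)
  | _ => exact .inr (.inl (by decide))

theorem spor_mem {g : Grp} (hg : g ∈ OrdDiv.spor.map (fun x => x.1)) : (g, ordN g) ∈ OrdDiv.spor := by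
  obtain ⟨x, hx, rfl⟩ := List.mem_map.1 hg
  rw [spor_ord x hx]
  exact hx

variable {p f e : ℕ}

/-- **The name.** -/
theorem exists_name5 (tb : OrderTable.{0}) (T : Tb 52 .F4 e) (he : e = 12 ∨ e = 8)
    (hp : p.Prime) (h5 : 5 ≤ p) (hf : 1 ≤ f) {F : Type} [Field F] [CharP F p] {S : Type} [Group S] [Finite S]
    [IsSimpleGroup S] (hna : ¬ IsMulCommutative S) (hK : IsKnownSimple' S) (hrep : Fth 52 F S)
    (hcls : ncl e (p ^ f) ∣ Nat.card S) (hd : Nat.card S ∣ OL .F4 (p ^ f))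
    (hcyc : ∀ r, Prim (p ^ f) e r → ∀ x : S, orderOf x = r → IsCyclic ↥(Subgroup.centralizer {x})) :
    ∃ g, IsNamed g S ∧ HasChar p g := by
  have hna' : ¬ ∀ a b : S, a * b = b * a := fun h => hna ⟨⟨h⟩⟩
  have hq : 2 ≤ p ^ f := hp.two_le.trans (Nat.le_self_pow (by omega) p)
  have hOL : num (.f4 (p ^ f)) = OL .F4 (p ^ f) := rfl
  obtain ⟨g, hgS⟩ := exists_named tb hK hna'
  rcases cases_name hgS.cond with ⟨m, rfl⟩ | hsp | ⟨l, hl, hch⟩
  · exfalso
    obtain ⟨Φ⟩ : Nonempty (S ≃* alternatingGroup (Fin m)) := hgS.real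
    have hm : 5 ≤ m := hgS.cond
    refine no_alt hp h5 hf he (by omega) Φ (ncl_le_alt hq T.he₀ (by omega) Φ hcls fun r hr x hx => ?_)
      (by rw [hOL]; exact hd)
    have := hcyc r hr x hx
    let _ := IsCyclic.commGroup (α := ↥(Subgroup.centralizer ({x} : Set S)))
    infer_instance
  · exfalso
    have h1 := spor_mem hsp
    have h2 : Nat.card S = ordN g := hgS.ord
    exact no_spor5 T h1 hp h5 hf (by rw [← h2]; exact hcls) (by rw [← h2]; exact hd)
  · by_cases hpl : p = l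
    · subst hpl
      exact ⟨g, hgS, hch⟩
    · exfalso
      obtain ⟨X, f₁, h1, h2, -⟩ := exists_lie hl hgS hch
      have hlF : (l : F) ≠ 0 := by
        intro h
        exact hpl ((Nat.prime_dvd_prime_iff_eq hp hl).1 ((CharP.cast_eq_zero_iff F p l).1 h))
      have h3 := lb_le hna' T.hn hrep h1 hgS.real h2 hlF
      exact no_cross5 T h2 h3 hp h5 hf hpl hcls hd

/-! ### The simple normal subgroup -/

theorem not_dvd_Ph (hp : p.Prime) (hf : 1 ≤ f) (he : e = 12 ∨ e = 8) : ¬ p ∣ Ph e (p ^ f) := by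
  intro h
  have hpq : p ∣ p ^ f := dvd_pow_self p (by omega)
  have hq : 2 ≤ p ^ f := hp.two_le.trans (Nat.le_self_pow (by omega) p)
  apply hp.one_lt.ne'
  apply Nat.dvd_one.1
  rcases he with rfl | rfl
  · rw [Ph12_eq (by omega)] at h
    exact (Nat.dvd_add_right ((hpq.trans (dvd_pow_self _ (by norm_num))).mul_right _)).1 h
  · have h1 : Ph 8 (p ^ f) = (p ^ f) ^ 4 + 1 := rfl
    rw [h1] at h
    exact (Nat.dvd_add_right (hpq.trans (dvd_pow_self _ (by norm_num)))).1 h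

theorem not_dvd_e (h5 : 5 ≤ p) (hp : p.Prime) (he : e = 12 ∨ e = 8) : ¬ p ∣ e := by
  intro h
  have h1 : p ∣ 2 ^ 3 * 3 := by
    rcases he with rfl | rfl <;> exact h.trans (by norm_num)
  rcases hp.dvd_mul.1 h1 with h2 | h2
  · have := Nat.le_of_dvd (by norm_num) (hp.dvd_of_dvd_pow h2)
    omega
  · have := Nat.le_of_dvd (by norm_num) h2
    omega

section Four

variable {F : Type} [Field F] [Fintype F]

theorem card_idx_four : Fintype.card Lie.chevF4.Idx = 52 := by decide +kernel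

omit [Fintype F] in
theorem fth_four : Fth 52 F ↥(Lie.chevF4.group F) := by
  have h := Fth.of (ρ := (Lie.chevF4.group F).subtype) (Lie.chevF4.group F).subtype_injective
  rwa [card_idx_four] at h

theorem named_four (tb : OrderTable.{0}) : IsNamed (.f4 (Fintype.card F)) ↥(Lie.chevF4.group F) := by
  refine .mk' ⟨F, inferInstance, inferInstance, rfl, ⟨MulEquiv.refl _⟩⟩ Fintype.isPrimePow_card_of_field ?_
  change 1 * _ = _ ^ 24 * _
  rw [tb.f4 F _ rfl]; ring

theorem big_four (hq : Fintype.card F = p ^ f) (hp : p.Prime) (he : e = 12 ∨ e = 8) {r : ℕ} (hr : Prim (p ^ f) e r) :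
    Big ↥(Lie.chevF4.group F) r (Ph e (p ^ f)) e := by
  have hq1 : 1 ≤ p ^ f := Nat.one_le_pow _ _ hp.pos
  rcases he with rfl | rfl
  · exact big_F4_12 hq (by rw [cast_Ph12 _ hq1]; ring) hr
  · exact big_F4_8 hq (by rw [cast_Ph8]; ring) hr

theorem card_four_dvd (tb : OrderTable.{0}) (hq : Fintype.card F = p ^ f) :
    Nat.card ↥(Lie.chevF4.group F) ∣ OL .F4 (p ^ f) := by
  have hT := named_four (F := F) tb
  rw [hq] at hT
  have hOL : num (.f4 (p ^ f)) = OL .F4 (p ^ f) := rfl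
  rw [← hOL, ← hT.eq]
  exact Dvd.intro_left _ rfl

variable (tb : OrderTable.{0}) (hcyc : CycFixSolv.{0})
  (hcf : ∀ (S : Type) [Group S] [Finite S] [IsSimpleGroup S], IsKnownSimple' S)

include tb hcyc hcf

/-- **The simple normal subgroup.** -/
theorem core_one (he : e = 12 ∨ e = 8) (hp : p.Prime) (h5 : 5 ≤ p) (hf : 1 ≤ f) [CharP F p]
    (hq : Fintype.card F = p ^ f) (hpiso : ∀ r, Prim (p ^ f) e r → PIso p r ↥(Lie.chevF4.group F))
    {U Bo : Subgroup ↥(Lie.chevF4.group F)} {u : ↥(Lie.chevF4.group F)} {n : ℕ} (R : RegD p U Bo u n)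
    {B : Subgroup ↥(Lie.chevF4.group F)} {x : ↥(Lie.chevF4.group F)} (hx : orderOf x = Ph e (p ^ f)) (hxB : x ∈ B)
    {w g : ↥(Lie.chevF4.group F)} (hw : w = g * u * g⁻¹) (hwB : w ∈ B) :
    ∃ (S : Subgroup B) (_ : S.Normal) (_ : IsSimpleGroup S), (⟨w, hwB⟩ : B) ∈ S ∧ ¬ p ∣ S.index ∧
      (∀ r, Prim (p ^ f) e r → r ∣ Nat.card S) ∧ ∃ g, IsNamed g S ∧ HasChar p g := by
  have := Fact.mk hp
  have hfin : Finite ↥(Lie.chevF4.group F) := inferInstance
  have hq2 : 2 ≤ p ^ f := hp.two_le.trans (Nat.le_self_pow (by omega) p)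
  have hcl : Cls e := by unfold Cls; (clear * - he; omega)
  have hPh := not_dvd_Ph (e := e) hp hf he
  have hPe := not_dvd_e h5 hp he
  have hn52 : 52 < ncl e (p ^ f) := by
    have h1 := ncl_ge h5 hf he
    have h2 : 5 * 25 ≤ p * (24 * f + 1) := Nat.mul_le_mul h5 (by omega)
    omega
  have hbigB : ∀ r, Prim (p ^ f) e r → Big ↥B r (Ph e (p ^ f)) e := fun r hr => (big_four hq hp he hr).subgroup B
  have hxo : orderOf (⟨x, hxB⟩ : B) = Ph e (p ^ f) := by rw [Subgroup.orderOf_mk, hx]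
  have hPB : Ph e (p ^ f) ∣ Nat.card B := by rw [← hxo]; exact orderOf_dvd_natCard _
  -- the `p`-element
  have hwp : IsPGroup p (Subgroup.zpowers w) := by
    have h1 : IsPGroup p (Subgroup.zpowers u) := R.pU.to_le (by rw [Subgroup.zpowers_le]; exact R.mem)
    have h2 : (Subgroup.zpowers u).map (MulAut.conj g).toMonoidHom = Subgroup.zpowers w := by
      rw [MonoidHom.map_zpowers, hw]; rfl
    rw [← h2]
    exact h1.map _
  have hU2 : ∀ a : ↥(Lie.chevF4.group F), ∀ m, ¬ p ∣ m → a ^ m = 1 → w * a = a * w → a = 1 := by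
    intro a m hm ha hwa
    have h1 : g⁻¹ * a * g ∈ U := by
      apply R.cent
      have h2 : g * u * g⁻¹ * a = a * (g * u * g⁻¹) := by rw [← hw]; exact hwa
      calc g⁻¹ * a * g * u = g⁻¹ * (a * (g * u * g⁻¹)) * g := by group
        _ = g⁻¹ * (g * u * g⁻¹ * a) * g := by rw [h2]
        _ = u * (g⁻¹ * a * g) := by group
    obtain ⟨k, hk⟩ := R.pU ⟨_, h1⟩
    have h2 : (g⁻¹ * a * g) ^ p ^ k = 1 := congrArg Subtype.val hk
    have h3 : (g⁻¹ * a * g) ^ m = 1 := by
      have h4 : (g⁻¹ * a * g) ^ m = g⁻¹ * a ^ m * g := by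
        have := conj_pow (i := m) (a := g⁻¹) (b := a)
        rwa [inv_inv] at this
      rw [h4, ha]; group
    have h5 : g⁻¹ * a * g = 1 := by
      rw [← orderOf_eq_one_iff]
      refine Nat.Coprime.eq_one_of_dvd (?_ : Nat.Coprime (orderOf (g⁻¹ * a * g)) m) (orderOf_dvd_of_pow_eq_one h3)
      exact Nat.Coprime.coprime_dvd_left (orderOf_dvd_of_pow_eq_one h2)
        (Nat.Coprime.pow_left _ ((Nat.Prime.coprime_iff_not_dvd hp).2 hm))
    have h6 : a = g * (g⁻¹ * a * g) * g⁻¹ := by group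
    rw [h6, h5]; group
  have hw1 : w ≠ 1 := by
    intro h1
    have h2 := hU2 x _ hPh (by rw [← hx]; exact pow_orderOf_eq_one x) (by rw [h1, one_mul, mul_one])
    rw [h2, orderOf_one] at hx
    have h3 := ncl_mul e (p ^ f)
    have h4 := Nat.le_of_dvd (Ph_pos e (by omega)) (ncl_dvd_Ph e (p ^ f))
    omega
  have hpB : p ∣ Nat.card B := by
    obtain ⟨k, hk⟩ := (IsPGroup.iff_orderOf.1 hwp) ⟨w, Subgroup.mem_zpowers w⟩
    rw [Subgroup.orderOf_mk] at hk
    have hk0 : k ≠ 0 := by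
      rintro rfl
      rw [pow_zero, orderOf_eq_one_iff] at hk
      exact hw1 hk
    have h1 : orderOf (⟨w, hwB⟩ : B) ∣ Nat.card B := orderOf_dvd_natCard _
    rw [Subgroup.orderOf_mk, hk] at h1
    exact (dvd_pow_self p hk0).trans h1
  -- the reduction
  obtain ⟨τ, hτ⟩ := (fth_four (F := F)).sub B.subtype B.subtype_injective
  obtain ⟨r₀, hr₀, hr₀n⟩ := exists_prim_ncl hcl hq2
  have hr₀B : r₀ ∣ Nat.card B := (hr₀n.trans (ncl_dvd_Ph e _)).trans hPB
  have hred : Red ↥B (Prim (p ^ f) e) := by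
    refine red_one hcyc hτ hcl hq2 ?_ (fun A hA hAp => pcore_of_piso ((hpiso r₀ hr₀).sub B) hr₀B A hA hAp) hbigB hxo
      (by rw [Fintype.card_fin]; exact hn52) (u := ⟨w, hwB⟩) ?_
    · intro t ht htc
      rcases he with rfl | rfl
      · exact absurd (Nat.dvd_one.1 htc) ht.one_lt.ne'
      · exact (Nat.prime_dvd_prime_iff_eq ht Nat.prime_two).1 htc
    · intro a ha hwa
      have h1 := hU2 (a : ↥(Lie.chevF4.group F)) 2 (by
        intro h
        have := Nat.le_of_dvd (by norm_num) h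
        omega) (by exact_mod_cast congrArg Subtype.val ha) (congrArg Subtype.val hwa)
      exact Subtype.ext h1
  let Fa : ℕ → ℕ → ℕ → Prop := fun r m e' => Prim (p ^ f) e r ∧ m = Ph e (p ^ f) ∧ e' = e
  have hPr : Pr Fa = Prim (p ^ f) e := by
    funext r
    apply propext
    constructor
    · rintro ⟨m, e', h, -, -⟩
      exact h
    · intro h
      exact ⟨_, _, h, rfl, rfl⟩
  have hrf : RFam ↥B Fa :=
    { big := by
        rintro r m e' ⟨h, rfl, rfl⟩
        exact hbigB r h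
      dvd := by
        rintro r m e' ⟨h, rfl, rfl⟩
        exact (dvd_Ph hcl (by omega) h).trans hPB
      sep := by
        rintro r m e' ⟨h, rfl, rfl⟩ hcon
        rcases hp.dvd_mul.1 (hpB.trans hcon) with h1 | h1
        · exact hPe h1
        · exact hPh h1 }
  obtain ⟨S, hSn, hSs, hSna, hS⟩ := hrf.exists_full hcyc (by rw [hPr]; exact hred) (r₁ := r₀) ⟨hr₀, rfl, rfl⟩
  have hall : ∀ r, Prim (p ^ f) e r →
      Big S r (Ph e (p ^ f)) e ∧ r ∣ Nat.card S ∧ ¬ r ∣ S.index ∧ S.index ∣ e * Ph e (p ^ f) :=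
    fun r h => hS r _ _ ⟨h, rfl, rfl⟩
  have hidx : ¬ p ∣ S.index := by
    intro h
    rcases hp.dvd_mul.1 (h.trans (hall r₀ hr₀).2.2.2) with h1 | h1
    · exact hPe h1
    · exact hPh h1
  have hSs' : IsSimpleGroup S := hSs
  refine ⟨S, hSn, hSs, ?_, hidx, fun r hr => (hall r hr).2.1, ?_⟩
  · obtain ⟨k, hk⟩ := hwp ⟨w, Subgroup.mem_zpowers w⟩
    have h0 : w ^ p ^ k = 1 := congrArg Subtype.val hk
    have h1 : (⟨w, hwB⟩ : B) ^ p ^ k = 1 := Subtype.ext h0
    have h2 : (⟨w, hwB⟩ : B) ^ S.index ∈ S := Subgroup.pow_index_mem S _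
    have hco : Nat.Coprime (p ^ k) S.index := Nat.Coprime.pow_left _ ((Nat.Prime.coprime_iff_not_dvd hp).2 hidx)
    have h3 : (⟨w, hwB⟩ : B) ^ ((p ^ k).gcd S.index : ℤ) ∈ S := by
      rw [Nat.gcd_eq_gcd_ab, zpow_add, zpow_mul, zpow_mul, zpow_natCast, zpow_natCast, h1, one_zpow, one_mul]
      exact zpow_mem h2 _
    rw [hco] at h3
    simpa using h3
  · have hnS : ncl e (p ^ f) ∣ Nat.card S := by
      have h1 : ncl e (p ^ f) ∣ Nat.card B := (ncl_dvd_Ph e _).trans hPB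
      rw [← S.index_mul_card] at h1
      refine Nat.Coprime.dvd_of_dvd_mul_left ?_ h1
      by_contra hcon
      obtain ⟨r, hr, h3, h4⟩ := Nat.Prime.not_coprime_iff_dvd.1 hcon
      exact (hall r (prim_of_dvd hcl (by omega) hr h3)).2.2.1 h4
    have hdS : Nat.card S ∣ OL .F4 (p ^ f) :=
      ((Subgroup.card_subgroup_dvd_card S).trans (Subgroup.card_subgroup_dvd_card B)).trans (card_four_dvd tb hq)
    have hT : Tb 52 .F4 e := by
      rcases he with rfl | rfl
      · exact tb_12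
      · exact tb_8
    exact exists_name5 tb hT he hp h5 hf (F := F) hSna (hcf S)
      (((fth_four (F := F)).sub B.subtype B.subtype_injective).sub S.subtype S.subtype_injective) hnS hdS
      fun r hr x hx => (hall r hr).1.cyc x hx

end Four

end Cfsg.Agent.H406.Cov
end

-- part: H406/Cov/Top
section
/-!
# Subgroups of `F₄(q)`, `p ≥ 5`, containing one cyclic torus and a regular unipotent element: the whole group
(helper406)

* `NB p S N` : `N |P| ≤ 2 |N(P)|` for a Sylow `p`-subgroup `P`;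
* `top_of_one` : the subgroup is the whole group, given the bounds `NB` for `PSp₈(q)` and `Ω₉(q)`.
-/

set_option autoImplicit false

namespace Cfsg.Agent.H406.Cov

open Cfsg Cfsg.Agent.OrdDiv Cfsg.Agent.H436 Cfsg.Agent.H902 Cfsg.Agent.H902.Names Cfsg.Agent.H915.GN
  Cfsg.Agent.H290.ElReg Cfsg.Agent.H264.GN Cfsg.Agent.H264.FKS Cfsg.Agent.H56.Exc Cfsg.Agent.H325.Loc
open Cfsg.Agent.H563.KG hiding mod_of_prim
open Cfsg.Agent.ChevalleyStructure.Elts Cfsg.Agent.ChevalleyStructure.RootVec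
  Cfsg.Agent.ChevalleyStructure.RootVecTab Cfsg.Agent.H610.ChevRegular Cfsg.Agent.H610.OddRegLie Cfsg.Lie

/-- the Sylow normalizer is large -/
def NB (p : ℕ) (S : Type*) [Group S] (N : ℕ) : Prop :=
  ∃ P : Sylow p S, N * Nat.card ↥(P : Subgroup S) ≤ 2 * Nat.card ↥(Subgroup.normalizer (P : Set S))

theorem card_normalizer_eq {p : ℕ} [Fact p.Prime] {S : Type*} [Group S] [Finite S] (P Q : Sylow p S) :
    Nat.card ↥(Subgroup.normalizer (P : Set S)) = Nat.card ↥(Subgroup.normalizer (Q : Set S)) := by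
  have h1 := Sylow.card_eq_index_normalizer P
  have h2 := Sylow.card_eq_index_normalizer Q
  have h3 := (Subgroup.normalizer (P : Set S)).index_mul_card
  have h4 := (Subgroup.normalizer (Q : Set S)).index_mul_card
  rw [← h1] at h3
  rw [← h2, ← h3] at h4
  exact (Nat.eq_of_mul_eq_mul_left Nat.card_pos h4).symm

theorem card_sylow_eq {p : ℕ} [Fact p.Prime] {S : Type*} [Group S] [Finite S] (P Q : Sylow p S) :
    Nat.card ↥(P : Subgroup S) = Nat.card ↥(Q : Subgroup S) := by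
  rw [P.card_eq_multiplicity, Q.card_eq_multiplicity]

theorem NB.index {p : ℕ} [Fact p.Prime] {S : Type*} [Group S] [Finite S] {N : ℕ} (h : NB p S N) (P : Sylow p S) :
    N ≤ 2 * ((P : Subgroup S).subgroupOf (Subgroup.normalizer (P : Set S))).index := by
  obtain ⟨Q, hQ⟩ := h
  rw [card_sylow_eq Q P, card_normalizer_eq Q P] at hQ
  have h1 := ((P : Subgroup S).subgroupOf (Subgroup.normalizer (P : Set S))).index_mul_card
  have h2 : Nat.card ↥((P : Subgroup S).subgroupOf (Subgroup.normalizer (P : Set S))) = Nat.card ↥(P : Subgroup S) :=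
    Nat.card_congr (Subgroup.subgroupOfEquivOfLe (Subgroup.le_normalizer (H := (P : Subgroup S)))).toEquiv
  rw [h2] at h1
  rw [← h1, ← mul_assoc] at hQ
  exact Nat.le_of_mul_le_mul_right hQ Nat.card_pos

theorem NB.of_equiv {p : ℕ} [Fact p.Prime] {S S' : Type*} [Group S] [Finite S] [Group S'] [Finite S'] {N : ℕ}
    (h : NB p S N) (e : S ≃* S') : NB p S' N := by
  obtain ⟨P, hP⟩ := h
  have hes : Function.Surjective e.toMonoidHom := e.surjective
  refine ⟨P.mapSurjective hes, ?_⟩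
  have h1 : Nat.card ↥(P.mapSurjective hes : Subgroup S') = Nat.card ↥(P : Subgroup S) := by
    rw [Sylow.coe_mapSurjective]
    exact Nat.card_congr ((P : Subgroup S).equivMapOfInjective e.toMonoidHom e.injective).symm.toEquiv
  have h2 := Sylow.card_eq_index_normalizer P
  have h3 := Sylow.card_eq_index_normalizer (P.mapSurjective hes)
  have h4 : Nat.card (Sylow p S) = Nat.card (Sylow p S') := by
    have h5 : (Subgroup.normalizer (P : Set S)).map e.toMonoidHom =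
        Subgroup.normalizer ((P.mapSurjective hes : Sylow p S') : Set S') := by
      have h6 : ((P.mapSurjective hes : Sylow p S') : Set S') = (((P : Subgroup S).map e.toMonoidHom : Subgroup S') : Set S') := by
        exact congrArg (fun H : Subgroup S' => (H : Set S')) (Sylow.coe_mapSurjective hes P)
      rw [h6]
      exact (Subgroup.map_equiv_normalizer_eq (P : Subgroup S) e)
    rw [h2, h3, ← h5]
    exact (Subgroup.index_map_equiv _ e).symm
  have h5 := (Subgroup.normalizer (P : Set S)).index_mul_card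
  have h6 := (Subgroup.normalizer ((P.mapSurjective hes : Sylow p S') : Set S')).index_mul_card
  rw [← h2] at h5
  rw [← h3, ← h4, ← Nat.card_congr e.toEquiv, ← h5] at h6
  rw [h1, Nat.eq_of_mul_eq_mul_left Nat.card_pos h6]
  exact hP

variable {p f e : ℕ}

theorem not_dvd_prB (hp : p.Prime) {q : ℕ} (hq : 1 ≤ q) (hpq : p ∣ q) (m : ℕ) : ¬ p ∣ prB q m := by
  intro h
  unfold prB at h
  rw [Prime.dvd_prod_iff hp.prime] at h
  obtain ⟨y, hy, hd⟩ := h
  rw [List.mem_map] at hy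
  obtain ⟨i, -, rfl⟩ := hy
  have h1 : p ∣ q ^ (2 * (i + 1)) := hpq.trans (dvd_pow_self q (by omega))
  have h2 : 1 ≤ q ^ (2 * (i + 1)) := Nat.one_le_pow _ _ hq
  have h3 := Nat.dvd_sub h1 hd
  rw [Nat.sub_sub_self h2] at h3
  exact hp.one_lt.ne' (Nat.dvd_one.1 h3)

/-- the `p`-part of the order of `PSp₈(q)`, `Ω₉(q)` -/
theorem no_p_part (hp : p.Prime) (hf : 1 ≤ f) {D c : ℕ} (h : D * c = (p ^ f) ^ (4 ^ 2) * prB (p ^ f) 4)
    (hd : (p ^ f) ^ 24 ∣ c) : False := by
  have h1 : (p ^ f) ^ 24 ∣ (p ^ f) ^ (4 ^ 2) * prB (p ^ f) 4 := h ▸ hd.mul_left D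
  have hq : 2 ≤ p ^ f := hp.two_le.trans (Nat.le_self_pow (by omega) p)
  have h2 : (p ^ f) ^ 24 = (p ^ f) ^ (4 ^ 2) * (p ^ f) ^ 8 := ((pow_add (p ^ f) (4 ^ 2) 8 :))
  rw [h2] at h1
  have h3 := Nat.dvd_of_mul_dvd_mul_left (by (clear * - hq; positivity)) h1
  have h4 : p ∣ p ^ f := dvd_pow_self p (by omega)
  exact not_dvd_prB hp (by omega) h4 4 ((h4.trans (dvd_pow_self _ (by norm_num))).trans h3)

/-- primes of class 5 -/
theorem no_oplus5 (hp : p.Prime) (hf : 1 ≤ f) {c : ℕ} (h : den (.oplus 5 (p ^ f)) * c = num (.oplus 5 (p ^ f)))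
    (hd : c ∣ num (.f4 (p ^ f))) : False := by
  have hq : 2 ≤ p ^ f := hp.two_le.trans (Nat.le_self_pow (by omega) _)
  obtain ⟨s, hs⟩ := exists_prim (q := p ^ f) (e := 5) hq (by norm_num) (by omega)
  have h5 := lt_of_prim hs
  have h1 : s ∣ den (.oplus 5 (p ^ f)) * c := by
    rw [h]
    show s ∣ (p ^ f) ^ (5 * (5 - 1)) * (((p ^ f) ^ 5 - 1) * prB (p ^ f) (5 - 1))
    exact ((hs.dvd dvd_rfl).mul_right _).mul_left _
  rcases hs.prime.dvd_mul.1 h1 with h2 | h2
  · have h3 : s ∣ Nat.gcd 4 ((p ^ f) ^ 5 - 1) := h2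
    have := Nat.le_of_dvd (by norm_num) (h3.trans (Nat.gcd_dvd_left _ _))
    omega
  · have h3 : s ∣ (p ^ f) ^ 24 * (((p ^ f) ^ 2 - 1) * ((p ^ f) ^ 6 - 1) * ((p ^ f) ^ 8 - 1) * ((p ^ f) ^ 12 - 1)) :=
      h2.trans hd
    rcases hs.prime.dvd_mul.1 h3 with h3 | h3
    · exact hs.not_dvd_pow _ h3
    rcases hs.prime.dvd_mul.1 h3 with h3 | h3
    · rcases hs.prime.dvd_mul.1 h3 with h3 | h3
      · rcases hs.prime.dvd_mul.1 h3 with h3 | h3
        · exact hs.not_dvd_sub (by norm_num) h3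
        · exact hs.not_dvd_sub (by norm_num) h3
      · exact hs.not_dvd_sub (by norm_num) h3
    · exact hs.not_dvd_sub (by norm_num) h3

/-- the numerical inequality -/
theorem bd_four (h5 : 5 ≤ p) (hf : 1 ≤ f) {i : ℕ} (h : (p ^ f - 1) ^ 4 ≤ 2 * i) : (p ^ f) ^ 4 < p * (i + 1) := by
  have hq : p ≤ p ^ f := Nat.le_self_pow (by omega) p
  have hpq : 5 ≤ p ^ f := h5.trans hq
  obtain ⟨a, ha⟩ : ∃ a, p ^ f = a + 1 := ⟨p ^ f - 1, by omega⟩
  rw [ha, Nat.add_sub_cancel] at h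
  rw [ha] at hpq hq ⊢
  have ha4 : 4 ≤ a := by omega
  by_cases h6 : a = 4
  · subst h6
    have hp5 : p = 5 := by omega
    subst hp5
    norm_num at h ⊢
    omega
  · have ha6 : 5 ≤ a := by omega
    -- `2 (a + 1) ^ 4 < 5 (a ^ 4 + 2)`
    have h7 : 2 * (a + 1) ^ 4 < 5 * (a ^ 4 + 2) := by
      obtain ⟨b, rfl⟩ : ∃ b, a = b + 5 := ⟨a - 5, by omega⟩
      linarith only [pow_pos (show 0 < b + 1 by omega) 3, pow_pos (show 0 < b + 1 by omega) 4, _root_.sq_nonneg (↑b : ℤ), _root_.Nat.cast_nonneg (α := ℤ) (b)]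
    have h8 : 5 * (a ^ 4 + 2) ≤ p * (2 * i + 2) := Nat.mul_le_mul h5 (by omega)
    linarith only [h7, h8]

section Four

variable {F : Type} [Field F] [Fintype F] (tb : OrderTable.{0}) (hcyc : CycFixSolv.{0})
  (hcf : ∀ (S : Type) [Group S] [Finite S] [IsSimpleGroup S], IsKnownSimple' S)
  (hnb1 : ∀ (K : Type) [Field K] [Fintype K] [CharP K p], NB p (PSp 4 K) ((Fintype.card K - 1) ^ 4))
  (hnb2 : ∀ (K : Type) [Field K] [Fintype K] [CharP K p], NB p (POmega K (quadFormOdd 4 K)) ((Fintype.card K - 1) ^ 4))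

include tb hcyc hcf hnb1 hnb2

/-- **One cyclic torus and a regular unipotent element generate `F₄(q)`.** -/
theorem top_of_one (he : e = 12 ∨ e = 8) (hp : p.Prime) (h5 : 5 ≤ p) (hf : 1 ≤ f) [CharP F p]
    (hq : Fintype.card F = p ^ f) (hpiso : ∀ r, Prim (p ^ f) e r → PIso p r ↥(Lie.chevF4.group F))
    {hD : InList Lie.chevF4} {u₀ : Matrix.GeneralLinearGroup Lie.chevF4.Idx F} (hu : Reg hD u₀)
    {B : Subgroup ↥(Lie.chevF4.group F)} {x : ↥(Lie.chevF4.group F)} (hx : orderOf x = Ph e (p ^ f)) (hxB : x ∈ B)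
    {w g : ↥(Lie.chevF4.group F)} (hw : w = g * ⟨u₀, posUnipotent_le_group hD F hu.1⟩ * g⁻¹) (hwB : w ∈ B) :
    B = ⊤ := by
  have := Fact.mk hp
  have hfin : Finite ↥(Lie.chevF4.group F) := inferInstance
  have R := regD_of_reg (p := p) hD hu
  rw [hq] at R
  obtain ⟨S, hSn, hSs, hwS, hidx, hprim, gr, hg, hch⟩ := core_one tb hcyc hcf he hp h5 hf hq hpiso R hx hxB hw hwB
  have hT := named_four (F := F) tb
  rw [hq] at hT
  have hdT : Nat.card ↥(Lie.chevF4.group F) = num (.f4 (p ^ f)) := by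
    have := hT.eq
    rwa [show den (.f4 (p ^ f)) = 1 from rfl, one_mul] at this
  have hdS : Nat.card S ∣ num (.f4 (p ^ f)) := by
    rw [← hdT]
    exact (Subgroup.card_subgroup_dvd_card S).trans (Subgroup.card_subgroup_dvd_card B)
  -- the embedding
  let φ : S →* ↥(Lie.chevF4.group F) := B.subtype.comp S.subtype
  have hφ : Function.Injective φ := B.subtype_injective.comp S.subtype_injective
  have hφw : φ ⟨⟨w, hwB⟩, hwS⟩ = g * ⟨u₀, posUnipotent_le_group hD F hu.1⟩ * g⁻¹ := hw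
  -- the elimination
  obtain ⟨f₁, hf₁, hfl, hK, hY⟩ := kd_all hp hg.cond hch hg.eq
  have hHT : Cfsg.Agent.H325.Same.HT p f e gr (Nat.card S) := fun s hs _ => hprim s hs
  obtain ⟨i, hi, hei, hfM, h2, h1, h3, hYc⟩ := Cfsg.Agent.H325.Same.compP hp hf hg.cond hch hf₁ hfl hK hY
    (Cfsg.Agent.H325.Same.td_f4 hp hf hdS) (e1 := e) (e2 := e) (by omega) (by omega) (by omega)
    (fun i hi hei s hs h5 => by
      have hi' : i ∈ [2, 6, 8, 12] := hi
      intro hsi
      have h1 : s ∣ 2 ^ 3 * 3 := by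
        simp only [List.mem_cons, List.not_mem_nil, or_false] at hi'
        rcases hi' with rfl | rfl | rfl | rfl <;> exact hsi.trans (by norm_num)
      rcases hs.dvd_mul.1 h1 with h2 | h2
      · have := Nat.le_of_dvd (by norm_num) (hs.dvd_of_dvd_pow h2)
        omega
      · have := Nat.le_of_dvd (by norm_num) h2
        omega) hHT hHT
  have hNF := nf_of (f := f) hp h5 hg hfl hf₁ (fun a ha hN => R.dvd_of_nd h5 hφ hφw ha hN)
  -- large Sylow normalizers
  have hbig : NB p S ((p ^ f - 1) ^ 4) → (p ^ f) ^ 24 ∣ Nat.card S := by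
    intro hNB
    obtain ⟨ψ, P, hψ, hψw, hwP, hPU, hPN⟩ := R.exists_emb hφ hφw
    have h6 := card_eq_of_big hD hψ hwP (fun x hx => Subgroup.mem_subgroupOf.1 (hPU x hx))
      (fun t ht => Subgroup.mem_subgroupOf.1 (hPN t ht)) (by rw [hψw]; exact hu) chk_F4 h5 (by
        rw [hq]
        exact bd_four h5 hf (hNB.index P))
    rw [Cfsg.Agent.S1027.result Lie.chevF4 (by simp), hq] at h6
    have h7 : (p ^ f) ^ 24 = Nat.card P := by rw [h6]; rfl
    rw [h7]
    exact Subgroup.card_subgroup_dvd_card (P : Subgroup S)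
  rcases elim_one hp h5 hg.cond hch hi (by omega) hf₁ hf hfl hfM h2 hYc hNF with rfl | ⟨-, rfl | rfl | rfl⟩
  · have h6 : Nat.card S = Nat.card ↥(Lie.chevF4.group F) := by
      have h7 := hg.eq
      rw [show den (.f4 (p ^ f)) = 1 from rfl, one_mul] at h7
      rw [h7, hdT]
    apply Subgroup.eq_top_of_card_eq
    apply le_antisymm (Subgroup.card_le_card_group B)
    rw [← h6]
    exact Subgroup.card_le_card_group S
  · exfalso
    obtain ⟨K, _, _, hK, ⟨Φ⟩⟩ := hg.real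
    have := charP_of hp hK
    have hfK : Finite (PSp 4 K) := Finite.of_equiv S Φ.toEquiv
    have h6 := (hnb1 K).of_equiv Φ.symm
    rw [hK] at h6
    exact no_p_part hp hf hg.eq (hbig h6)
  · exfalso
    obtain ⟨K, _, _, hK, ⟨Φ⟩⟩ := hg.real
    have := charP_of hp hK
    have hfK : Finite (POmega K (quadFormOdd 4 K)) := Finite.of_equiv S Φ.toEquiv
    have h6 := (hnb2 K).of_equiv Φ.symm
    rw [hK] at h6
    exact no_p_part hp hf hg.eq (hbig h6)
  · exact (no_oplus5 hp hf hg.eq hdS).elim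

end Four

end Cfsg.Agent.H406.Cov
end

private theorem dce_b3a26f526d14 : _root_.True := by
  try have : _root_.True := by simp only [_root_.Cfsg.Agent.OrdDiv.prU.eq_1]
  exact _root_.True.intro
end

-- part: H92/TD/Inst
section
prune_inst 0x20200409a212000000000000000000000000000020000000000000000001000000080000001100102a00000000000000100080000000000a000000000100000000040080080000200008000000000000000000000000000000000000000000000000000
set_option linter.all false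
open scoped Cfsg.Agent.FastGrp

-- part: H92/TD/Spec
section
/-!
# Semisimple elements of `³D₄(q)` (helper92, S2499)

* `ss_3D4` : the order of an element of order prime to `q` divides `(q³ - 1)(q + 1)`, `(q³ + 1)(q - 1)` or `q⁴ - q² + 1`;
* `nonadj` : no element of order `r s`, `r ∣ q² + q + 1`, `s ∣ q² - q + 1`, `r, s ≠ 3` primes;
* `comm_sub` : the `r`-subgroups are commutative, `r ≥ 5`.
-/

set_option autoImplicit false
set_option linter.unusedSectionVars false

namespace Cfsg.Agent.H92.TD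

open Cfsg Cfsg.Lie Cfsg.Lie.ChevalleyDatum
open Cfsg.Agent.H129.TriD4 Cfsg.Agent.H378 Cfsg.Agent.H378.OmD4

universe u

/-- **The semisimple elements.** -/
theorem ss_3D4 {K : Type u} [Field K] [Fintype K] {q : ℕ} (hq : IsPrimePow q) (hK : Fintype.card K = q ^ 3)
    (g : ↥(twistedD4 K q)) (hg : (orderOf g).Coprime q) :
    orderOf g ∣ (q ^ 3 - 1) * (q + 1) ∨ orderOf g ∣ (q ^ 3 + 1) * (q - 1) ∨ orderOf g ∣ q ^ 4 - q ^ 2 + 1 := by
  obtain ⟨k, _, _, f, p, _, hC, _, hk, hka, -, -⟩ := TorFin.exists_closure K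
  have hp : p.Prime := Fact.out
  obtain ⟨p', e, hp', he, hqe'⟩ := id hq
  have hCK : CharP K p := by
    obtain ⟨p'', hp''⟩ := CharP.exists K
    have h1 : CharP k p'' := charP_of_injective_ringHom f.injective p''
    have h2 : p'' = p := CharP.eq k h1 hC
    rwa [h2] at hp''
  have hpp : p' = p := by
    obtain ⟨n, hn⟩ := FiniteField.card K p
    rw [hK, ← hqe'] at hn
    have h1 : p' ∣ p ^ (n : ℕ) := by
      rw [← hn.2]
      exact dvd_pow (dvd_pow_self p' he.ne') (by norm_num)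
    exact (Nat.prime_dvd_prime_iff_eq hp'.nat_prime hp).1 (hp'.nat_prime.dvd_of_dvd_pow h1)
  subst hpp
  have hqe : q = p' ^ e := hqe'.symm
  have hq2 : 2 ≤ q := hq.two_le
  set a := embT (k := k) f hq hK g with ha
  have hσa : tau k p' e a = a := tau_embT f hqe hq hK g
  have hoa : orderOf a = orderOf g := orderOf_injective _ (embT_injective f hq hK) g
  have hn0 : orderOf g ≠ 0 := (orderOf_pos g).ne'
  have hmp : (orderOf g).Coprime p' := hg.coprime_dvd_right (hqe ▸ dvd_pow_self p' he.ne')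
  have key := main (k := k) (p := p') (e := e) hk hka (s := a) (u := 1) hσa (by rw [one_mul, mul_one]) hn0 hmp
    (by rw [← hoa, pow_orderOf_eq_one]) (j := 0) (one_pow _)
  rw [← hqe] at key
  rw [← hoa]
  have e1 : q ^ 4 + q ^ 3 = (q + 1) + (q ^ 3 - 1) * (q + 1) := by
    obtain ⟨d, hd⟩ : ∃ d, q ^ 3 = d + 1 := ⟨q ^ 3 - 1, by have := Nat.one_le_pow 3 q (by omega); omega⟩
    rw [show q ^ 4 = q ^ 3 * q by ring, hd, Nat.add_sub_cancel]; ring
  have e2 : q ^ 4 + q = (q ^ 3 + 1) + (q ^ 3 + 1) * (q - 1) := by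
    obtain ⟨c, rfl⟩ : ∃ c, q = c + 1 := ⟨q - 1, by omega⟩
    rw [Nat.add_sub_cancel]; ring
  have e3 : q ^ 4 + 1 = q ^ 2 + (q ^ 4 - q ^ 2 + 1) := by
    have : q ^ 2 ≤ q ^ 4 := Nat.pow_le_pow_right (by omega) (by norm_num)
    omega
  have e4 : q ^ 2 + 1 = q + (q ^ 2 - q + 1) := by
    have : q ≤ q ^ 2 := by nlinarith only []
    omega
  have e5 : q ^ 3 = 1 + (q ^ 3 - 1) := by
    have := Nat.one_le_pow 3 q (by omega)
    (clear * - this; omega)
  have e6 : q ^ 3 - 1 = (q ^ 2 + q + 1) * (q - 1) := by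
    obtain ⟨c, rfl⟩ : ∃ c, q = c + 1 := ⟨q - 1, by omega⟩
    rw [Nat.add_sub_cancel]
    apply Nat.sub_eq_of_eq_add
    ring
  have e7 : q ^ 3 + 1 = (q ^ 2 - q + 1) * (q + 1) := by
    have e8 : q ^ 2 - q = q * (q - 1) := by rw [Nat.mul_sub, mul_one, pow_two]
    obtain ⟨c, rfl⟩ : ∃ c, q = c + 1 := ⟨q - 1, by omega⟩
    rw [e8, Nat.add_sub_cancel]
    ring
  rcases key with ⟨-, hs | hs | hs⟩ | ⟨hs, -, -⟩ | ⟨-, hs | hs⟩ | ⟨-, hs | hs⟩
  · exact Or.inl (dvd_of_pow_eq hs e1)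
  · exact Or.inr (Or.inl (dvd_of_pow_eq hs e2))
  · exact Or.inr (Or.inr (dvd_of_pow_eq hs e3))
  · rw [hs, orderOf_one]; exact Or.inl (one_dvd _)
  · exact Or.inl ((dvd_of_pow_eq (B := 1) (by rw [pow_one]; exact hs) e5).trans (dvd_mul_right _ _))
  · exact Or.inr (Or.inl ((orderOf_dvd_of_pow_eq_one hs).trans (dvd_mul_right _ _)))
  · refine Or.inl ((orderOf_dvd_of_pow_eq_one hs).trans ?_)
    rw [e6, mul_assoc]; exact dvd_mul_right _ _
  · refine Or.inr (Or.inl ((dvd_of_pow_eq hs e4).trans ?_))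
    rw [e7, mul_assoc]; exact dvd_mul_right _ _

/-! ### arithmetic -/

section Arith

variable {q r s : ℕ}

theorem not_dvd_succ (hr : r.Prime) (h : r ∣ q ^ 2 + q + 1) : ¬ r ∣ q + 1 := by
  intro h1
  have h2 : r ∣ q * (q + 1) := Dvd.dvd.mul_left h1 q
  have h3 : q ^ 2 + q + 1 = q * (q + 1) + 1 := by ring
  rw [h3] at h
  exact hr.one_lt.ne' (Nat.dvd_one.1 ((Nat.dvd_add_right h2).1 h))

theorem three_of_pred (hr : r.Prime) (hq : 1 ≤ q) (h : r ∣ q ^ 2 + q + 1) (h1 : r ∣ q - 1) : r = 3 := by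
  obtain ⟨c, rfl⟩ : ∃ c, q = c + 1 := ⟨q - 1, by omega⟩
  rw [Nat.add_sub_cancel] at h1
  have h3 : (c + 1) ^ 2 + (c + 1) + 1 = c * (c + 3) + 3 := by ring
  rw [h3] at h
  exact (Nat.prime_dvd_prime_iff_eq hr Nat.prime_three).1 ((Nat.dvd_add_right (Dvd.dvd.mul_right h1 _)).1 h)

theorem not_dvd_pred' (hr : r.Prime) (hq : 1 ≤ q) (h : r ∣ q ^ 2 - q + 1) : ¬ r ∣ q - 1 := by
  intro h1
  obtain ⟨c, rfl⟩ : ∃ c, q = c + 1 := ⟨q - 1, by omega⟩
  rw [Nat.add_sub_cancel] at h1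
  have h3 : (c + 1) ^ 2 - (c + 1) + 1 = c * (c + 1) + 1 := by
    have : (c + 1) ^ 2 = c * (c + 1) + (c + 1) := by ring
    omega
  rw [h3] at h
  exact hr.one_lt.ne' (Nat.dvd_one.1 ((Nat.dvd_add_right (Dvd.dvd.mul_right h1 _)).1 h))

theorem three_of_succ' (hr : r.Prime) (hq : 1 ≤ q) (h : r ∣ q ^ 2 - q + 1) (h1 : r ∣ q + 1) : r = 3 := by
  have h2 : r ∣ (q + 1) * (q + 1) := Dvd.dvd.mul_left h1 _
  have h3 : (q + 1) * (q + 1) = (q ^ 2 - q + 1) + 3 * q := by
    have : q ≤ q ^ 2 := Nat.le_self_pow (by norm_num) q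
    obtain ⟨d, hd⟩ := Nat.exists_eq_add_of_le this
    have e : q ^ 2 - q = d := by omega
    rw [e]
    linarith only [hd]
  rw [h3] at h2
  rcases (Nat.Prime.dvd_mul hr).1 ((Nat.dvd_add_right h).1 h2) with h4 | h4
  · exact (Nat.prime_dvd_prime_iff_eq hr Nat.prime_three).1 h4
  · exact absurd ((Nat.dvd_add_right h4).1 h1) (fun h => hr.one_lt.ne' (Nat.dvd_one.1 h))

theorem cop_aux (hr : r.Prime) (hq : 1 ≤ q) (h : r ∣ q ^ 2 + q + 1) : ¬ r ∣ q ^ 2 - q + 1 := by
  intro h1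
  have h3 : q ^ 2 + q + 1 = (q ^ 2 - q + 1) + 2 * q := by
    have : q ≤ q ^ 2 := Nat.le_self_pow (by norm_num) q
    omega
  rw [h3] at h
  rcases (Nat.Prime.dvd_mul hr).1 ((Nat.dvd_add_right h1).1 h) with h4 | h4
  · have h5 := (Nat.prime_dvd_prime_iff_eq hr Nat.prime_two).1 h4
    subst h5
    rw [← h3] at h
    have h6 : Odd (q ^ 2 + q + 1) := by
      have h7 : q ^ 2 + q = q * (q + 1) := by ring
      rw [h7]
      exact (Nat.even_mul_succ_self q).add_one
    exact (Nat.not_even_iff_odd.2 h6) (even_iff_two_dvd.2 h)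
  · rw [← h3] at h
    have h5 : r ∣ q * (q + 1) := Dvd.dvd.mul_right h4 _
    have h6 : q ^ 2 + q + 1 = q * (q + 1) + 1 := by ring
    rw [h6] at h
    exact hr.one_lt.ne' (Nat.dvd_one.1 ((Nat.dvd_add_right h5).1 h))

theorem odd_three (h : r ∣ q ^ 2 + q + 1) : Odd r := by
  have h6 : Odd (q ^ 2 + q + 1) := by
    have h7 : q ^ 2 + q = q * (q + 1) := by ring
    rw [h7]
    exact (Nat.even_mul_succ_self q).add_one
  exact Odd.of_dvd_nat h6 h

theorem odd_six (hq : 1 ≤ q) (h : r ∣ q ^ 2 - q + 1) : Odd r := by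
  have h6 : Odd (q ^ 2 - q + 1) := by
    obtain ⟨c, rfl⟩ : ∃ c, q = c + 1 := ⟨q - 1, by omega⟩
    have h3 : (c + 1) ^ 2 - (c + 1) = c * (c + 1) := by
      have : (c + 1) ^ 2 = c * (c + 1) + (c + 1) := by ring
      omega
    rw [h3]
    exact (Nat.even_mul_succ_self c).add_one
  exact Odd.of_dvd_nat h6 h

/-- `Φ₃` and `Φ₁₂` -/
theorem not_dvd_twelve (hr : r.Prime) (hq : 1 ≤ q) (h : r ∣ q ^ 2 + q + 1) : ¬ r ∣ q ^ 4 - q ^ 2 + 1 := by
  intro h1
  have hle : q ^ 2 ≤ q ^ 4 := Nat.pow_le_pow_right hq (by norm_num)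
  have h2 : ((q ^ 4 - q ^ 2 + 1 : ℕ) : ℤ) = (q : ℤ) ^ 4 - (q : ℤ) ^ 2 + 1 := by
    push_cast [Nat.cast_sub hle]; ring
  have h3 : (r : ℤ) ∣ (q : ℤ) ^ 4 - (q : ℤ) ^ 2 + 1 := by rw [← h2]; exact Int.natCast_dvd_natCast.2 h1
  have h4 : (r : ℤ) ∣ (q : ℤ) ^ 2 + (q : ℤ) + 1 := by
    have := Int.natCast_dvd_natCast.2 h
    push_cast at this
    exact this
  have h5 : (r : ℤ) ∣ ((2 * (q + 1) : ℕ) : ℤ) := by
    have e : ((2 * (q + 1) : ℕ) : ℤ) = ((q : ℤ) ^ 4 - (q : ℤ) ^ 2 + 1) -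
        ((q : ℤ) ^ 2 + (q : ℤ) + 1) * ((q : ℤ) ^ 2 - (q : ℤ) - 1) := by
      push_cast; ring
    rw [e]
    exact dvd_sub h3 (Dvd.dvd.mul_right h4 _)
  rcases (Nat.Prime.dvd_mul hr).1 (Int.natCast_dvd_natCast.1 h5) with h6 | h6
  · have h7 := (Nat.prime_dvd_prime_iff_eq hr Nat.prime_two).1 h6
    have h8 := odd_three h
    rw [h7] at h8
    exact absurd h8 (by decide)
  · exact not_dvd_succ hr h h6

/-- `Φ₆` and `Φ₁₂` -/
theorem not_dvd_twelve' (hr : r.Prime) (hq : 1 ≤ q) (h : r ∣ q ^ 2 - q + 1) : ¬ r ∣ q ^ 4 - q ^ 2 + 1 := by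
  intro h1
  have hle : q ^ 2 ≤ q ^ 4 := Nat.pow_le_pow_right hq (by norm_num)
  have hle' : q ≤ q ^ 2 := Nat.le_self_pow (by norm_num) q
  have h2 : ((q ^ 4 - q ^ 2 + 1 : ℕ) : ℤ) = (q : ℤ) ^ 4 - (q : ℤ) ^ 2 + 1 := by
    push_cast [Nat.cast_sub hle]; ring
  have h3 : (r : ℤ) ∣ (q : ℤ) ^ 4 - (q : ℤ) ^ 2 + 1 := by rw [← h2]; exact Int.natCast_dvd_natCast.2 h1
  have h4 : (r : ℤ) ∣ (q : ℤ) ^ 2 - (q : ℤ) + 1 := by
    have := Int.natCast_dvd_natCast.2 h
    rw [Nat.cast_add, Nat.cast_sub hle'] at this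
    push_cast at this
    exact this
  have h5 : (r : ℤ) ∣ ((2 * (q - 1) : ℕ) : ℤ) := by
    have e : ((2 * (q - 1) : ℕ) : ℤ) = -(((q : ℤ) ^ 4 - (q : ℤ) ^ 2 + 1) -
        ((q : ℤ) ^ 2 - (q : ℤ) + 1) * ((q : ℤ) ^ 2 + (q : ℤ) - 1)) := by
      push_cast [Nat.cast_sub hq]; ring
    rw [e]
    exact (dvd_sub h3 (Dvd.dvd.mul_right h4 _)).neg_right
  rcases (Nat.Prime.dvd_mul hr).1 (Int.natCast_dvd_natCast.1 h5) with h6 | h6
  · have h7 := (Nat.prime_dvd_prime_iff_eq hr Nat.prime_two).1 h6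
    have h8 := odd_six hq h
    rw [h7] at h8
    exact absurd h8 (by decide)
  · exact not_dvd_pred' hr hq h h6

theorem not_dvd_q (hr : r.Prime) (h : r ∣ q ^ 2 + q + 1) : ¬ r ∣ q := by
  intro h1
  have h3 : q ^ 2 + q + 1 = q * (q + 1) + 1 := by ring
  rw [h3] at h
  exact hr.one_lt.ne' (Nat.dvd_one.1 ((Nat.dvd_add_right (Dvd.dvd.mul_right h1 _)).1 h))

theorem not_dvd_q' (hr : r.Prime) (hq : 1 ≤ q) (h : r ∣ q ^ 2 - q + 1) : ¬ r ∣ q := by
  intro h1
  have h3 : q ^ 2 - q = q * (q - 1) := by rw [Nat.mul_sub, mul_one, pow_two]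
  rw [h3] at h
  exact hr.one_lt.ne' (Nat.dvd_one.1 ((Nat.dvd_add_right (Dvd.dvd.mul_right h1 _)).1 h))

end Arith

/-- **The primes of `q² + q + 1` and `q² - q + 1` are not adjacent.** -/
theorem nonadj {K : Type u} [Field K] [Fintype K] {q : ℕ} (hq : IsPrimePow q) (hK : Fintype.card K = q ^ 3)
    {r s : ℕ} (hr : r.Prime) (hs : s.Prime) (hr3 : r ≠ 3) (hs3 : s ≠ 3) (hrN : r ∣ q ^ 2 + q + 1)
    (hsN : s ∣ q ^ 2 - q + 1) {x y : ↥(twistedD4 K q)} (hx : orderOf x = r) (hy : orderOf y = s)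
    (h : Commute x y) : False := by
  have hq1 : 1 ≤ q := hq.pos
  have hrs : r ≠ s := fun h => cop_aux hr hq1 hrN (h ▸ hsN)
  have hcop : r.Coprime s := (Nat.coprime_primes hr hs).2 hrs
  have ho : orderOf (x * y) = r * s := by
    rw [h.orderOf_mul_eq_mul_orderOf_of_coprime (by rw [hx, hy]; exact hcop), hx, hy]
  have hg : (orderOf (x * y)).Coprime q := by
    rw [ho]
    exact Nat.Coprime.mul_left ((Nat.Prime.coprime_iff_not_dvd hr).2 (not_dvd_q hr hrN))
      ((Nat.Prime.coprime_iff_not_dvd hs).2 (not_dvd_q' hs hq1 hsN))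
  have e6 : q ^ 3 - 1 = (q ^ 2 + q + 1) * (q - 1) := by
    obtain ⟨c, rfl⟩ : ∃ c, q = c + 1 := ⟨q - 1, by omega⟩
    rw [Nat.add_sub_cancel]
    apply Nat.sub_eq_of_eq_add
    ring
  have e7 : q ^ 3 + 1 = (q ^ 2 - q + 1) * (q + 1) := by
    have e8 : q ^ 2 - q = q * (q - 1) := by rw [Nat.mul_sub, mul_one, pow_two]
    obtain ⟨c, rfl⟩ : ∃ c, q = c + 1 := ⟨q - 1, by omega⟩
    rw [e8, Nat.add_sub_cancel]
    ring
  rcases ss_3D4 hq hK (x * y) hg with h1 | h1 | h1
  · rw [ho, e6] at h1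
    have h2 : s ∣ (q ^ 2 + q + 1) * (q - 1) * (q + 1) := (dvd_mul_left s r).trans h1
    rcases (Nat.Prime.dvd_mul hs).1 h2 with h3 | h3
    · rcases (Nat.Prime.dvd_mul hs).1 h3 with h4 | h4
      · exact cop_aux hs hq1 h4 hsN
      · exact not_dvd_pred' hs hq1 hsN h4
    · exact hs3 (three_of_succ' hs hq1 hsN h3)
  · rw [ho, e7] at h1
    have h2 : r ∣ (q ^ 2 - q + 1) * (q + 1) * (q - 1) := (dvd_mul_right r s).trans h1
    rcases (Nat.Prime.dvd_mul hr).1 h2 with h3 | h3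
    · rcases (Nat.Prime.dvd_mul hr).1 h3 with h4 | h4
      · exact cop_aux hr hq1 hrN h4
      · exact not_dvd_succ hr hrN h4
    · exact hr3 (three_of_pred hr hq1 hrN h3)
  · rw [ho] at h1
    exact not_dvd_twelve hr hq1 hrN ((dvd_mul_right r s).trans h1)

/-- **The `r`-subgroups are commutative.** -/
theorem comm_sub {K : Type} [Field K] [Fintype K] {q : ℕ} (hK : Fintype.card K = q ^ 3) {r : ℕ} (hr : r.Prime)
    (h5 : 5 ≤ r) (hrq : ¬ r ∣ q) (E : Subgroup ↥(twistedD4 K q)) (hE : IsPGroup r E) :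
    ∀ a ∈ E, ∀ b ∈ E, a * b = b * a := by
  have : Fact r.Prime := ⟨hr⟩
  have hpK : ¬ r ∣ Fintype.card K := by
    rw [hK]
    exact fun h => hrq (hr.dvd_of_dvd_pow h)
  have hnd : ∀ x ∈ [2, 4, 4, 6], ¬ r ∣ x := by
    intro x hx h1
    have h2 : ∀ x ∈ [2, 4, 4, 6], x ∣ (Nat.factorial 4) ^ 3 := by decide
    have h3 := (hr.dvd_factorial).1 (hr.dvd_of_dvd_pow (h1.trans (h2 x hx)))
    omega
  obtain ⟨ι, hι⟩ : ∃ ι : ↥(twistedD4 K q) →* ↥(chevD4.group K), Function.Injective ι :=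
    ⟨_, Subgroup.inclusion_injective (H28.FamFour.twisted_le_group q)⟩
  intro a ha b hb
  have h1 := H172.SI.deg_D4.comm (p := r) hnd hpK (E.map ι) (hE.map _) _ (Subgroup.mem_map_of_mem _ ha) _
    (Subgroup.mem_map_of_mem _ hb)
  rw [← map_mul, ← map_mul] at h1
  exact hι h1

end Cfsg.Agent.H92.TD
end

-- part: H92/TD/Reg
section
/-!
# Regular elements of prime order of `³D₄(q)` in the tori of order `(q² ± q + 1)²` (helper92, S2499)

* `RegE G l N r x` : `x` has order `r`, its centralizer is abelian of exponent dividing `N` and has at most `s ^ l` elements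
  of order dividing `s`;
* `exists_reg3`, `exists_reg6` : such elements of `³D₄(q)`, `r ≥ 5` a prime divisor of `N = q² + q + 1` or
  `N = q² - q + 1`.
-/

set_option autoImplicit false
set_option linter.unusedSectionVars false

namespace Cfsg.Agent.H92.TD

open CoxeterSystem Cfsg Cfsg.Lie Cfsg.Lie.ChevalleyDatum
open Cfsg.Agent.ChevalleyStructure Cfsg.Agent.ChevalleyStructure.Elts Cfsg.Agent.ChevalleyStructure.CoxeterGeom
  Cfsg.Agent.ChevalleyStructure.CoxeterGeomTypes Cfsg.Agent.ChevalleyStructure.NPerm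
open Cfsg.Agent.Tits.Roots Cfsg.Agent.Tits.Core Cfsg.Agent.Nodes Cfsg.Agent.Nodes.Reps Cfsg.Agent.Nodes.BNOf
  Cfsg.Agent.Nodes.RGDChev Cfsg.Agent.Nodes.Bruhat Cfsg.Agent.Nodes.SubComb Cfsg.Agent.Nodes.Coroot
open Cfsg.Agent.KFacts.RgdField Cfsg.Agent.KFacts.RgdChevCoord Cfsg.Agent.BpExc.TorCent Cfsg.Agent.BpExc.TorChev
open Cfsg.Agent.GpExc.Field Cfsg.Agent.BpExc.Tow Cfsg.Agent.BpExc.TowChev Cfsg.Agent.BpExc.Fr
  Cfsg.Agent.BpExc.LangFr Cfsg.Agent.LangThm Cfsg.Agent.BpExc Cfsg.Agent.H129.TorusChar Cfsg.Agent.H129.TorusCent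
  Cfsg.Agent.H129.TorusTw Cfsg.Agent.H129.TorusMain Cfsg.Agent.H493.PGTorus Cfsg.Agent.H493.PGTwist
open Cfsg.Agent.H129 Cfsg.Agent.H129.WData Cfsg.Agent.H129.TriD4 Cfsg.Agent.H378.CycTab

universe u

/-- a regular element of order `r` in a torus of exponent `N` -/
structure RegE (G : Type*) [Group G] (l N r : ℕ) (x : G) : Prop where
  ord : orderOf x = r
  pow : ∀ y : G, y * x = x * y → y ^ N = 1
  comm : ∀ y z : G, y * x = x * y → z * x = x * z → y * z = z * y
  tors : ∀ s : ℕ, s.Prime → Nat.card {y : G // y * x = x * y ∧ y ^ s = 1} ≤ s ^ l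

section Alg

variable {D : ChevalleyDatum} {l : ℕ} {M : CoxeterMatrix (Fin l)} (hp : IsType D l M) {k : Type u} [Field k]
  [IsAlgClosed k] {W : Type*} [Group W] (cs : CoxeterSystem M W) {p e : ℕ} [Fact p.Prime] [CharP k p]
  {σ : MulAut ↥(D.group k)} {g : (Fin l → ℤ) ≃+ (Fin l → ℤ)}

/-- torus elements with all the characters -/
theorem exists_t' (hσ : IsFrob p e σ) (F : Fr cs hp.isCartan (TT D k) (XX D l k) σ g) {d' : ℕ}
    {B' : Fin l → Fin l → ℤ} (hB : InvC D l d' B') (hd' : d' ≠ 0) {L : (Fin l → ℤ) →+ ℤ} {r : ℕ} (hr : r.Prime)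
    (hrp : r ≠ p) (hL : ∀ x, (r : ℤ) ∣ L (g x) - ((p ^ e : ℕ) : ℤ) * L x) {x₀ : Fin l → ℤ} (hx₀ : ¬ (r : ℤ) ∣ L x₀) :
    ∃ t ∈ TT D k, σ t = t ∧ orderOf t = r ∧ ∀ x, (r : ℤ) ∣ L x ↔ cX hp t x = 1 := by
  have := Fact.mk hr
  have hrk : (r : k) ≠ 0 := by
    rw [Ne, CharP.cast_eq_zero_iff k p]
    intro h
    exact hrp ((Nat.prime_dvd_prime_iff_eq (Fact.out : p.Prime) hr).1 h).symm
  have : NeZero (r : k) := ⟨hrk⟩
  obtain ⟨u, hu⟩ := HasEnoughRootsOfUnity.exists_primitiveRoot k r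
  have hu0 : u ≠ 0 := hu.ne_zero hr.ne_zero
  have hMC : IsMC (fun x : Fin l → ℤ => u ^ L x) :=
    ⟨by rw [map_zero, zpow_zero], fun x y => by rw [map_add, zpow_add₀ hu0]⟩
  obtain ⟨t, ht, hcX⟩ := exists_cX hp hB hd' hMC fun i =>
    IsAlgClosed.exists_pow_nat_eq _ (Nat.pos_of_ne_zero hd')
  have hone : ∀ z : ℤ, u ^ z = 1 ↔ (r : ℤ) ∣ z := fun z => hu.zpow_eq_one_iff_dvd z
  have hσt : σ t ∈ TT D k := (F.tor t).2 ht
  refine ⟨t, ht, ?_, ?_, fun x => ?_⟩
  · refine cX_inj hp hσt ht fun i => ?_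
    have h1 : sr i = g (g.symm (sr i)) := (g.apply_symm_apply _).symm
    rw [h1, cX_sigma hp cs hσ F ht, hcX, hcX, ← zpow_natCast, ← zpow_mul]
    obtain ⟨N, hN⟩ := hL (g.symm (sr i))
    have h2 : L (g (g.symm (sr i))) = L (g.symm (sr i)) * ((p ^ e : ℕ) : ℤ) + (r : ℤ) * N := by
      rw [← hN]; ring
    rw [h2, zpow_add₀ hu0, (hone ((r : ℤ) * N)).2 (dvd_mul_right _ _), mul_one]
  · refine orderOf_eq_prime ?_ ?_
    · refine cX_inj hp (pow_mem ht r) (one_mem _) fun i => ?_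
      rw [cX_pow hp ht, cX_one, hcX, ← zpow_natCast, ← zpow_mul, hone]
      exact dvd_mul_left _ _
    · intro h0
      apply hx₀
      rw [← hone, ← hcX, h0, cX_one]
  · rw [hcX]; exact (hone _).symm

variable {G0 : Type*} [Group G0] {e0 : G0 →* ↥(D.group k)}

/-- **The general theorem.** -/
theorem reg_of [Finite W] (hk : LocFin k) (he : 0 < e) (hσ : IsFrob p e σ)
    (F : Fr cs hp.isCartan (TT D k) (XX D l k) σ g) {d' : ℕ} {B' : Fin l → Fin l → ℤ} (hB : InvC D l d' B')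
    (hd' : d' ≠ 0) (he0 : Function.Injective e0) (hfix : ∀ y, σ (e0 y) = e0 y)
    (hd : ∀ y, σ y = y → y ∈ e0.range)
    {w : W} {Th : Fin l → Fin l → ℤ} (hw : ∀ j, rep cs hp.isCartan w (g (sr j)) = Th j)
    {c : Fin 2 → ℤ} {V : Fin 2 → Fin l → ℤ} {U : Fin l → ℤ}
    (h : EigOK (f := 1) (fun i j => Th j i) c V U) (hc0 : c 0 = 1)
    (hTh2 : ∀ j m, ∑ i, Th j i * Th i m + c 1 * Th j m + (if j = m then 1 else 0) = 0)
    (hnorm : ∀ a, IsRoot cs hp.isCartan a → ∃ A B : ℤ, lam V ((p ^ e : ℕ) : ℤ) a = A + B * ((p ^ e : ℕ) : ℤ) ∧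
      (A * A - c 1 * A * B + B * B = 1 ∨ A * A - c 1 * A * B + B * B = 3)) (hc1 : c 1 = 1 ∨ c 1 = -1)
    {r : ℕ} (hr : r.Prime) (h5 : 5 ≤ r) (hrW : ¬ r ∣ Nat.card W)
    {N : ℕ} (hN : (N : ℤ) = pv c ((p ^ e : ℕ) : ℤ)) (hrN : r ∣ N) : ∃ x : G0, RegE G0 l N r x := by
  set q : ℤ := ((p ^ e : ℕ) : ℤ) with hq
  have hpv : pv c q = q ^ 2 + c 1 * q + 1 := by
    simp only [pv, Fin.sum_univ_two, Fin.isValue, Fin.val_zero, pow_zero, mul_one, Fin.val_one, pow_one, hc0]
    ring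
  have h1 : (r : ℤ) ∣ pv c q := by rw [← hN]; exact Int.natCast_dvd_natCast.2 hrN
  obtain ⟨n, z, hz, hσ', F'⟩ := exists_z hp cs hk he hσ F w
  obtain ⟨t, ht, h3, h4, h5'⟩ := exists_t' hp cs hσ' F' hB hd' hr (ne_char (Or.inl hc0) Fact.out he h1)
    (hL_of_eig hp cs hw h h1) (x₀ := U) (by rw [lam_unit h]; exact H378.TwAdj.not_dvd_one hr)
  -- `t` is regular
  have hreg : ∀ a, IsRoot cs hp.isCartan a → cX hp t a ≠ 1 := by
    intro a ha h6
    rw [← h5'] at h6
    obtain ⟨A, B, e1, e2⟩ := hnorm a ha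
    rw [e1] at h6
    have h7 : (r : ℤ) ∣ A * A - c 1 * A * B + B * B := by
      have h8 : A * A - c 1 * A * B + B * B = (A + B * q) * (A - B * (q + c 1)) + B * B * pv c q := by
        rw [hpv]; ring
      rw [h8]
      exact dvd_add (dvd_mul_of_dvd_left h6 _) (dvd_mul_of_dvd_right h1 _)
    have h8 : (r : ℤ) ∣ 3 := by
      rcases e2 with e2 | e2
      · rw [e2] at h7
        exact absurd h7 (H378.TwAdj.not_dvd_one hr)
      · rwa [e2] at h7
    have h9 := Int.le_of_dvd (by norm_num) h8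
    omega
  have htr : ∀ a, cX hp t a ^ r = 1 := fun a => by
    rw [← cX_pow hp ht, ← h4, pow_orderOf_eq_one, cX_one]
  have hcent : ∀ y : ↥(D.group k), y * t = t * y → y ∈ TT D k := by
    intro y hy
    refine mem_TT_of_comm hp cs ht hk p hreg (fun w hw => ?_) hy
    have hE : {a | IsRoot cs hp.isCartan a ∧ cX hp t a ^ 1 = 1} = ∅ := by
      rw [Set.eq_empty_iff_forall_notMem]
      rintro a ⟨ha, ha1⟩
      exact hreg a ha (by rwa [pow_one] at ha1)
    refine stab_eq_one hp cs ht hk p (m := 1) hr hrW (fun a _ => by rw [one_mul]; exact htr a) (fun a ha h1 => ?_) ?_ hw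
    · exact absurd (by rwa [pow_one] at h1) (hreg a ha)
    · rw [hE]
      intro a ha
      exact absurd ha (Set.notMem_empty a)
  obtain ⟨x, hx⟩ := hd _ (fix_conj hz h3)
  -- the torus
  have hmem : ∀ y : G0, y * x = x * y → z⁻¹ * e0 y * z ∈ TT D k ∧
      (MulAut.conj n * σ) (z⁻¹ * e0 y * z) = z⁻¹ * e0 y * z := by
    intro y hy
    constructor
    · apply hcent
      have h6 := congrArg e0 hy
      rw [map_mul, map_mul, hx] at h6
      calc z⁻¹ * e0 y * z * t = z⁻¹ * (e0 y * (z * t * z⁻¹)) * z := by group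
        _ = z⁻¹ * (z * t * z⁻¹ * e0 y) * z := by rw [h6]
        _ = _ := by group
    · show n * σ (z⁻¹ * e0 y * z) * n⁻¹ = _
      rw [map_mul, map_mul, map_inv, hfix, hz]
      group
  have hrel : ∀ s ∈ TT D k, (MulAut.conj n * σ) s = s → ∀ b, cX hp s b ^ N = 1 := by
    intro s hs hsσ b
    have e1 : ∀ b, cX hp s ((g.trans (repAut cs hp.isCartan w)) b) = cX hp s b ^ p ^ e := by
      intro b
      have h6 := cX_sigma hp cs hσ' F' hs b
      rwa [hsσ] at h6
    have hmc := isMC_cX hp hs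
    have e2 : (g.trans (repAut cs hp.isCartan w)) ((g.trans (repAut cs hp.isCartan w)) b) +
        c 1 • (g.trans (repAut cs hp.isCartan w)) b + b = 0 := by
      have h6 : ∀ b : Fin l → ℤ, (g.trans (repAut cs hp.isCartan w)) b = ∑ j, b j • Th j := by
        intro b
        conv_lhs => rw [IsMC.eq_sum_sr b]
        rw [map_sum]
        refine Finset.sum_congr rfl fun j _ => ?_
        rw [map_zsmul]
        congr 1
        exact hw j
      funext m
      have h7 : ((g.trans (repAut cs hp.isCartan w)) b) = fun i => ∑ j, b j * Th j i := by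
        rw [h6]; funext i; rw [Finset.sum_apply]; rfl
      have h8 : ((g.trans (repAut cs hp.isCartan w)) ((g.trans (repAut cs hp.isCartan w)) b)) m =
          ∑ i, (∑ j, b j * Th j i) * Th i m := by
        rw [h6 ((g.trans (repAut cs hp.isCartan w)) b), h7, Finset.sum_apply]; rfl
      rw [Pi.add_apply, Pi.add_apply, Pi.smul_apply, h8, h7]
      have h9 : b m = ∑ j, b j * (if j = m then 1 else 0) := by simp only [_root_.mul_ite, _root_.mul_one, _root_.MulZeroClass.mul_zero, _root_.Finset.sum_ite_eq', _root_.Finset.mem_univ, ↓ _root_.reduceIte]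
      rw [smul_eq_mul, h9, Pi.zero_apply]
      have h10 : ∑ i, (∑ j, b j * Th j i) * Th i m = ∑ j, b j * ∑ i, Th j i * Th i m := by
        simp only [Finset.sum_mul, Finset.mul_sum]
        rw [Finset.sum_comm]
        exact Finset.sum_congr rfl fun _ _ => Finset.sum_congr rfl fun _ _ => by ring
      rw [h10, Finset.mul_sum, ← Finset.sum_add_distrib, ← Finset.sum_add_distrib]
      refine Finset.sum_eq_zero fun j _ => ?_
      have := hTh2 j m
      linear_combination b j * this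
    have e3 := congrArg (cX hp s) e2
    rw [hmc.zero, hmc.add, hmc.add, hmc.zsmul, e1, e1] at e3
    have h0 := hmc.ne_zero b
    have e4 : cX hp s b ^ (N : ℤ) = 1 := by
      rw [hN, hpv, zpow_add₀ h0, zpow_add₀ h0, zpow_one]
      have e5 : cX hp s b ^ q ^ 2 = (cX hp s b ^ p ^ e) ^ p ^ e := by
        rw [hq, ← pow_mul, ← zpow_natCast]
        congr 1
        push_cast
        ring
      have e6 : cX hp s b ^ (c 1 * q) = (cX hp s b ^ p ^ e) ^ c 1 := by
        rw [hq, mul_comm, zpow_mul, zpow_natCast]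
      rw [e5, e6]
      exact e3
    rwa [zpow_natCast] at e4
  have hinj : ∀ y y' : G0, z⁻¹ * e0 y * z = z⁻¹ * e0 y' * z → y = y' := by
    intro y y' h6
    exact he0 (mul_left_cancel (mul_right_cancel h6))
  refine ⟨x, ?_, fun y hy => ?_, fun y y' hy hy' => ?_, fun s hs => ?_⟩
  · rw [← orderOf_injective e0 he0, hx, ← h4]
    exact orderOf_injective (MulAut.conj z).toMonoidHom (MulAut.conj z).injective t
  · obtain ⟨h6, h7⟩ := hmem y hy
    have h8 : (z⁻¹ * e0 y * z) ^ N = 1 := by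
      refine cX_inj hp (pow_mem h6 N) (one_mem _) fun i => ?_
      rw [cX_pow hp h6, cX_one, hrel _ h6 h7]
    apply he0
    rw [map_pow, map_one]
    have h9 := conj_pow (a := z⁻¹) (b := e0 y) (i := N)
    rw [inv_inv, h8] at h9
    have h10 : e0 y ^ N = z * (z⁻¹ * e0 y ^ N * z) * z⁻¹ := by group
    rw [h10, ← h9]; group
  · obtain ⟨h6, -⟩ := hmem y hy
    obtain ⟨h7, -⟩ := hmem y' hy'
    have h8 := TT_comm hp _ h6 _ h7
    apply hinj
    rw [map_mul, map_mul]
    calc z⁻¹ * (e0 y * e0 y') * z = z⁻¹ * e0 y * z * (z⁻¹ * e0 y' * z) := by group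
      _ = z⁻¹ * e0 y' * z * (z⁻¹ * e0 y * z) := h8
      _ = _ := by group
  · classical
    have : NeZero s := ⟨hs.ne_zero⟩
    let f : {y : G0 // y * x = x * y ∧ y ^ s = 1} → (Fin l → rootsOfUnity s k) := fun y i =>
      ⟨Units.mk0 (cX hp (z⁻¹ * e0 y.1 * z) (sr i)) ((isMC_cX hp (hmem y.1 y.2.1).1).ne_zero _), by
        rw [mem_rootsOfUnity]
        apply Units.ext
        rw [Units.val_pow_eq_pow_val, Units.val_mk0, Units.val_one, ← cX_pow hp (hmem y.1 y.2.1).1]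
        have h9 := conj_pow (a := z⁻¹) (b := e0 y.1) (i := s)
        rw [inv_inv] at h9
        rw [h9, ← map_pow, y.2.2, map_one, mul_one, inv_mul_cancel, cX_one]⟩
    have hf : Function.Injective f := by
      intro y y' h6
      apply Subtype.ext
      apply hinj
      refine cX_inj hp (hmem y.1 y.2.1).1 (hmem y'.1 y'.2.1).1 fun i => ?_
      exact congrArg (fun u : rootsOfUnity s k => ((u : kˣ) : k)) (congrFun h6 i)
    have h7 := Nat.card_le_card_of_injective f hf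
    rw [Nat.card_fun] at h7
    refine h7.trans ?_
    rw [Nat.card_fin]
    refine Nat.pow_le_pow_left ?_ l
    exact card_rootsOfUnity k s

end Alg

section Inst

/-- the partial products, class 3 -/
def L3 : List (Fin 4 × Mat 4) := [
    (2, ![![-1, -1, 0, -1], ![0, -1, -1, 0], ![0, 1, 1, 1], ![0, 1, 0, 0]]),
    (0, ![![-1, -1, -1, -1], ![0, -1, 0, 0], ![0, 1, 0, 1], ![0, 1, 1, 0]]),
    (1, ![![0, -1, -1, -1], ![-1, -1, 0, 0], ![1, 1, 0, 1], ![1, 1, 1, 0]]),
    (3, ![![0, -1, -1, -1], ![-1, 0, 0, 0], ![1, 1, 0, 1], ![1, 1, 1, 0]]),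
    (2, ![![0, -1, -1, 0], ![-1, 0, 0, 0], ![1, 1, 0, 0], ![1, 1, 1, 1]]),
    (0, ![![0, -1, 0, 0], ![-1, 0, 0, 0], ![1, 1, 1, 0], ![1, 1, 0, 1]]),
    (1, ![![-1, -1, 0, 0], ![1, 0, 0, 0], ![0, 1, 1, 0], ![0, 1, 0, 1]]),
    (0, ![![-1, 0, 0, 0], ![1, 1, 0, 0], ![0, 0, 1, 0], ![0, 0, 0, 1]])]

/-- the matrix, class 3 -/
def M3 : Mat 4 := ![![0, 1, 1, 1], ![0, -1, -1, 0], ![0, 1, 0, 0], ![-1, -1, 0, -1]]

/-- the regular eigenfunctional, class 3 -/
def V3 : Fin 2 → Fin 4 → ℤ := ![![-1, 0, -1, 1], ![0, -1, 0, 0]]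

/-- the partial products, class 6 -/
def L6 : List (Fin 4 × Mat 4) := [
    (2, ![![0, -1, -1, 0], ![-1, 0, 0, 0], ![1, 1, 0, 0], ![1, 1, 1, 1]]),
    (0, ![![0, -1, 0, 0], ![-1, 0, 0, 0], ![1, 1, 1, 0], ![1, 1, 0, 1]]),
    (1, ![![-1, -1, 0, 0], ![1, 0, 0, 0], ![0, 1, 1, 0], ![0, 1, 0, 1]]),
    (0, ![![-1, 0, 0, 0], ![1, 1, 0, 0], ![0, 0, 1, 0], ![0, 0, 0, 1]])]

/-- the matrix, class 6 -/
def M6 : Mat 4 := ![![1, 1, 0, 0], ![-1, 0, 0, 0], ![1, 1, 1, 1], ![0, -1, -1, 0]]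

/-- the regular eigenfunctional, class 6 -/
def V6 : Fin 2 → Fin 4 → ℤ := ![![0, 1, 0, 0], ![-1, 0, -1, 1]]

theorem ch3 : ChainOK Cfsg.Agent.H493.PGD4T.Am L3 := by decide +kernel
theorem th3 : ∀ j, hd L3 (Cfsg.Agent.H493.PGD4T.pi j) = M3 j := by decide +kernel
theorem eig3 : EigOK (f := 1) (fun i j => M3 j i) c3 V3 ![-1, 0, 0, 0] := by decide +kernel
theorem sq3 : ∀ j m, ∑ i, M3 j i * M3 i m + c3 1 * M3 j m + (if j = m then 1 else 0) = 0 := by decide +kernel
theorem ch6 : ChainOK Cfsg.Agent.H493.PGD4T.Am L6 := by decide +kernel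
theorem th6 : ∀ j, hd L6 (Cfsg.Agent.H493.PGD4T.pi j) = M6 j := by decide +kernel
theorem eig6 : EigOK (f := 1) (fun i j => M6 j i) c6 V6 ![0, 1, 0, 0] := by decide +kernel
theorem sq6 : ∀ j m, ∑ i, M6 j i * M6 i m + c6 1 * M6 j m + (if j = m then 1 else 0) = 0 := by decide +kernel

/-- the check of the norms -/
def NormOK (c : Fin 2 → ℤ) (V : Fin 2 → Fin 4 → ℤ) : Prop := ∀ s : Fin 24,
  (∑ m, vec chevD4 4 s.val m * V 0 m) * (∑ m, vec chevD4 4 s.val m * V 0 m) -
    c 1 * (∑ m, vec chevD4 4 s.val m * V 0 m) * (∑ m, vec chevD4 4 s.val m * V 1 m) +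
    (∑ m, vec chevD4 4 s.val m * V 1 m) * (∑ m, vec chevD4 4 s.val m * V 1 m) = 1 ∨
  (∑ m, vec chevD4 4 s.val m * V 0 m) * (∑ m, vec chevD4 4 s.val m * V 0 m) -
    c 1 * (∑ m, vec chevD4 4 s.val m * V 0 m) * (∑ m, vec chevD4 4 s.val m * V 1 m) +
    (∑ m, vec chevD4 4 s.val m * V 1 m) * (∑ m, vec chevD4 4 s.val m * V 1 m) = 3

instance (c : Fin 2 → ℤ) (V : Fin 2 → Fin 4 → ℤ) : Decidable (NormOK c V) := by unfold NormOK; infer_instance

theorem norm3 : NormOK c3 V3 := by decide +kernel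
theorem norm6 : NormOK c6 V6 := by decide +kernel

theorem reg_gen {K : Type u} [Field K] [Fintype K] {q : ℕ} (hq : IsPrimePow q) (hK : Fintype.card K = q ^ 3)
    {L : List (Fin 4 × Mat 4)} (hL : ChainOK H493.PGD4T.Am L) {Th : Mat 4} (hTh : ∀ j, hd L (H493.PGD4T.pi j) = Th j)
    {c : Fin 2 → ℤ} {V : Fin 2 → Fin 4 → ℤ} {U : Fin 4 → ℤ} (h : EigOK (f := 1) (fun i j => Th j i) c V U)
    (hc0 : c 0 = 1) (hc1 : c 1 = 1 ∨ c 1 = -1)
    (hTh2 : ∀ j m, ∑ i, Th j i * Th i m + c 1 * Th j m + (if j = m then 1 else 0) = 0) (hnorm : NormOK c V)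
    {r : ℕ} (hr : r.Prime) (h5 : 5 ≤ r) {N : ℕ} (hN : (N : ℤ) = pv c (q : ℤ)) (hrN : r ∣ N) :
    ∃ x : ↥(twistedD4 K q), RegE ↥(twistedD4 K q) 4 N r x := by
  have := H493.PGD4T.finW
  obtain ⟨p, e, hpF, hpk, he, hqe, hk⟩ := H493.PGD4T.setup hq hK
  have hqe' : (q : ℤ) = ((p ^ e : ℕ) : ℤ) := by rw [hqe]
  refine reg_of RGDTwD4.hp coxeterD4.toCoxeterSystem hk he isFrob_tau (fr_tau _) TorusChar.invC_D4
    (by norm_num) (embT_injective (algebraMap K (AlgebraicClosure K)) hq hK)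
    (fun y => tau_embT _ hqe hq hK y) (fun y hy => tau_range _ hqe hq hK hy)
    (H493.PGD4T.lin _ hL hTh) h hc0 hTh2 (fun a ha => ?_) hc1 hr h5 ?_ (by rw [hN, hqe']) hrN
  · obtain ⟨s, hs, rfl⟩ := (isRoot_iff RGDTwD4.hp coxeterD4.toCoxeterSystem a).1 ha
    refine ⟨_, _, ?_, hnorm ⟨s, hs⟩⟩
    have key : ∀ m, vval (f := 1) V ((p ^ e : ℕ) : ℤ) m = V 0 m + V 1 m * ((p ^ e : ℕ) : ℤ) := by
      intro m
      show ∑ i : Fin 2, ((p ^ e : ℕ) : ℤ) ^ (i : ℕ) * V i m = _
      rw [Fin.sum_univ_two]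
      simp
      ring
    rw [lam_apply, Finset.sum_mul, ← Finset.sum_add_distrib]
    refine Finset.sum_congr rfl fun m _ => ?_
    rw [key]
    ring
  · have hW : Nat.card coxeterD4.Group = 192 :=
      ChevalleyStructure.WeylData.certD4.card_group.trans ChevalleyStructure.WeylData.size_D4
    rw [hW]
    intro h6
    have h2 : (192 : ℕ) = 2 ^ 6 * 3 := by norm_num
    rw [h2] at h6
    rcases (Nat.Prime.dvd_mul hr).1 h6 with h | h
    · have := Nat.le_of_dvd (by norm_num) (hr.dvd_of_dvd_pow h)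
      omega
    · have := Nat.le_of_dvd (by norm_num) h
      omega

variable {K : Type u} [Field K] [Fintype K] {q : ℕ} (hq : IsPrimePow q) (hK : Fintype.card K = q ^ 3) {r : ℕ}
  (hr : r.Prime) (h5 : 5 ≤ r)

include hq hK hr h5

/-- **Regular elements, `q² + q + 1`.** -/
theorem exists_reg3 (hrN : r ∣ q ^ 2 + q + 1) :
    ∃ x : ↥(twistedD4 K q), RegE ↥(twistedD4 K q) 4 (q ^ 2 + q + 1) r x :=
  reg_gen hq hK ch3 th3 eig3 rfl (Or.inl rfl) sq3 norm3 hr h5 (by rw [pv3]; push_cast; ring) hrN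

/-- **Regular elements, `q² - q + 1`.** -/
theorem exists_reg6 (hrN : r ∣ q ^ 2 - q + 1) :
    ∃ x : ↥(twistedD4 K q), RegE ↥(twistedD4 K q) 4 (q ^ 2 - q + 1) r x :=
  reg_gen hq hK ch6 th6 eig6 rfl (Or.inr rfl) sq6 norm6 hr h5 (by
    rw [pv6, Nat.cast_add, Nat.cast_sub (Nat.le_self_pow (by norm_num) q)]; push_cast; ring) hrN

end Inst

end Cfsg.Agent.H92.TD
end

-- part: H92/TD/Soc
section
/-!
# Almost simple groups from two non-adjacent primes (helper92, S2499)

* `NilFix` (S4319), `Gross` (S1942): the hypotheses;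
* `exists_soc` : a finite group `M` without solvable normal subgroups, with elements of prime orders `r ≠ r'` with
  commutative centralizers, the primes `r`, `r'` not adjacent, has a simple normal subgroup `S` with `C_M(S) = 1` and
  `r, r' ∣ |S|`; if the `r`-subgroups of `M` are commutative, `r` odd, then `|S|` has the same `r`-part as `|M|`.
-/

set_option autoImplicit false

namespace Cfsg.Agent.H92.TD

open Subgroup

/-- S4319, nilpotent fixed points -/
def NilFix : Prop :=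
  ∀ (A G : Type) [Group A] [Finite A] [Group G] [Finite G] [MulDistribMulAction A G],
    (Nat.card G).Coprime (Nat.card A) → Group.IsNilpotent ↥(FixedPoints.subgroup A G) → Group.IsSolvable G

/-- S1942 -/
def Gross : Prop :=
  ∀ (G : Type) [Group G] [Finite G] [IsSimpleGroup G], ¬ IsMulCommutative G → ∀ (p : ℕ) [Fact p.Prime],
    p ≠ 2 → p ∣ Nat.card G → ∀ (P : Sylow p G) (α : MulAut G), (∃ j : ℕ, orderOf α = p ^ j) →
    (∀ x ∈ (P : Subgroup G), α x = x) → ∃ g : G, ∀ x : G, α x = g * x * g⁻¹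

variable {M : Type} [Group M] [Finite M]

/-- an element of prime order with commutative centralizer meets every normal subgroup -/
theorem dvd_of_normal (hN : NilFix) (hrad : ∀ A : Subgroup M, A.Normal → Group.IsSolvable A → A = ⊥) {r : ℕ}
    (hr : r.Prime) {x : M} (hx : orderOf x = r) (hc : ∀ y z : M, y * x = x * y → z * x = x * z → y * z = z * y)
    {Y : Subgroup M} (hY : Y.Normal) (hY0 : Y ≠ ⊥) : r ∣ Nat.card Y := by
  by_contra hnd
  apply hY0
  apply hrad Y hY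
  let φ : zpowers x →* MulAut Y := (MulAut.conjNormal (H := Y)).comp (zpowers x).subtype
  let _ : MulDistribMulAction (zpowers x) Y := MulDistribMulAction.compHom Y φ
  refine hN (zpowers x) Y ?_ ?_
  · rw [Nat.card_zpowers, hx]
    exact ((Nat.Prime.coprime_iff_not_dvd hr).2 hnd).symm
  · have key : ∀ a : FixedPoints.subgroup (zpowers x) Y, ((a : Y) : M) * x = x * ((a : Y) : M) := by
      intro a
      have h3 : φ ⟨x, mem_zpowers x⟩ (a : Y) = (a : Y) := a.2 ⟨x, mem_zpowers x⟩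
      have h4 : x * ((a : Y) : M) * x⁻¹ = ((a : Y) : M) := by
        have := congrArg Subtype.val h3
        simpa only [φ, MulAut.conjNormal_apply, _root_.MonoidHom.coe_comp, _root_.Subgroup.coe_subtype, _root_.Function.comp_apply] using this
      exact (mul_inv_eq_iff_eq_mul.1 h4).symm
    have hcom : ∀ a b : FixedPoints.subgroup (zpowers x) Y, a * b = b * a := by
      intro a b
      exact Subtype.ext (Subtype.ext (hc _ _ (key a) (key b)))
    let _ : CommGroup ↥(FixedPoints.subgroup (zpowers x) Y) := { mul_comm := hcom }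
    exact CommGroup.isNilpotent

theorem exists_soc (hN : NilFix) (hrad : ∀ A : Subgroup M, A.Normal → Group.IsSolvable A → A = ⊥) {r s : ℕ}
    (hr : r.Prime) (hs : s.Prime) {x y : M} (hx : orderOf x = r) (hy : orderOf y = s)
    (hcx : ∀ a b : M, a * x = x * a → b * x = x * b → a * b = b * a)
    (hcy : ∀ a b : M, a * y = y * a → b * y = y * b → a * b = b * a)
    (hno : ∀ a b : M, orderOf a = r → orderOf b = s → ¬ Commute a b) :
    ∃ S : Subgroup M, S.Normal ∧ IsSimpleGroup S ∧ ¬ IsMulCommutative S ∧ centralizer (S : Set M) = ⊥ ∧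
      r ∣ Nat.card S ∧ s ∣ Nat.card S := by
  have hne : (⊤ : Subgroup M) ≠ ⊥ := by
    intro h
    have h1 : x ∈ (⊥ : Subgroup M) := h ▸ mem_top x
    rw [mem_bot] at h1
    rw [h1, orderOf_one] at hx
    exact hr.one_lt.ne hx
  obtain ⟨X, ⟨hXn, hX0⟩, hmin⟩ := (wellFounded_lt (α := Subgroup M)).has_min
    {A : Subgroup M | A.Normal ∧ A ≠ ⊥} ⟨⊤, inferInstance, hne⟩
  have hmin' : ∀ B : Subgroup M, B.Normal → B ≤ X → B = ⊥ ∨ B = X := by
    intro B hB hBX
    by_contra hcon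
    push Not at hcon
    exact hmin B ⟨hB, hcon.1⟩ (lt_of_le_of_ne hBX hcon.2)
  have hXna : ¬ IsMulCommutative X := by
    intro h
    apply hX0
    apply hrad X hXn
    let _ : CommGroup X := { mul_comm := h.1.1 }
    infer_instance
  have := Fact.mk hr
  have := Fact.mk hs
  obtain ⟨S₀, _, hS₀, k, hk, hna, ⟨e⟩⟩ := Cfsg.Agent.H671.Frame.minNormal_pi hXn hX0 hmin' hXna
  have hfin : Finite S₀ := by
    let g : S₀ → X := fun a => e.symm (fun _ => a)
    refine Finite.of_injective g fun a b h => ?_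
    have h1 := e.symm.injective h
    exact congrFun h1 ⟨0, hk⟩
  have hcard : Nat.card X = Nat.card S₀ ^ k := by
    rw [Nat.card_congr e.toEquiv, Nat.card_fun, Nat.card_fin]
  have hrX := dvd_of_normal hN hrad hr hx hcx hXn hX0
  have hsX := dvd_of_normal hN hrad hs hy hcy hXn hX0
  rw [hcard] at hrX hsX
  obtain ⟨a, ha⟩ := exists_prime_orderOf_dvd_card' r (hr.dvd_of_dvd_pow hrX)
  obtain ⟨b, hb⟩ := exists_prime_orderOf_dvd_card' s (hs.dvd_of_dvd_pow hsX)
  have hk1 : k = 1 := by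
    by_contra hk1
    have hk2 : 1 < k := by omega
    let i : Fin k := ⟨0, hk⟩
    let j : Fin k := ⟨1, hk2⟩
    have hij : i ≠ j := by
      intro h
      have := congrArg Fin.val h
      simp [i, j] at this
    let f : S₀ →* M := X.subtype.comp (e.symm.toMonoidHom.comp (MonoidHom.mulSingle (fun _ : Fin k => S₀) i))
    let g : S₀ →* M := X.subtype.comp (e.symm.toMonoidHom.comp (MonoidHom.mulSingle (fun _ : Fin k => S₀) j))
    have hf : Function.Injective f := X.subtype_injective.comp (e.symm.injective.comp (Pi.mulSingle_injective (M := fun _ : Fin k => S₀) i))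
    have hg : Function.Injective g := X.subtype_injective.comp (e.symm.injective.comp (Pi.mulSingle_injective (M := fun _ : Fin k => S₀) j))
    refine hno (f a) (g b) ((orderOf_injective f hf a).trans ha) ((orderOf_injective g hg b).trans hb) ?_
    have h1 : Commute (Pi.mulSingle (M := fun _ : Fin k => S₀) i a) (Pi.mulSingle (M := fun _ : Fin k => S₀) j b) :=
      Pi.mulSingle_commute (f := fun _ : Fin k => S₀) hij a b
    exact (h1.map e.symm.toMonoidHom).map X.subtype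
  subst hk1
  have hXs : IsSimpleGroup X := by
    have e1 : (Fin 1 → S₀) ≃* S₀ := MulEquiv.funUnique (Fin 1) S₀
    exact (e.trans e1).isSimpleGroup
  have hC : centralizer (X : Set M) = ⊥ := by
    by_contra h0
    have hCn : (centralizer (X : Set M)).Normal := inferInstance
    have h1 := dvd_of_normal hN hrad hr hx hcx hCn h0
    obtain ⟨c, hc⟩ := exists_prime_orderOf_dvd_card' r h1
    obtain ⟨d, hd⟩ := exists_prime_orderOf_dvd_card' s (hcard ▸ hsX)
    refine hno (c : M) (d : M) (by rw [Subgroup.orderOf_coe, hc]) (by rw [Subgroup.orderOf_coe, hd]) ?_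
    exact (mem_centralizer_iff.1 c.2 d d.2).symm
  exact ⟨X, hXn, hXs, hXna, hC, by rw [hcard]; exact hrX, by rw [hcard]; exact hsX⟩

/-- **The full `r`-part.** -/
theorem pow_dvd_soc (hG : Gross) {S : Subgroup M} (hSn : S.Normal) (hSs : IsSimpleGroup S)
    (hSna : ¬ IsMulCommutative S) (hC : centralizer (S : Set M) = ⊥) {r : ℕ} (hr : r.Prime) (hr2 : r ≠ 2)
    (hrS : r ∣ Nat.card S) (hcomm : ∀ E : Subgroup M, IsPGroup r E → ∀ a ∈ E, ∀ b ∈ E, a * b = b * a) {n : ℕ}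
    (hn : r ^ n ∣ Nat.card M) : r ^ n ∣ Nat.card S := by
  have := Fact.mk hr
  let Q : Sylow r S := Classical.arbitrary _
  have hQ : IsPGroup r ((Q : Subgroup S).map S.subtype) := Q.isPGroup'.map _
  obtain ⟨P, hP⟩ := hQ.exists_le_sylow
  have hPS : (P : Subgroup M) ≤ S := by
    intro g hg
    obtain ⟨j, hj⟩ := (IsPGroup.iff_orderOf.1 P.isPGroup') ⟨g, hg⟩
    rw [Subgroup.orderOf_mk] at hj
    obtain ⟨s, hs⟩ := hG S hSna r hr2 hrS Q (MulAut.conjNormal g) (by
      have h1 : orderOf (MulAut.conjNormal (H := S) g) ∣ r ^ j := by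
        rw [← hj]; exact orderOf_map_dvd _ _
      obtain ⟨i, -, hi⟩ := (Nat.dvd_prime_pow hr).1 h1
      exact ⟨i, hi⟩) (by
      intro y hy
      apply Subtype.ext
      rw [MulAut.conjNormal_apply]
      have h1 : (y : M) ∈ (P : Subgroup M) := hP ⟨y, hy, rfl⟩
      have h2 := hcomm P P.isPGroup' g hg y h1
      rw [h2, mul_inv_cancel_right])
    have h1 : (s : M)⁻¹ * g ∈ centralizer (S : Set M) := by
      rw [mem_centralizer_iff]
      intro y hy
      have h2 := congrArg Subtype.val (hs ⟨y, hy⟩)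
      rw [MulAut.conjNormal_apply] at h2
      have h3 : g * y * g⁻¹ = s * y * (s : M)⁻¹ := h2
      have h4 : (s : M)⁻¹ * (g * y * g⁻¹) * g = (s : M)⁻¹ * (s * y * (s : M)⁻¹) * g := by rw [h3]
      calc y * ((s : M)⁻¹ * g) = (s : M)⁻¹ * (s * y * (s : M)⁻¹) * g := by group
        _ = (s : M)⁻¹ * (g * y * g⁻¹) * g := h4.symm
        _ = _ := by group
    rw [hC, mem_bot] at h1
    have h2 : g = s := (inv_mul_eq_one.1 h1).symm
    rw [h2]
    exact s.2
  have h1 : r ^ n ∣ Nat.card P := by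
    obtain ⟨E, hE⟩ := Sylow.exists_subgroup_card_pow_prime r hn
    have hEp : IsPGroup r E := IsPGroup.of_card hE
    obtain ⟨P', hP'⟩ := hEp.exists_le_sylow
    have h2 := card_dvd_of_le hP'
    rw [hE] at h2
    have h3 : Nat.card P' = Nat.card P := Nat.card_congr (P'.equiv P).toEquiv
    exact h3 ▸ h2
  exact h1.trans (card_dvd_of_le hPS)

end Cfsg.Agent.H92.TD
end

-- part: H92/TD/Rad
section
/-!
# No solvable normal subgroups (helper92, S2499)

* `comm_of_lt` : an element of prime order `r > n` centralizes the abelian `p'`-subgroups of `GL_n` it normalizes;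
* `pow_dvd_of` : two non-conjugate subgroups of order `r` and an element of order `r ^ a` : `r ^ (a + 1) ∣ |M|`;
* `no_solvable` : a subgroup of a group `T` of degree 8 with elements of two classes of tori has no normal `t`-subgroup.
-/

set_option autoImplicit false

namespace Cfsg.Agent.H92.TD

open Subgroup Module Cfsg.Agent.H912.Bd Cfsg.Agent.H290.ElWt Cfsg.Agent.H563.KG

/-! ### weights -/

section Wt

variable {F : Type*} [Field F] {ι : Type*} [Fintype ι] [DecidableEq ι] {G : Type*} [Group G] [Finite G]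

/-- **Elements of large prime order centralize abelian `p'`-subgroups.** -/
theorem comm_of_lt {p : ℕ} [CharP F p] {τ : G →* GL ι F} (hτ : Function.Injective τ) {A : Subgroup G} [A.Normal]
    (hA : ∀ a ∈ A, ∀ b ∈ A, a * b = b * a) (hp : ¬ p ∣ Nat.card A) {x : G} {r : ℕ} (hr : r.Prime)
    (hx : orderOf x = r) (hlt : Fintype.card ι < r) {a : G} (ha : a ∈ A) : a * x = x * a := by
  have := Fact.mk hr
  have : CharP (AlgebraicClosure F) p := charP_of_injective_algebraMap (algebraMap F _).injective p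
  have hN : ((Nat.card A : ℕ) : AlgebraicClosure F) ≠ 0 := by
    intro h
    exact hp ((CharP.cast_eq_zero_iff (AlgebraicClosure F) p _).1 h)
  have hAN : ∀ a ∈ A, a ^ Nat.card A = 1 := fun a ha => by
    have := pow_card_eq_one' (x := (⟨a, ha⟩ : A))
    exact congrArg Subtype.val this
  obtain ⟨hfin, hle⟩ := finite_wts (cl τ) hA hN hAN
  have hn : finrank (AlgebraicClosure F) (ι → AlgebraicClosure F) = Fintype.card ι := by simp only [_root_.Module.finrank_fintype_fun_eq_card]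
  rw [hn] at hle
  have hfix : ∀ χ : Wts (cl τ) A, x⁻¹ • χ = χ := by
    intro χ
    have h1 : Nat.card (MulAction.orbit (zpowers x) χ) ∣ Nat.card (zpowers x) := by
      rw [Nat.card_coe_set_eq, ← MulAction.index_stabilizer]
      exact Subgroup.index_dvd_card _
    rw [Nat.card_zpowers, hx] at h1
    have h2 : Nat.card (MulAction.orbit (zpowers x) χ) ≤ Nat.card (Wts (cl τ) A) :=
      Nat.card_le_card_of_injective _ Subtype.val_injective
    rcases (Nat.dvd_prime hr).1 h1 with h3 | h3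
    · obtain ⟨c, hc⟩ := Nat.card_eq_one_iff_exists.1 h3
      have h4 := hc ⟨χ, MulAction.mem_orbit_self χ⟩
      have h5 := hc ⟨x⁻¹ • χ, ⟨⟨x⁻¹, inv_mem (mem_zpowers x)⟩, rfl⟩⟩
      exact congrArg Subtype.val (h5.trans h4.symm)
    · omega
  have hxa : x * a * x⁻¹ ∈ A := (inferInstance : A.Normal).conj_mem a ha x
  have hb : a⁻¹ * (x * a * x⁻¹) ∈ A := mul_mem (inv_mem ha) hxa
  have key : (⟨a⁻¹ * (x * a * x⁻¹), hb⟩ : A) = ⟨a, ha⟩⁻¹ * ⟨x * a * x⁻¹, hxa⟩ := rfl
  have h6 : cl τ (a⁻¹ * (x * a * x⁻¹)) = 1 := by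
    by_contra hne
    obtain ⟨χ, hχ, hχb⟩ := exists_wt (cl τ) hA hN hAN (c := ⟨a⁻¹ * (x * a * x⁻¹), hb⟩) hne
    apply hχb
    rw [key, wt_mul (cl τ) hχ]
    have h7 := congrArg Subtype.val (hfix ⟨χ, hχ, ⟨_, hχb⟩⟩)
    have h8 : tw A x⁻¹ χ = χ := h7
    have h9 := congrFun h8 ⟨a, ha⟩
    have h10 : χ ⟨x * a * x⁻¹, hxa⟩ = χ ⟨a, ha⟩ := by
      rw [← h9]
      exact congrArg χ (Subtype.ext (by simp))
    rw [h10, ← wt_mul (cl τ) hχ, inv_mul_cancel, wt_one (cl τ) hχ]
  have h11 := cl_injective hτ h6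
  have h12 : a = x * a * x⁻¹ := inv_mul_eq_one.1 h11
  rw [eq_mul_inv_iff_mul_eq] at h12
  exact h12

end Wt

/-! ### Sylow subgroups -/

section Syl

variable {M : Type*} [Group M] [Finite M]

theorem mem_zpowers_cyc {A : Type*} [Group A] [Finite A] [IsCyclic A] {x z : A}
    (h : orderOf x ∣ orderOf z) : x ∈ Subgroup.zpowers z := by
  classical
  have := Fintype.ofFinite A
  have h1 := IsCyclic.card_pow_eq_one_le (α := A) (n := orderOf z) (orderOf_pos z)
  have h2 : (Finset.univ.filter fun a : A => a ∈ Subgroup.zpowers z) ⊆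
      (Finset.univ.filter fun a : A => a ^ orderOf z = 1) := by
    intro a ha
    simp only [Finset.mem_filter, Finset.mem_univ, true_and] at ha ⊢
    obtain ⟨k, rfl⟩ := Subgroup.mem_zpowers_iff.1 ha
    rw [← zpow_natCast, ← zpow_mul, mul_comm, zpow_mul, zpow_natCast, pow_orderOf_eq_one, one_zpow]
  have h3 : (Finset.univ.filter fun a : A => a ∈ Subgroup.zpowers z).card = orderOf z := by
    rw [← Nat.card_zpowers, Nat.card_eq_fintype_card, Fintype.card_subtype]
  have h4 := Finset.eq_of_subset_of_card_le h2 (by rw [h3]; exact h1)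
  have h5 : x ∈ (Finset.univ.filter fun a : A => a ^ orderOf z = 1) := by
    simp only [Finset.mem_filter, Finset.mem_univ, true_and]
    exact orderOf_dvd_iff_pow_eq_one.1 h
  rw [← h4] at h5
  simpa using h5

theorem exists_conj_sylow {r : ℕ} [Fact r.Prime] (P : Sylow r M) {y : M} {b : ℕ} (hy : orderOf y = r ^ b) :
    ∃ g : M, g * y * g⁻¹ ∈ (P : Subgroup M) := by
  have h1 : IsPGroup r (zpowers y) := IsPGroup.of_card (n := b) (by rw [Nat.card_zpowers, hy])
  obtain ⟨Q, hQ⟩ := h1.exists_le_sylow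
  obtain ⟨g, rfl⟩ := MulAction.exists_smul_eq M Q P
  refine ⟨g, ?_⟩
  rw [Sylow.coe_subgroup_smul, mem_pointwise_smul_iff_inv_smul_mem]
  have : (MulAut.conj g)⁻¹ • (g * y * g⁻¹) = y := by
    simp only [MulAut.smul_def, _root_.smul_mul', _root_.MulAut.inv_apply, _root_.MulAut.conj_symm_apply, _root_.inv_mul_cancel, _root_.one_mul, _root_.smul_inv']
    group
  rw [this]
  exact hQ (mem_zpowers y)

/-- **Two classes of subgroups of order `r`.** -/
theorem pow_dvd_of {r a : ℕ} (hr : r.Prime) {x h t : M} (hx : orderOf x = r) (hh : orderOf h = r)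
    (ht : orderOf t = r ^ a) (hnc : ∀ g : M, g * h * g⁻¹ ∉ zpowers x) : r ^ (a + 1) ∣ Nat.card M := by
  have := Fact.mk hr
  let P : Sylow r M := Classical.arbitrary _
  obtain ⟨n, hn⟩ := IsPGroup.iff_card.1 P.isPGroup'
  obtain ⟨g₁, h1⟩ := exists_conj_sylow P (y := x) (b := 1) (by rw [hx, pow_one])
  obtain ⟨g₂, h2⟩ := exists_conj_sylow P (y := h) (b := 1) (by rw [hh, pow_one])
  obtain ⟨g₃, h3⟩ := exists_conj_sylow P (y := t) ht
  have hoc : ∀ g y : M, orderOf (g * y * g⁻¹) = orderOf y := fun g y =>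
    orderOf_injective (MulAut.conj g).toMonoidHom (MulAut.conj g).injective y
  have h4 : orderOf (⟨g₃ * t * g₃⁻¹, h3⟩ : (P : Subgroup M)) = r ^ a := by rw [Subgroup.orderOf_mk, hoc, ht]
  have h5 : r ^ a ∣ r ^ n := by rw [← hn, ← h4]; exact _root_.orderOf_dvd_natCard _
  have h6 : a ≤ n := (Nat.pow_dvd_pow_iff_le_right hr.one_lt).1 h5
  rcases Nat.lt_or_ge a n with h7 | h7
  · exact (pow_dvd_pow r h7).trans (hn ▸ Subgroup.card_subgroup_dvd_card _)
  · exfalso
    obtain rfl : a = n := le_antisymm h6 h7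
    have hcyc : IsCyclic (P : Subgroup M) := isCyclic_of_orderOf_eq_card _ (h4.trans hn.symm)
    have h8 : (⟨g₂ * h * g₂⁻¹, h2⟩ : (P : Subgroup M)) ∈ zpowers (⟨g₁ * x * g₁⁻¹, h1⟩ : (P : Subgroup M)) := by
      apply mem_zpowers_cyc
      rw [Subgroup.orderOf_mk, Subgroup.orderOf_mk, hoc, hoc, hx, hh]
    obtain ⟨i, hi⟩ := mem_zpowers_iff.1 h8
    have h9 : (g₁ * x * g₁⁻¹) ^ i = g₂ * h * g₂⁻¹ := congrArg Subtype.val hi
    rw [conj_zpow] at h9
    apply hnc (g₁⁻¹ * g₂)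
    rw [mem_zpowers_iff]
    refine ⟨i, ?_⟩
    calc x ^ i = g₁⁻¹ * (g₁ * x ^ i * g₁⁻¹) * g₁ := by group
      _ = g₁⁻¹ * (g₂ * h * g₂⁻¹) * g₁ := by rw [h9]
      _ = _ := by group

end Syl

/-! ### the classes of tori -/

/-- the data of a class of tori of exponent `N`, for the prime `r` -/
structure CF (T : Type*) [Group T] (p r N a : ℕ) : Prop where
  pr : r.Prime
  seven : 7 ≤ r
  reg : ∃ x : T, RegE T 4 N r x
  sing : ∃ x y : T, orderOf x = r ∧ orderOf y = p ∧ Commute x y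
  top : ∃ x : T, orderOf x = r ^ a
  one : 1 ≤ a
  dvd : r ∣ N
  hpN : ¬ p ∣ N
  comm : ∀ E : Subgroup T, IsPGroup r E → ∀ x ∈ E, ∀ y ∈ E, x * y = y * x

/-- `K` meets all classes of `r`-elements -/
def Meets {T : Type*} [Group T] (K : Subgroup T) (r : ℕ) : Prop :=
  ∀ g : T, (∃ b, 1 ≤ b ∧ orderOf g = r ^ b) → ∃ c : T, c * g * c⁻¹ ∈ K

section Rad

variable {T : Type} [Group T] [Finite T] {p r N a : ℕ} (F : CF T p r N a) {K : Subgroup T} (hK : Meets K r)

theorem RegE.conj {T : Type*} [Group T] {l N r : ℕ} {x : T} (h : RegE T l N r x) (c : T) :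
    RegE T l N r (c * x * c⁻¹) where
  ord := by
    rw [← h.ord]
    exact orderOf_injective (MulAut.conj c).toMonoidHom (MulAut.conj c).injective x
  pow := by
    intro y hy
    have h1 : (c⁻¹ * y * c) * x = x * (c⁻¹ * y * c) := by
      calc (c⁻¹ * y * c) * x = c⁻¹ * (y * (c * x * c⁻¹)) * c := by group
        _ = c⁻¹ * (c * x * c⁻¹ * y) * c := by rw [hy]
        _ = _ := by group
    have h2 := h.pow _ h1
    have h3 := conj_pow (a := c⁻¹) (b := y) (i := N)
    rw [inv_inv, h2] at h3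
    calc y ^ N = c * (c⁻¹ * y ^ N * c) * c⁻¹ := by group
      _ = 1 := by rw [← h3]; group
  comm := by
    intro y z hy hz
    have key : ∀ y, y * (c * x * c⁻¹) = c * x * c⁻¹ * y → (c⁻¹ * y * c) * x = x * (c⁻¹ * y * c) := by
      intro y hy
      calc (c⁻¹ * y * c) * x = c⁻¹ * (y * (c * x * c⁻¹)) * c := by group
        _ = c⁻¹ * (c * x * c⁻¹ * y) * c := by rw [hy]
        _ = _ := by group
    have h2 := h.comm _ _ (key y hy) (key z hz)
    calc y * z = c * ((c⁻¹ * y * c) * (c⁻¹ * z * c)) * c⁻¹ := by group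
      _ = c * ((c⁻¹ * z * c) * (c⁻¹ * y * c)) * c⁻¹ := by rw [h2]
      _ = _ := by group
  tors := by
    intro s hs
    refine le_trans (le_of_eq ?_) (h.tors s hs)
    refine Nat.card_congr ((MulAut.conj c).symm.toEquiv.subtypeEquiv fun y => ?_)
    show (y * (c * x * c⁻¹) = c * x * c⁻¹ * y ∧ y ^ s = 1) ↔
      ((c⁻¹ * y * c) * x = x * (c⁻¹ * y * c) ∧ (c⁻¹ * y * c) ^ s = 1)
    have h0 := conj_pow (a := c⁻¹) (b := y) (i := s)
    rw [inv_inv] at h0
    rw [h0]
    constructor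
    · rintro ⟨h1, h2⟩
      refine ⟨?_, by rw [h2]; group⟩
      calc (c⁻¹ * y * c) * x = c⁻¹ * (y * (c * x * c⁻¹)) * c := by group
        _ = c⁻¹ * (c * x * c⁻¹ * y) * c := by rw [h1]
        _ = _ := by group
    · rintro ⟨h1, h2⟩
      refine ⟨?_, ?_⟩
      · calc y * (c * x * c⁻¹) = c * ((c⁻¹ * y * c) * x) * c⁻¹ := by group
          _ = c * (x * (c⁻¹ * y * c)) * c⁻¹ := by rw [h1]
          _ = _ := by group
      · calc y ^ s = c * (c⁻¹ * y ^ s * c) * c⁻¹ := by group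
          _ = 1 := by rw [h2]; group

include F hK

theorem exists_regK : ∃ x ∈ K, RegE T 4 N r x := by
  obtain ⟨x, hx⟩ := F.reg
  obtain ⟨c, hc⟩ := hK x ⟨1, le_rfl, by rw [hx.ord, pow_one]⟩
  exact ⟨_, hc, hx.conj c⟩

/-- **The `r`-part of `|K|`.** -/
theorem pow_dvd_K : r ^ (a + 1) ∣ Nat.card K := by
  have := Fact.mk F.pr
  obtain ⟨x, hxK, hx⟩ := exists_regK F hK
  obtain ⟨h, y, hh, hy, hc⟩ := F.sing
  obtain ⟨c, hcK⟩ := hK h ⟨1, le_rfl, by rw [hh, pow_one]⟩
  obtain ⟨t, ht⟩ := F.top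
  obtain ⟨d, hdK⟩ := hK t ⟨a, F.one, ht⟩
  have hoc : ∀ g y : T, orderOf (g * y * g⁻¹) = orderOf y := fun g y =>
    orderOf_injective (MulAut.conj g).toMonoidHom (MulAut.conj g).injective y
  refine pow_dvd_of F.pr (x := ⟨x, hxK⟩) (h := ⟨_, hcK⟩) (t := ⟨_, hdK⟩) (by rw [Subgroup.orderOf_mk, hx.ord])
    (by rw [Subgroup.orderOf_mk, hoc, hh]) (by rw [Subgroup.orderOf_mk, hoc, ht]) fun g hg => ?_
  obtain ⟨i, hi⟩ := mem_zpowers_iff.1 hg
  have h1 : x ^ i = (g : T) * (c * h * c⁻¹) * (g : T)⁻¹ := congrArg Subtype.val hi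
  -- `x` is a power of the conjugate of `h`
  have h2 : x ^ i = (g * c : T) * h * (g * c : T)⁻¹ := by rw [h1]; group
  have h3 : (g * c : T) * y * (g * c : T)⁻¹ * x ^ i = x ^ i * ((g * c : T) * y * (g * c : T)⁻¹) := by
    rw [h2]
    calc (g * c : T) * y * (g * c : T)⁻¹ * ((g * c : T) * h * (g * c : T)⁻¹) =
        (g * c : T) * (y * h) * (g * c : T)⁻¹ := by group
      _ = (g * c : T) * (h * y) * (g * c : T)⁻¹ := by rw [hc.eq]
      _ = _ := by group
  have h4 : orderOf (x ^ i) = r := by rw [h2, hoc, hh]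
  obtain ⟨j, hj⟩ : ∃ j : ℤ, (x ^ i) ^ j = x := by
    have h5 : zpowers (x ^ i) = zpowers x := by
      apply Subgroup.eq_of_le_of_card_ge
      · rw [zpowers_le]; exact zpow_mem (mem_zpowers x) i
      · rw [Nat.card_zpowers, Nat.card_zpowers, h4, hx.ord]
    exact mem_zpowers_iff.1 (h5 ▸ mem_zpowers x)
  have h6 : ((g * c : T) * y * (g * c : T)⁻¹) * x = x * ((g * c : T) * y * (g * c : T)⁻¹) := by
    have h7 : Commute ((g * c : T) * y * (g * c : T)⁻¹) (x ^ i) := h3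
    have h8 := h7.zpow_right j
    rw [hj] at h8
    exact h8
  have h7 := hx.pow _ h6
  have h8 := orderOf_dvd_of_pow_eq_one h7
  rw [hoc, hy] at h8
  exact F.hpN h8

end Rad

/-! ### two classes -/

/-- two classes of tori of coprime exponents -/
structure Two (T : Type*) [Group T] (p r N a s N' b : ℕ) : Prop where
  F : CF T p r N a
  F' : CF T p s N' b
  big : 8 < r ∨ 8 < s
  cop : N.Coprime N'
  na : ∀ t, t.Prime → t ≠ 3 → t ∣ N → ∀ x y : T, orderOf x = t → orderOf y = s → ¬ Commute x y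
  na' : ∀ t, t.Prime → t ≠ 3 → t ∣ N' → ∀ x y : T, orderOf x = t → orderOf y = r → ¬ Commute x y

theorem Two.symm {T : Type*} [Group T] {p r N a s N' b : ℕ} (h : Two T p r N a s N' b) : Two T p s N' b r N a where
  F := h.F'
  F' := h.F
  big := h.big.symm
  cop := h.cop.symm
  na := h.na'
  na' := h.na

section Sol

variable {T : Type} [Group T] [Finite T] {p r N a s N' b : ℕ} {K : Subgroup T}
  {k : Type*} [Field k] {ι : Type*} [Fintype ι] [DecidableEq ι] [CharP k p] {τ : T →* GL ι k}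
  (hτ : Function.Injective τ) (h8 : Fintype.card ι = 8)

theorem fpf_of {l : ℕ} {x : K} (hx : RegE T l N r (x : T)) {t : ℕ} (ht : t.Prime) (htN : ¬ t ∣ N) {B : Subgroup K}
    (hBt : ∀ a ∈ B, a ^ t = 1) : ∀ a ∈ B, x * a = a * x → a = 1 := by
  intro a ha h
  have h1 := hx.pow (a : T) (congrArg Subtype.val h).symm
  have h2 : orderOf (a : T) ∣ N := orderOf_dvd_of_pow_eq_one h1
  have h3 : orderOf (a : T) ∣ t := by
    rw [Subgroup.orderOf_coe]
    exact orderOf_dvd_of_pow_eq_one (hBt a ha)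
  rcases (Nat.dvd_prime ht).1 h3 with h4 | h4
  · rw [Subgroup.orderOf_coe] at h4
    exact orderOf_eq_one_iff.1 h4
  · rw [h4] at h2
    exact absurd h2 htN

include hτ h8

/-- some element of order `r` commutes with an element of order `t` -/
theorem exists_comm (F : CF T p r N a) (hK : Meets K r) {t : ℕ} (ht : t.Prime) {B : Subgroup K} [B.Normal]
    (hB0 : B ≠ ⊥) (hBc : ∀ a ∈ B, ∀ b ∈ B, a * b = b * a) (hBt : ∀ a ∈ B, a ^ t = 1) (hpB : ¬ p ∣ Nat.card B) :
    ∃ x y : T, orderOf x = t ∧ orderOf y = r ∧ Commute x y := by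
  by_contra hcon
  push Not at hcon
  apply hB0
  have h1 : r ^ 2 ∣ Nat.card K := (pow_dvd_pow r (by have := F.one; omega)).trans (pow_dvd_K F hK)
  refine eq_bot_of_dvd (τ := τ.comp K.subtype) (hτ.comp K.subtype_injective) hBc hpB h1 ?_ ?_
  · intro x hx hxr a ha hc
    by_contra ha1
    have h2 : orderOf x = r := (Nat.prime_dvd_prime_iff_eq hx F.pr).1 (hx.dvd_of_dvd_pow hxr)
    have h3 : orderOf a = t := by
      rcases (Nat.dvd_prime ht).1 (orderOf_dvd_of_pow_eq_one (hBt a ha)) with h4 | h4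
      · exact absurd (orderOf_eq_one_iff.1 h4) ha1
      · exact h4
    refine hcon (a : T) (x : T) (by rw [Subgroup.orderOf_coe, h3]) (by rw [Subgroup.orderOf_coe, h2]) ?_
    exact (congrArg Subtype.val hc).symm
  · rw [h8]
    have := F.seven
    nlinarith

theorem half (hT : Two T p r N a s N' b) (hK : Meets K r) (hK' : Meets K s) {t : ℕ} (ht : t.Prime) {B : Subgroup K}
    [B.Normal] (hB0 : B ≠ ⊥) (hBc : ∀ a ∈ B, ∀ b ∈ B, a * b = b * a) (hBt : ∀ a ∈ B, a ^ t = 1)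
    (hpB : ¬ p ∣ Nat.card B) (htN : t ∣ N) : False := by
  have htN' : ¬ t ∣ N' := fun h => by
    have h1 := Nat.dvd_gcd htN h
    rw [hT.cop] at h1
    exact ht.one_lt.ne' (Nat.dvd_one.1 h1)
  obtain ⟨u, v, hu, hv, huv⟩ := exists_comm hτ h8 hT.F' hK' ht hB0 hBc hBt hpB
  obtain rfl : t = 3 := by
    by_contra h3
    exact hT.na t ht h3 htN u v hu hv huv
  obtain ⟨y, hyK, hy⟩ := exists_regK hT.F' hK'
  obtain ⟨x, hxK, hx⟩ := exists_regK hT.F hK
  have fy := fpf_of (x := (⟨y, hyK⟩ : K)) hy ht htN' hBt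
  have hoy : orderOf (⟨y, hyK⟩ : K) = s := by rw [Subgroup.orderOf_mk, hy.ord]
  have hox : orderOf (⟨x, hxK⟩ : K) = r := by rw [Subgroup.orderOf_mk, hx.ord]
  have hinj : Function.Injective (τ.comp K.subtype) := hτ.comp K.subtype_injective
  have hs8 : s ≤ 8 := by
    by_contra hcon
    apply hB0
    rw [eq_bot_iff]
    intro a ha
    exact mem_bot.2 (fy a ha (comm_of_lt hinj hBc hpB hT.F'.pr hoy (by omega) ha).symm)
  have hr8 : 8 < r := by
    rcases hT.big with h | h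
    · exact h
    · omega
  have hcx : ∀ a ∈ B, a * ⟨x, hxK⟩ = ⟨x, hxK⟩ * a := fun a ha =>
    comm_of_lt hinj hBc hpB hT.F.pr hox (by omega) ha
  have hcard : Nat.card B ≤ 3 ^ 4 := by
    refine le_trans ?_ (hx.tors 3 Nat.prime_three)
    refine Nat.card_le_card_of_injective (fun a : B => (⟨((a : K) : T), congrArg Subtype.val (hcx a a.2),
      congrArg Subtype.val (hBt a a.2)⟩ : {y : T // y * x = x * y ∧ y ^ 3 = 1})) ?_
    intro a a' h
    have h' : ((a : K) : T) = ((a' : K) : T) := congrArg (fun z => z.1) h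
    exact Subtype.ext (Subtype.ext h')
  have hs7 : s = 7 := by
    have h1 := hT.F'.seven
    have h2 := hT.F'.pr
    interval_cases s
    · rfl
    · exact absurd h2 (by norm_num)
  have h1 := Cfsg.Agent.H563.KG.dvd_card_sub_one (A := B) hT.F'.pr hoy fy
  have hPt : IsPGroup 3 B := fun a => ⟨1, by rw [pow_one]; exact Subtype.ext (hBt a a.2)⟩
  have := Fact.mk Nat.prime_three
  obtain ⟨n, hn⟩ := IsPGroup.iff_card.1 hPt
  rw [hn, hs7] at h1
  rw [hn] at hcard
  have h2 : n ≤ 4 := (Nat.pow_le_pow_iff_right (by norm_num)).1 hcard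
  have h3 : n ≠ 0 := by
    rintro rfl
    rw [pow_zero, Subgroup.card_eq_one] at hn
    exact hB0 hn
  interval_cases n
  · exact h3 rfl
  · revert h1; decide
  · revert h1; decide
  · revert h1; decide
  · revert h1; decide

/-- **No solvable normal subgroups.** -/
theorem no_solvable [Fact p.Prime] (hT : Two T p r N a s N' b) (hK : Meets K r) (hK' : Meets K s)
    (hp : ∀ A : Subgroup T, IsPGroup p A → A ≠ ⊥ → ¬ K ≤ normalizer (A : Set T)) (A : Subgroup K) (hA : A.Normal)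
    (hs : Group.IsSolvable A) : A = ⊥ := by
  by_contra hne
  obtain ⟨t, ht, B, hBn, -, hB0, hBc, hBt⟩ := exists_elem' hA hs hne
  have := Fact.mk ht
  have hPt : IsPGroup t B := fun a => ⟨1, by rw [pow_one]; exact Subtype.ext (hBt a a.2)⟩
  by_cases htp : t = p
  · subst htp
    refine hp (B.map K.subtype) (hPt.map _) (fun h => hB0 ?_) ?_
    · rwa [Subgroup.map_eq_bot_iff_of_injective _ K.subtype_injective] at h
    · intro g hg
      rw [mem_normalizer_iff]
      intro y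
      constructor
      · rintro ⟨z, hz, rfl⟩
        exact ⟨⟨g, hg⟩ * z * ⟨g, hg⟩⁻¹, hBn.conj_mem z hz _, rfl⟩
      · rintro ⟨z, hz, hzy⟩
        refine ⟨⟨g, hg⟩⁻¹ * z * ⟨g, hg⟩, ?_, ?_⟩
        · have := hBn.conj_mem z hz (⟨g, hg⟩⁻¹)
          rwa [inv_inv] at this
        · show g⁻¹ * (z : T) * g = y
          have h1 : (z : T) = g * y * g⁻¹ := hzy
          rw [h1]; group
  · have hpB : ¬ p ∣ Nat.card B := by
      intro h
      obtain ⟨n, hn⟩ := IsPGroup.iff_card.1 hPt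
      rw [hn] at h
      exact htp ((Nat.prime_dvd_prime_iff_eq Fact.out ht).1 ((Fact.out : p.Prime).dvd_of_dvd_pow h)).symm
    by_cases h1 : t ∣ N
    · exact half hτ h8 hT hK hK' ht hB0 hBc hBt hpB h1
    by_cases h2 : t ∣ N'
    · exact half hτ h8 hT.symm hK' hK ht hB0 hBc hBt hpB h2
    obtain ⟨y, hyK, hy⟩ := exists_regK hT.F' hK'
    obtain ⟨x, hxK, hx⟩ := exists_regK hT.F hK
    have hrs : r ≠ s := by
      rintro rfl
      have h3 := Nat.dvd_gcd hT.F.dvd hT.F'.dvd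
      rw [hT.cop] at h3
      exact hT.F.pr.one_lt.ne' (Nat.dvd_one.1 h3)
    refine hB0 (eq_bot_of_free (τ := τ.comp K.subtype) (hτ.comp K.subtype_injective) hBc hpB hT.F.pr hT.F'.pr hrs
      (x := ⟨x, hxK⟩) (y := ⟨y, hyK⟩) (by rw [Subgroup.orderOf_mk, hx.ord]) (by rw [Subgroup.orderOf_mk, hy.ord])
      (fpf_of (x := (⟨x, hxK⟩ : K)) hx ht h1 hBt) (fpf_of (x := (⟨y, hyK⟩ : K)) hy ht h2 hBt) ?_)
    rw [h8]
    have := hT.F.seven
    have := hT.F'.seven
    nlinarith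

omit hτ h8 in
/-- **The socle.** -/
theorem exists_socK (hN : NilFix) (hG : Gross) (hT : Two T p r N a s N' b) (hK : Meets K r) (hK' : Meets K s)
    (hrad : ∀ A : Subgroup K, A.Normal → Group.IsSolvable A → A = ⊥) :
    ∃ S : Subgroup K, S.Normal ∧ IsSimpleGroup S ∧ ¬ IsMulCommutative S ∧
      ∀ r' N₁ a', CF T p r' N₁ a' → Meets K r' → r' ^ (a' + 1) ∣ Nat.card S := by
  obtain ⟨y, hyK, hy⟩ := exists_regK hT.F' hK'
  obtain ⟨x, hxK, hx⟩ := exists_regK hT.F hK
  have hr3 : r ≠ 3 := by have := hT.F.seven; omega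
  obtain ⟨S, hSn, hSs, hSna, hC, hrS, hsS⟩ := exists_soc hN hrad hT.F.pr hT.F'.pr (x := (⟨x, hxK⟩ : K))
    (y := (⟨y, hyK⟩ : K)) (by rw [Subgroup.orderOf_mk, hx.ord]) (by rw [Subgroup.orderOf_mk, hy.ord])
    (fun u v hu hv => Subtype.ext (hx.comm u v (congrArg Subtype.val hu) (congrArg Subtype.val hv)))
    (fun u v hu hv => Subtype.ext (hy.comm u v (congrArg Subtype.val hu) (congrArg Subtype.val hv)))
    (fun u v hu hv huv => hT.na r hT.F.pr hr3 hT.F.dvd u v (by rw [Subgroup.orderOf_coe, hu])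
      (by rw [Subgroup.orderOf_coe, hv]) (huv.map K.subtype))
  have hS0 : S ≠ ⊥ := by
    rintro rfl
    rw [Subgroup.card_bot] at hrS
    exact hT.F.pr.one_lt.ne' (Nat.dvd_one.1 hrS)
  refine ⟨S, hSn, hSs, hSna, fun r' N₁ a' hF hM => ?_⟩
  obtain ⟨z, hzK, hz⟩ := exists_regK hF hM
  have h1 : r' ∣ Nat.card S := dvd_of_normal hN hrad hF.pr (x := (⟨z, hzK⟩ : K))
    (by rw [Subgroup.orderOf_mk, hz.ord])
    (fun u v hu hv => Subtype.ext (hz.comm u v (congrArg Subtype.val hu) (congrArg Subtype.val hv))) hSn hS0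
  refine pow_dvd_soc hG hSn hSs hSna hC hF.pr (by have := hF.seven; omega) h1 (fun E hE u hu v hv => ?_)
    (pow_dvd_K hF hM)
  exact Subtype.ext (hF.comm (E.map K.subtype) (hE.map _) u ⟨u, hu, rfl⟩ v ⟨v, hv, rfl⟩)

end Sol

end Cfsg.Agent.H92.TD
end

-- part: H629/TorOrd
section
/-!
# Elements of order `N` for `N` dividing the value of a cyclotomic polynomial (helper629)

The generalisation of `H493.PGTorus.exists_order`, `H168.ExcAdj.rel_of_eig`, `H168.TwAdj.rel_of_fr` from primes to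
arbitrary numbers `N`.

* `exists_orderOf_of_eig` : `D.group F` has an element of order `N`, if `N ∣ f(|F|)` is coprime to `d`, `(w, f)` with
  `EigOK`; `exists_orderOf_mul_of_eig` : of order `N * N'`, two polynomials with the same `w`, `N`, `N'` coprime;
* `exists_orderOf_of_fr`, `exists_orderOf_mul_of_fr` : the twisted groups;
* `te6_orderOf`, `td4_orderOf` : `²E₆(q)`, `³D₄(q)` with the tables of `H168.TwCover`.
-/

set_option autoImplicit false
set_option linter.unusedSectionVars false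

namespace Cfsg.Agent.H629.TorOrd

open CoxeterSystem Subgroup Cfsg Cfsg.Lie Cfsg.Lie.ChevalleyDatum
open Cfsg.Agent.ChevalleyStructure Cfsg.Agent.ChevalleyStructure.Elts Cfsg.Agent.ChevalleyStructure.CoxeterGeom
  Cfsg.Agent.ChevalleyStructure.CoxeterGeomTypes Cfsg.Agent.ChevalleyStructure.NPerm
open Cfsg.Agent.Tits.Roots Cfsg.Agent.Tits.Core Cfsg.Agent.Nodes Cfsg.Agent.Nodes.Reps Cfsg.Agent.Nodes.BNOf
  Cfsg.Agent.Nodes.RGDChev Cfsg.Agent.Nodes.Bruhat
open Cfsg.Agent.KFacts.RgdField Cfsg.Agent.KFacts.RgdChevCoord Cfsg.Agent.BpExc.TorCent Cfsg.Agent.BpExc.TorChev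
open Cfsg.Agent.BpExc.Tow Cfsg.Agent.BpExc.TowChev Cfsg.Agent.BpExc.FamExt Cfsg.Agent.BpExc.FamUntw
  Cfsg.Agent.BpExc.FamInst Cfsg.Agent.BpExc.LangFr Cfsg.Agent.BpExc.FamField Cfsg.Agent.BpExc.Fr Cfsg.Agent.LangThm
  Cfsg.Agent.BpExc
open Cfsg.Agent.H378.TorDual Cfsg.Agent.H378.TorChar Cfsg.Agent.H378.TorFin
open Cfsg.Agent.H129.TorusChar Cfsg.Agent.H129.TorusTw Cfsg.Agent.H129.TorusMain Cfsg.Agent.H129.WData
open Cfsg.Agent.H493 Cfsg.Agent.H493.PGTorus Cfsg.Agent.H493.PGCyc Cfsg.Agent.H168.ExcAdj Cfsg.Agent.H168.TwAdj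

universe u

section

variable {l : ℕ} {w : Module.End ℤ (Fin l → ℤ)} {Th : Fin l → Fin l → ℤ}

end

section Untw

variable {D : ChevalleyDatum} {l : ℕ} {M : CoxeterMatrix (Fin l)} (hp : IsType D l M) {W : Type*} [Group W] [Finite W]
  (cs : CoxeterSystem M W)

end Untw

section Torus

variable {D : ChevalleyDatum} {l : ℕ} {M : CoxeterMatrix (Fin l)} (hp : IsType D l M) {k : Type u} [Field k]
  {θ : (Fin l → ℤ) →+ (Fin l → ℤ)} {Th : Fin l → Fin l → ℤ} (hθ : Lin θ Th)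

include hθ in
/-- **An element of order `r` of the twisted torus.** -/
theorem exists_elt_nat [IsAlgClosed k] {d : ℕ} {B : Fin l → Fin l → ℤ} (hB : H129.TorusChar.InvC D l d B) (hd : d ≠ 0) {f : ℕ}
    {c : Fin (f + 1) → ℤ} {L : Fin (f + 1) → Fin l → ℤ} {P : Fin l → ℤ} (h : EigOK (tr Th) c L P) {q r : ℕ}
    (hr : r ≠ 0) (hr0 : (r : k) ≠ 0) (hdv : (r : ℤ) ∣ pv c (q : ℤ)) :
    ∃ t ∈ TT D k, (∀ x, cX hp t (θ x) = cX hp t x ^ q) ∧ orderOf t = r := by
  have hne : NeZero (r : k) := ⟨hr0⟩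
  have hne' : NeZero r := ⟨hr⟩
  obtain ⟨u, hu⟩ := HasEnoughRootsOfUnity.exists_primitiveRoot k r
  have hu0 : u ≠ 0 := hu.ne_zero hr
  have hφ : IsMC (fun x : Fin l → ℤ => u ^ fnl L q x) := ⟨by
    show u ^ fnl L q 0 = 1
    rw [fnl_zero, zpow_zero], fun x y => by
    show u ^ fnl L q (x + y) = u ^ fnl L q x * u ^ fnl L q y
    rw [fnl_add, zpow_add₀ hu0]⟩
  obtain ⟨t, ht, h3⟩ := exists_cX hp hB hd hφ (fun i => IsAlgClosed.exists_pow_nat_eq _ (Nat.pos_of_ne_zero hd))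
  refine ⟨t, ht, fun x => ?_, Nat.dvd_antisymm ?_ ?_⟩
  · rw [h3, h3]
    show u ^ fnl L q (θ x) = (u ^ fnl L q x) ^ q
    obtain ⟨m, hm⟩ := hdv.trans (dvd_fnl hθ h (q : ℤ) x)
    have e : fnl L q (θ x) = fnl L q x * q + r * m := by rw [← hm]; ring
    rw [e, zpow_add₀ hu0, zpow_mul, zpow_natCast, zpow_mul, zpow_natCast, hu.pow_eq_one, one_zpow, mul_one]
  · refine orderOf_dvd_of_pow_eq_one ?_
    refine cX_inj hp (pow_mem ht r) (one_mem _) fun i => ?_
    rw [cX_pow hp ht, cX_one, h3]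
    show (u ^ fnl L q (sr i)) ^ r = 1
    rw [← zpow_natCast, ← zpow_mul, mul_comm, zpow_mul, zpow_natCast, hu.pow_eq_one, one_zpow]
  · have h4 := h3 P
    have h5 : u ^ fnl L q P = cX hp t P := h4.symm
    rw [fnl_P h, zpow_one] at h5
    refine hu.dvd_of_pow_eq_one _ ?_
    rw [h5, ← cX_pow hp ht, pow_orderOf_eq_one, cX_one]

end Torus

section Main

variable {D : ChevalleyDatum} {l : ℕ} {M : CoxeterMatrix (Fin l)} (hp : IsType D l M) {k : Type u} [Field k]
  {W : Type*} [Group W] (cs : CoxeterSystem M W) {p e : ℕ} [Fact p.Prime] [CharP k p] {σ : MulAut ↥(D.group k)}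
  {g : (Fin l → ℤ) ≃+ (Fin l → ℤ)}

/-- **Two commuting elements fixed by `σ`.** -/
theorem exists_pair_nat [IsAlgClosed k] [Finite W] (hk : LocFin k) (he : 0 < e) (hσ : IsFrob p e σ)
    (F : Fr cs hp.isCartan (TT D k) (XX D l k) σ g) {d : ℕ} {B : Fin l → Fin l → ℤ} (hB : H129.TorusChar.InvC D l d B) (hd : d ≠ 0)
    {w : W} {Th : Fin l → Fin l → ℤ} (hθ : Lin (theta hp cs w g) Th)
    {f : ℕ} {c : Fin (f + 1) → ℤ} {L : Fin (f + 1) → Fin l → ℤ} {P : Fin l → ℤ} (h : EigOK (tr Th) c L P)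
    {f' : ℕ} {c' : Fin (f' + 1) → ℤ} {L' : Fin (f' + 1) → Fin l → ℤ} {P' : Fin l → ℤ} (h' : EigOK (tr Th) c' L' P')
    {r s : ℕ} (hr : r ≠ 0) (hs : s ≠ 0) (hrp : ¬ p ∣ r) (hsp : ¬ p ∣ s)
    (h1 : (r : ℤ) ∣ pv c ((p ^ e : ℕ) : ℤ)) (h2 : (s : ℤ) ∣ pv c' ((p ^ e : ℕ) : ℤ)) :
    ∃ x y : ↥(D.group k), σ x = x ∧ σ y = y ∧ x * y = y * x ∧ orderOf x = r ∧ orderOf y = s := by
  have hne : ∀ {a : ℕ}, ¬ p ∣ a → (a : k) ≠ 0 := by
    intro a hap h0
    rw [CharP.cast_eq_zero_iff k p] at h0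
    exact hap h0
  obtain ⟨n, hn⟩ := exists_rp cs (H129.TorusUntw.nsys_of_locFin hp cs hk p) w
  obtain ⟨z, hz⟩ := lang_all hp cs he hσ F 1 n
  rw [map_one, one_mul] at hz
  obtain ⟨a, ha, ha2, ha3⟩ := exists_elt_nat hp hθ hB hd h (q := p ^ e) hr (hne hrp) h1
  obtain ⟨b, hb, hb2, hb3⟩ := exists_elt_nat hp hθ hB hd h' (q := p ^ e) hs (hne hsp) h2
  have ha4 := (tau_iff hp cs hk hσ F hn ha).2 ha2
  have hb4 := (tau_iff hp cs hk hσ F hn hb).2 hb2
  refine ⟨z * a * z⁻¹, z * b * z⁻¹, H129.TorusUntw.conj_fixed hz ha4 (Subgroup.mem_zpowers a),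
    H129.TorusUntw.conj_fixed hz hb4 (Subgroup.mem_zpowers b), ?_, ?_, ?_⟩
  · calc z * a * z⁻¹ * (z * b * z⁻¹) = z * (a * b) * z⁻¹ := by group
      _ = z * (b * a) * z⁻¹ := by
        rw [show a * b = b * a from cX_inj hp (mul_mem ha hb) (mul_mem hb ha) fun i => by
          rw [cX_mul hp ha hb, cX_mul hp hb ha, mul_comm]]
      _ = _ := by group
  · have h3 : orderOf (MulAut.conj z a) = orderOf a :=
      orderOf_injective (MulAut.conj z).toMonoidHom (MulAut.conj z).injective a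
    rw [← ha3, ← h3]
    rfl
  · have h3 : orderOf (MulAut.conj z b) = orderOf b :=
      orderOf_injective (MulAut.conj z).toMonoidHom (MulAut.conj z).injective b
    rw [← hb3, ← h3]
    rfl

/-- **Two commuting elements of the twisted group of orders `r`, `s`.** -/
theorem exists_pair_of_fr [IsAlgClosed k] [Finite W] (hk : LocFin k) (he : 0 < e) (hσ : IsFrob p e σ)
    (F : Fr cs hp.isCartan (TT D k) (XX D l k) σ g) {d : ℕ} {B : Fin l → Fin l → ℤ} (hB : H129.TorusChar.InvC D l d B) (hd : d ≠ 0)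
    {w : W} {Th : Fin l → Fin l → ℤ} (hθ : Lin (theta hp cs w g) Th)
    {f : ℕ} {c : Fin (f + 1) → ℤ} {L : Fin (f + 1) → Fin l → ℤ} {P : Fin l → ℤ} (h : EigOK (tr Th) c L P)
    {f' : ℕ} {c' : Fin (f' + 1) → ℤ} {L' : Fin (f' + 1) → Fin l → ℤ} {P' : Fin l → ℤ} (h' : EigOK (tr Th) c' L' P')
    {G0 : Type*} [Group G0] {e0 : G0 →* ↥(D.group k)} (he0 : Function.Injective e0) {m : ℕ} (hm0 : m ≠ 0)
    (hm : ∀ y, σ y = y → y ^ m ∈ e0.range)
    {r s : ℕ} (hr : r ≠ 0) (hs : s ≠ 0) (hrp : ¬ p ∣ r) (hsp : ¬ p ∣ s)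
    (hrm : Nat.Coprime r m) (hsm : Nat.Coprime s m)
    (h1 : (r : ℤ) ∣ pv c ((p ^ e : ℕ) : ℤ)) (h2 : (s : ℤ) ∣ pv c' ((p ^ e : ℕ) : ℤ)) :
    ∃ x y : G0, Commute x y ∧ orderOf x = r ∧ orderOf y = s := by
  obtain ⟨x, y, hx, hy, hxy, hxr, hys⟩ := exists_pair_nat hp cs hk he hσ F hB hd hθ h h' hr hs hrp hsp h1 h2
  obtain ⟨x0, hx0⟩ := hm x hx
  obtain ⟨y0, hy0⟩ := hm y hy
  refine ⟨x0, y0, ?_, ?_, ?_⟩
  · show x0 * y0 = y0 * x0
    apply he0
    rw [map_mul, map_mul, hx0, hy0]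
    have h3 : Commute x y := hxy
    exact h3.pow_pow m m
  · have h3 : orderOf (e0 x0) = orderOf x0 := orderOf_injective e0 he0 x0
    rw [← h3, hx0, orderOf_pow' x hm0, hxr, hrm.gcd_eq_one, Nat.div_one]
  · have h3 : orderOf (e0 y0) = orderOf y0 := orderOf_injective e0 he0 y0
    rw [← h3, hy0, orderOf_pow' y hm0, hys, hsm.gcd_eq_one, Nat.div_one]

end Main

/-! ### the twisted groups -/

theorem not_dvd_of_cop {p e q r : ℕ} (hp : p.Prime) (he : 0 < e) (hq : q = p ^ e) (hr : Nat.Coprime r q) : ¬ p ∣ r := by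
  intro h
  have h1 : p ∣ q := by rw [hq]; exact dvd_pow_self _ he.ne'
  exact hp.one_lt.ne' (Nat.dvd_one.1 (hr ▸ Nat.dvd_gcd h h1))

/-- **`³D₄(q)`: two commuting elements of orders `r`, `s`.** -/
theorem td4_pair {F : Type u} [Field F] [Fintype F] {q : ℕ} (hq : IsPrimePow q) (hF : Fintype.card F = q ^ 3)
    {Ch : List (Fin 4 × Mat 4)} (hL : ChainOK H129.DataD4C.Am Ch) {Th : Mat 4}
    (hT : ∀ j, hd Ch (H168.TwCover.pi4 j) = Th j)
    {f : ℕ} {c : Fin (f + 1) → ℤ} {L : Fin (f + 1) → Fin 4 → ℤ} {P : Fin 4 → ℤ} (h : EigOK (tr Th) c L P)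
    {f' : ℕ} {c' : Fin (f' + 1) → ℤ} {L' : Fin (f' + 1) → Fin 4 → ℤ} {P' : Fin 4 → ℤ} (h' : EigOK (tr Th) c' L' P')
    {r s : ℕ} (hr : r ≠ 0) (hs : s ≠ 0) (hrq : Nat.Coprime r q) (hsq : Nat.Coprime s q)
    (h1 : (r : ℤ) ∣ pv c (q : ℤ)) (h2 : (s : ℤ) ∣ pv c' (q : ℤ)) :
    ∃ x y : ↥(twistedD4 F q), Commute x y ∧ orderOf x = r ∧ orderOf y = s := by
  obtain ⟨p, e, hpF, hpk, he, hqe, hk⟩ := H168.TwCover.exists_pe hq hF
  have := H129.TwD4Cyc.finite_W
  exact exists_pair_of_fr Cfsg.Agent.Nodes.RGDTwD4.hp coxeterD4.toCoxeterSystem hk he H129.TriD4.isFrob_tau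
    (H129.TriD4.fr_tau coxeterD4.toCoxeterSystem) H129.TorusChar.invC_D4 (by norm_num)
    (H129.TwD4Cyc.lin_tri coxeterD4.toCoxeterSystem H129.DataD4C.hA hL hT) h h'
    (H129.TriD4.embT_injective (algebraMap F (AlgebraicClosure F)) hq hF) (m := 1) one_ne_zero
    (fun y hy => by rw [pow_one]; exact H129.TriD4.tau_range _ hqe hq hF hy) hr hs
    (not_dvd_of_cop hpF.out he hqe hrq) (not_dvd_of_cop hpF.out he hqe hsq) (Nat.coprime_one_right _)
    (Nat.coprime_one_right _) (by rw [← hqe]; exact h1) (by rw [← hqe]; exact h2)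

end Cfsg.Agent.H629.TorOrd
end

-- part: H92/TD/Inst
section
/-!
# The classes of tori of `³D₄(q)` (helper92, S2499)

* `cf3`, `cf6` : the data `CF` for the primes `≠ 3` of `q² + q + 1` and `q² - q + 1`;
* `two_td` : the data `Two`;
* `no_solv` : a subgroup meeting the classes of `r`- and `s`-elements has no solvable normal subgroups.
-/

set_option autoImplicit false
set_option linter.unusedSectionVars false

namespace Cfsg.Agent.H92.TD

open Subgroup Cfsg Cfsg.Lie Cfsg.Agent.H129 Cfsg.Agent.H129.WData Cfsg.Agent.H493.PGTorus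

/-! ### arithmetic -/

section Arith

variable {q r a : ℕ}

theorem seven_three (hr : r.Prime) (h3 : r ≠ 3) (h : r ∣ q ^ 2 + q + 1) : 7 ≤ r := by
  have h0 := hr.two_le
  have h2 : r ≠ 2 := by
    rintro rfl
    exact absurd (odd_three h) (by decide)
  have h5 : r ≠ 5 := by
    rintro rfl
    have h1 : (q ^ 2 + q + 1) % 5 = 0 := Nat.mod_eq_zero_of_dvd h
    have h4 : ∀ x < 5, (x ^ 2 + x + 1) % 5 ≠ 0 := by decide
    have h6 := h4 (q % 5) (Nat.mod_lt _ (by norm_num))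
    rw [← h1] at h6
    exact h6 (by simp only [Nat.add_mod, Nat.pow_mod, _root_.dvd_refl, _root_.Nat.mod_mod_of_dvd, _root_.Nat.one_mod])
  by_contra hcon
  have : r < 7 := by omega
  interval_cases r
  · exact h2 rfl
  · exact h3 rfl
  · exact absurd hr (by norm_num)
  · exact h5 rfl
  · exact absurd hr (by norm_num)

theorem six_shape (hq : 1 ≤ q) : q ^ 2 - q + 1 = (q - 1) ^ 2 + (q - 1) + 1 := by
  obtain ⟨c, rfl⟩ : ∃ c, q = c + 1 := ⟨q - 1, by omega⟩
  rw [Nat.add_sub_cancel]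
  have : (c + 1) ^ 2 = c ^ 2 + c + (c + 1) := by ring
  omega

theorem seven_six (hq : 1 ≤ q) (hr : r.Prime) (h3 : r ≠ 3) (h : r ∣ q ^ 2 - q + 1) : 7 ≤ r := by
  rw [six_shape hq] at h
  exact seven_three hr h3 h

theorem cop_three_six (hq : 1 ≤ q) : (q ^ 2 + q + 1).Coprime (q ^ 2 - q + 1) := by
  rw [Nat.coprime_iff_gcd_eq_one]
  by_contra hne
  obtain ⟨r, hr, hd⟩ := Nat.exists_prime_and_dvd hne
  exact cop_aux hr hq (hd.trans (Nat.gcd_dvd_left _ _)) (hd.trans (Nat.gcd_dvd_right _ _))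

theorem not_dvd_p3 {p : ℕ} (hp : p.Prime) (hpq : p ∣ q) : ¬ p ∣ q ^ 2 + q + 1 := fun h => not_dvd_q hp h hpq

theorem not_dvd_p6 {p : ℕ} (hp : p.Prime) (hq : 1 ≤ q) (hpq : p ∣ q) : ¬ p ∣ q ^ 2 - q + 1 :=
  fun h => not_dvd_q' hp hq h hpq

end Arith

/-! ### the data -/

theorem chX3 : ChainOK DataD4C.Am L3 := by decide +kernel
theorem thX3 : ∀ j, hd L3 (H168.TwCover.pi4 j) = M3 j := by decide +kernel
theorem chX6 : ChainOK DataD4C.Am L6 := by decide +kernel
theorem thX6 : ∀ j, hd L6 (H168.TwCover.pi4 j) = M6 j := by decide +kernel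

section Data

variable {K : Type} [Field K] [Fintype K] {q : ℕ} (hq : IsPrimePow q) (hK : Fintype.card K = q ^ 3) {p : ℕ}
  (hp : p.Prime) (hpq : p ∣ q) {r a : ℕ} (hr : r.Prime) (h3 : r ≠ 3) (ha : 1 ≤ a)

include hq hK hp hpq hr h3 ha

theorem cf3 (hN : r ^ a ∣ q ^ 2 + q + 1) : CF ↥(twistedD4 K q) p r (q ^ 2 + q + 1) a := by
  have hrN : r ∣ q ^ 2 + q + 1 := (dvd_pow_self r (by omega)).trans hN
  have h7 := seven_three hr h3 hrN
  refine ⟨hr, h7, exists_reg3 hq hK hr (by omega) hrN, ?_, ?_, ha, hrN, not_dvd_p3 hp hpq,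
    comm_sub hK hr (by omega) (not_dvd_q hr hrN)⟩
  · have h1 : (r : ℤ) ∣ Cfsg.Agent.H493.PGTorus.pv H493.PGCyc.c3 (q : ℤ) := by
      rw [H493.PGCyc.pv_c3]
      have := Int.natCast_dvd_natCast.2 hrN
      push_cast at this
      exact this
    exact H378.TwAdj.pairD_p hq hK H493.PGD4T.chainA_ok H493.PGD4T.hThA H493.PGD4T.eigA_3 (by decide) (by decide)
      H493.PGD4T.fixA H493.PGD4T.vanA_3 hr hp h1 hpq
  · have h1 : ((r ^ a : ℕ) : ℤ) ∣ Cfsg.Agent.H493.PGTorus.pv H378.CycTab.c3 (q : ℤ) := by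
      rw [H378.CycTab.pv3]
      have := Int.natCast_dvd_natCast.2 hN
      push_cast at this ⊢
      exact this
    have hcop : Nat.Coprime (r ^ a) q :=
      Nat.Coprime.pow_left _ ((Nat.Prime.coprime_iff_not_dvd hr).2 (not_dvd_q hr hrN))
    obtain ⟨x, y, -, hx, -⟩ := H629.TorOrd.td4_pair hq hK chX3 thX3 eig3 eig3 (pow_ne_zero a hr.ne_zero)
      (pow_ne_zero a hr.ne_zero) hcop hcop h1 h1
    exact ⟨x, hx⟩

theorem cf6 (hN : r ^ a ∣ q ^ 2 - q + 1) : CF ↥(twistedD4 K q) p r (q ^ 2 - q + 1) a := by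
  have hq1 : 1 ≤ q := hq.pos
  have hle : q ≤ q ^ 2 := Nat.le_self_pow (by norm_num) q
  have hrN : r ∣ q ^ 2 - q + 1 := (dvd_pow_self r (by omega)).trans hN
  have h7 := seven_six hq1 hr h3 hrN
  refine ⟨hr, h7, exists_reg6 hq hK hr (by omega) hrN, ?_, ?_, ha, hrN, not_dvd_p6 hp hq1 hpq,
    comm_sub hK hr (by omega) (not_dvd_q' hr hq1 hrN)⟩
  · have h1 : (r : ℤ) ∣ Cfsg.Agent.H493.PGTorus.pv H493.PGCyc.c6 (q : ℤ) := by
      rw [H493.PGCyc.pv_c6]
      have := Int.natCast_dvd_natCast.2 hrN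
      rw [Nat.cast_add, Nat.cast_sub hle] at this
      push_cast at this
      exact this
    exact H378.TwAdj.pairD_p hq hK H493.PGD4T.chainB_ok H493.PGD4T.hThB H493.PGD4T.eigB_6 (by decide) (by decide)
      H493.PGD4T.fixB H493.PGD4T.vanB_6 hr hp h1 hpq
  · have h1 : ((r ^ a : ℕ) : ℤ) ∣ Cfsg.Agent.H493.PGTorus.pv H378.CycTab.c6 (q : ℤ) := by
      rw [H378.CycTab.pv6]
      have := Int.natCast_dvd_natCast.2 hN
      rw [Nat.cast_add, Nat.cast_sub hle] at this
      push_cast at this ⊢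
      exact this
    have hcop : Nat.Coprime (r ^ a) q :=
      Nat.Coprime.pow_left _ ((Nat.Prime.coprime_iff_not_dvd hr).2 (not_dvd_q' hr hq1 hrN))
    obtain ⟨x, y, -, hx, -⟩ := H629.TorOrd.td4_pair hq hK chX6 thX6 eig6 eig6 (pow_ne_zero a hr.ne_zero)
      (pow_ne_zero a hr.ne_zero) hcop hcop h1 h1
    exact ⟨x, hx⟩

theorem two_td (hN : r ^ a ∣ q ^ 2 + q + 1) {s b : ℕ} (hs : s.Prime) (hs3 : s ≠ 3) (hb : 1 ≤ b)
    (hN' : s ^ b ∣ q ^ 2 - q + 1) : Two ↥(twistedD4 K q) p r (q ^ 2 + q + 1) a s (q ^ 2 - q + 1) b := by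
  have hq1 : 1 ≤ q := hq.pos
  have hrN : r ∣ q ^ 2 + q + 1 := (dvd_pow_self r (by omega)).trans hN
  have hsN : s ∣ q ^ 2 - q + 1 := (dvd_pow_self s (by omega)).trans hN'
  have h7 := seven_three hr h3 hrN
  have h7' := seven_six hq1 hs hs3 hsN
  refine ⟨cf3 hq hK hp hpq hr h3 ha hN, cf6 hq hK hp hpq hs hs3 hb hN', ?_, cop_three_six hq1, ?_, ?_⟩
  · by_contra hcon
    have h1 : r = 7 := by
      have : r ≤ 8 := by omega
      interval_cases r
      · rfl
      · exact absurd hr (by norm_num)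
    have h2 : s = 7 := by
      have : s ≤ 8 := by omega
      interval_cases s
      · rfl
      · exact absurd hs (by norm_num)
    subst h1
    subst h2
    exact cop_aux hr hq1 hrN hsN
  · intro t ht ht3 htN x y hx hy hc
    exact nonadj hq hK ht hs ht3 hs3 htN hsN hx hy hc
  · intro t ht ht3 htN x y hx hy hc
    exact nonadj hq hK hr ht h3 ht3 hrN htN hy hx hc.symm

end Data

/-! ### no local subgroups -/

section Loc

variable {K : Type} [Field K] [Fintype K] {q : ℕ} (hq : IsPrimePow q) (hK : Fintype.card K = q ^ 3) {p : ℕ}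
  [CharP K p] {r a : ℕ} (hr : r.Prime) (h3 : r ≠ 3)

include hq hK hr h3

theorem not_par (hpq : p ∣ q) (hN : ¬ r ^ (a + 1) ∣ q ^ 2 + q + 1) (hrN : r ∣ q ^ 2 + q + 1)
    {Y : Subgroup ↥(twistedD4 K q)}
    (hY : r ^ (a + 1) ∣ Nat.card Y) (A : Subgroup ↥(twistedD4 K q)) (hA : IsPGroup p A) (hA1 : A ≠ ⊥) :
    ¬ Y ≤ normalizer (A : Set ↥(twistedD4 K q)) := by
  intro h
  have hq1 : 1 ≤ q := hq.pos
  obtain ⟨m, hm⟩ := H185.NFTd.card_dvd_par hq hK p A hA hA1 Y h
  have hp : p.Prime := CharP.char_is_prime K p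
  have h1 := hY.trans hm
  have h2 : ¬ r ∣ p ^ m * ((q - 1) ^ 2 * (q ^ 3 + 1)) := by
    intro h4
    have e7 : q ^ 3 + 1 = (q ^ 2 - q + 1) * (q + 1) := by
      have e8 : q ^ 2 - q = q * (q - 1) := by rw [Nat.mul_sub, mul_one, pow_two]
      obtain ⟨c, rfl⟩ : ∃ c, q = c + 1 := ⟨q - 1, by omega⟩
      rw [e8, Nat.add_sub_cancel]
      ring
    rcases (Nat.Prime.dvd_mul hr).1 h4 with h5 | h5
    · have h6 := (Nat.prime_dvd_prime_iff_eq hr hp).1 (hr.dvd_of_dvd_pow h5)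
      rw [← h6] at hpq
      exact not_dvd_q hr hrN hpq
    rcases (Nat.Prime.dvd_mul hr).1 h5 with h6 | h6
    · exact h3 (three_of_pred hr hq1 hrN (hr.dvd_of_dvd_pow h6))
    rw [e7] at h6
    rcases (Nat.Prime.dvd_mul hr).1 h6 with h7 | h7
    · exact cop_aux hr hq1 hrN h7
    · exact not_dvd_succ hr hrN h7
  have h4 : p ^ m * ((q - 1) ^ 2 * (q ^ 2 + q + 1) * (q ^ 3 + 1)) =
      p ^ m * ((q - 1) ^ 2 * (q ^ 3 + 1)) * (q ^ 2 + q + 1) := by ring
  rw [h4] at h1
  exact hN ((Nat.Coprime.pow_left _ ((Nat.Prime.coprime_iff_not_dvd hr).2 h2)).dvd_of_dvd_mul_left h1)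

end Loc

section Solv

variable {K : Type} [Field K] [Fintype K] {q : ℕ} (hq : IsPrimePow q) (hK : Fintype.card K = q ^ 3)
  {r a s b : ℕ} (hr : r.Prime) (h3 : r ≠ 3) (ha : 1 ≤ a) (hN : r ^ a ∣ q ^ 2 + q + 1)
  (hNa : ¬ r ^ (a + 1) ∣ q ^ 2 + q + 1) (hs : s.Prime) (hs3 : s ≠ 3) (hb : 1 ≤ b) (hN' : s ^ b ∣ q ^ 2 - q + 1)

include hq hK hr h3 ha hN hNa hs hs3 hb hN'

/-- **No solvable normal subgroups.** -/
theorem no_solv {Y : Subgroup ↥(twistedD4 K q)} (hY : Meets Y r) (hY' : Meets Y s) (A : Subgroup Y) (hA : A.Normal)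
    (hsA : Group.IsSolvable A) : A = ⊥ := by
  obtain ⟨p, e, hp, he, hqe⟩ := id hq
  have hp := hp.nat_prime
  have := Fact.mk hp
  have hpq : p ∣ q := hqe ▸ dvd_pow_self p he.ne'
  have : CharP K p := by
    obtain ⟨p', hp'⟩ := CharP.exists K
    obtain ⟨n, hn⟩ := FiniteField.card K p'
    have h1 : p' ∣ q := by
      have h2 : p' ∣ q ^ 3 := by rw [← hK, hn.2]; exact dvd_pow_self _ n.ne_zero
      exact hn.1.dvd_of_dvd_pow h2
    rw [← hqe] at h1
    rwa [← (Nat.prime_dvd_prime_iff_eq hn.1 hp).1 (hn.1.dvd_of_dvd_pow h1)]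
  obtain ⟨ψ, hψ⟩ := H392.TD.exists_nat hq hK
  have hT := two_td hq hK hp hpq hr h3 ha hN hs hs3 hb hN'
  exact no_solvable (τ := (Subgroup.subtype _).comp ψ) (Subtype.val_injective.comp hψ) (by simp) hT hY hY'
    (fun B hB hB1 => not_par hq hK hr h3 hpq hNa hT.F.dvd (pow_dvd_K hT.F hY) B hB hB1) A hA hsA

end Solv

end Cfsg.Agent.H92.TD
end
end

-- part: H109/O8/SmallTwo
section
set_option linter.all false
open scoped Cfsg.Agent.FastGrp

/-!
# COV-O8+ (S2499), `q = 2`: stub R3 `small_two` (helper109)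

* `alt_conj` : `R` with a normal subgroup `S ≅ A₁₀`, `C_R(S) = 1`, `x, y ∈ R` of order 15 or 20: the elements
  `x ^ (|x| / 5)` and `y ^ (|y| / 5)` are conjugate (they are five-cycles);
* `small_two` : a subgroup of `Ω₈⁺(2)` with a residual core of order divisible by 25 has socle `A₁₀` (`J₂` has no irreducible
  representation of degree 8 in characteristic two).
-/

set_option autoImplicit false

namespace Cfsg.Agent.H109.O8

open Cfsg Cfsg.Geo Cfsg.Agent.OrdDiv Cfsg.Agent.H436 Cfsg.Agent.H264.FKS Cfsg.Agent.H902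
open Cfsg.Agent.H902.Names Cfsg.Agent.H708.O8 Cfsg.Agent.H915.LD Cfsg.Agent.H884.El Cfsg.Agent.H936.List12
open Cfsg.Agent.H912.Bd Cfsg.Agent.H912.Five
open scoped MatrixGroups Matrix

universe u

/-! ### five-cycles -/

/-- an element of order 15 or 20 of `S₁₀` is a five-cycle times an element on the other points -/
theorem five_cycle {x : Equiv.Perm (Fin 10)} (h : orderOf x = 15 ∨ orderOf x = 20) :
    (x ^ (orderOf x / 5)).cycleType = {5} := by
  have h5 : 5 ∣ orderOf x := by rcases h with h | h <;> rw [h] <;> norm_num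
  have hne : orderOf x ≠ 0 := by rcases h with h | h <;> rw [h] <;> norm_num
  have ho : orderOf (x ^ (orderOf x / 5)) = 5 := orderOf_pow_orderOf_div hne h5
  obtain ⟨n, hn⟩ := Equiv.Perm.cycleType_prime_order (by rw [ho]; norm_num : (orderOf (x ^ (orderOf x / 5))).Prime)
  rw [ho] at hn
  have h1 : (x ^ (orderOf x / 5)).cycleType.sum ≤ 10 := by
    rw [Equiv.Perm.sum_cycleType]
    exact (Finset.card_le_univ _).trans (by rw [Fintype.card_fin])
  rw [hn, Multiset.sum_replicate, smul_eq_mul] at h1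
  have h2 : n = 0 ∨ n = 1 := by omega
  rcases h2 with rfl | rfl
  · rw [hn]
    rfl
  · exfalso
    have h3 := Equiv.Perm.nat_card_centralizer (x ^ (orderOf x / 5))
    rw [hn] at h3
    have h4 : Nat.card (Subgroup.centralizer ({x ^ (orderOf x / 5)} : Set (Equiv.Perm (Fin 10)))) = 50 := by
      rw [h3]
      decide
    have h6 : x ∈ Subgroup.centralizer ({x ^ (orderOf x / 5)} : Set (Equiv.Perm (Fin 10))) := by
      rw [Subgroup.mem_centralizer_singleton_iff]
      exact ((Commute.refl x).pow_right (orderOf x / 5)).eq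
    have h7 : orderOf x ∣ 50 := by
      rw [← h4]
      exact Subgroup.orderOf_dvd_natCard _ h6
    rcases h with h | h <;> rw [h] at h7 <;> norm_num at h7

theorem alt_conj {R : Type u} [Group R] (S : Subgroup R) [S.Normal]
    (hC : Subgroup.centralizer (S : Set R) = ⊥) (e : S ≃* alternatingGroup (Fin 10)) {x y : R}
    (hx : orderOf x = 15 ∨ orderOf x = 20) (hy : orderOf y = 15 ∨ orderOf y = 20) :
    ∃ c : R, c * x ^ (orderOf x / 5) * c⁻¹ = y ^ (orderOf y / 5) := by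
  let E : Equiv.Perm (Fin 10) ≃* MulAut (alternatingGroup (Fin 10)) :=
    MulEquiv.ofBijective _ (S2119.result 10 (by norm_num) (by norm_num))
  let f : R →* Equiv.Perm (Fin 10) :=
    (E.symm.toMonoidHom.comp (MulAut.congr e).toMonoidHom).comp (MulAut.conjNormal : R →* MulAut S)
  have hf : ∀ r : R, E (f r) = MulAut.congr e (MulAut.conjNormal r) := fun r => E.apply_symm_apply _
  have hinj : Function.Injective f := by
    rw [injective_iff_map_eq_one]
    intro r hr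
    have h1 : (MulAut.conjNormal r : MulAut S) = 1 := by
      apply (MulAut.congr e).injective
      rw [← hf, hr, map_one, map_one]
    rw [← Subgroup.mem_bot, ← hC, Subgroup.mem_centralizer_iff]
    intro s hs
    have h2 := congrArg Subtype.val (DFunLike.congr_fun h1 ⟨s, hs⟩)
    rw [MulAut.conjNormal_apply, MulAut.one_apply] at h2
    exact (mul_inv_eq_iff_eq_mul.1 h2).symm
  have hS : ∀ s : S, f s = (e s : Equiv.Perm (Fin 10)) := by
    intro s
    apply E.injective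
    rw [hf]
    have h1 : E (e s : Equiv.Perm (Fin 10)) = MulAut.conjNormal (e s : Equiv.Perm (Fin 10)) := rfl
    rw [h1]
    ext1 z
    apply Subtype.ext
    have h2 : MulAut.congr e (MulAut.conjNormal (s : R)) z = e (MulAut.conjNormal (s : R) (e.symm z)) := rfl
    rw [h2, MulAut.conjNormal_apply]
    have h3 : (MulAut.conjNormal (s : R) (e.symm z) : S) = s * e.symm z * s⁻¹ := by
      apply Subtype.ext
      rw [MulAut.conjNormal_apply]
      rfl
    rw [h3, map_mul, map_mul, map_inv, e.apply_symm_apply]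
    rfl
  have hox : orderOf (f x) = orderOf x := orderOf_injective f hinj x
  have hoy : orderOf (f y) = orderOf y := orderOf_injective f hinj y
  have hcx := five_cycle (x := f x) (by rw [hox]; exact hx)
  have hcy := five_cycle (x := f y) (by rw [hoy]; exact hy)
  rw [hox] at hcx
  rw [hoy] at hcy
  have hs : ∀ σ : Equiv.Perm (Fin 10), σ.cycleType = {5} → σ ∈ alternatingGroup (Fin 10) := by
    intro σ h
    rw [Equiv.Perm.mem_alternatingGroup, Equiv.Perm.sign_of_cycleType, h]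
    decide
  have h1 : IsConj (⟨f x ^ (orderOf x / 5), hs _ hcx⟩ : alternatingGroup (Fin 10)) ⟨f y ^ (orderOf y / 5), hs _ hcy⟩ := by
    refine alternatingGroup.isConj_of ?_ ?_
    · rw [Equiv.Perm.isConj_iff_cycleType_eq]
      exact hcx.trans hcy.symm
    · change (f x ^ (orderOf x / 5)).support.card + 2 ≤ _
      rw [← Equiv.Perm.sum_cycleType, hcx]
      decide
  obtain ⟨c, hc⟩ := isConj_iff.1 h1
  refine ⟨(e.symm c : R), hinj ?_⟩
  rw [map_mul, map_mul, map_inv, map_pow, map_pow, hS, e.apply_symm_apply]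
  exact congrArg Subtype.val hc

/-! ### the candidates -/

section
variable {S : Type u} [Group S] [Finite S] [IsSimpleGroup S]

theorem not_L (hna : ¬ IsMulCommutative S) {n p f q : ℕ} (hp : p.Prime) (hf : 1 ≤ f) (hq : p ^ f = q) (hn : 2 ≤ n)
    (hn2 : n = 2 → 4 ≤ p ^ f) (h : IsL n q S)
    (hB : ¬ 25 ∣ 24 * f * ((p ^ f) ^ (n * (n - 1) / 2) * ∏ i ∈ Finset.range (n - 1), ((p ^ f) ^ (i + 2) - 1))) :
    ¬ 25 ∣ Nat.card (MulAut S) := by
  subst hq
  obtain ⟨K, iK, iKf, hK, ⟨e⟩⟩ := h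
  intro h25
  refine hB (h25.trans (H105.O8.lie_dvd hna (.psl n p f) ⟨K, iK, iKf, hK, ⟨e⟩⟩ ?_))
  rw [Nat.card_congr e.toEquiv]
  exact psl_real hp hf hK hn hn2

theorem not_U (hna : ¬ IsMulCommutative S) {n p f q : ℕ} (hp : p.Prime) (hf : 1 ≤ f) (hq : p ^ f = q) (hn : 3 ≤ n)
    (hn2 : ¬ (n = 3 ∧ p ^ f = 2)) (h : IsU n q S)
    (hB : ¬ 25 ∣ 24 * f * ((p ^ f) ^ (n * (n - 1) / 2) *
      ∏ i ∈ Finset.range (n - 1), (if Even i then (p ^ f) ^ (i + 2) - 1 else (p ^ f) ^ (i + 2) + 1))) :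
    ¬ 25 ∣ Nat.card (MulAut S) := by
  subst hq
  obtain ⟨K, iK, iKf, hK, ⟨e⟩⟩ := h
  intro h25
  refine hB (h25.trans (H105.O8.lie_dvd hna (.psu n p f) ⟨K, iK, iKf, hK, ⟨e⟩⟩ ?_))
  rw [Nat.card_congr e.toEquiv]
  exact psu_real hp hf hK hn hn2

omit [Finite S] [IsSimpleGroup S] in
theorem not_A {m : ℕ} (h5 : 5 ≤ m) (h9 : m ≤ 9) (e : S ≃* alternatingGroup (Fin m)) :
    ¬ 25 ∣ Nat.card (MulAut S) := by
  rw [Nat.card_congr (MulAut.congr e).toEquiv]
  by_cases h6 : m = 6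
  · subst h6
    rw [H824.ProdLem.card_aut_a6]
    norm_num
  · rw [← Nat.card_congr (Equiv.ofBijective _ (S2119.result m (by omega) h6)), Nat.card_eq_fintype_card,
      Fintype.card_perm, Fintype.card_fin]
    intro h
    exact absurd (h.trans (Nat.factorial_dvd_factorial h9)) (by decide)

theorem not_spor (hna : ¬ IsMulCommutative S) (hs : IsSporadicGroup S) {x : Grp × ℕ} (hx : x ∈ OrdDiv.spor)
    (hr : OrdDiv.Real x.1 S) (hB : ¬ 25 ∣ 2 * x.2) : ¬ 25 ∣ Nat.card (MulAut S) := by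
  have h1 := OrdDiv.table.spor S x hx hr
  have h2 : Nat.card (Cfsg.Out S) ≤ 2 := H498.SporOut.index_le_two hs
  have h3 : 0 < Nat.card (Cfsg.Out S) := Nat.card_pos
  rw [← H934.OutB.card_out_mul S hna, h1]
  intro h
  refine hB (h.trans (Nat.mul_dvd_mul ?_ (dvd_refl _)))
  interval_cases Nat.card (Cfsg.Out S) <;> norm_num

/-- the candidates with `25 ∣ |Aut S|` -/
theorem cand (hna : ¬ IsMulCommutative S) (h : CandD 2 8 S) (h25 : 25 ∣ Nat.card (MulAut S)) :
    Nonempty (S ≃* alternatingGroup (Fin 10)) ∨ Spor.IsoJ2 S ∨ 11 ∣ Nat.card S := by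
  rcases h with h | h | h | h | h
  · obtain ⟨m, h5, h14, h12, -, -, ⟨e⟩⟩ := h
    have h11 : m ≤ 11 := by
      by_contra hc
      have := h12 (by norm_num) (by omega)
      omega
    by_cases h9 : m ≤ 9
    · exact absurd h25 (not_A h5 h9 e)
    · by_cases h10 : m = 10
      · subst h10
        exact Or.inl ⟨e⟩
      · have hm : m = 11 := by omega
        subst hm
        refine Or.inr (Or.inr ?_)
        rw [Nat.card_congr e.toEquiv, nat_card_alternatingGroup, Nat.card_eq_fintype_card, Fintype.card_fin]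
        decide
  · exfalso
    rcases h with ⟨q, hq, h1, h2, h3⟩ | ⟨-, -, h⟩ | ⟨-, -, h⟩ | ⟨h, -⟩ | ⟨h, -⟩ | ⟨h, -⟩ | ⟨-, h, -⟩ | ⟨h, -⟩ | ⟨h, -⟩
    · revert h25
      simp only [Finset.mem_insert, Finset.mem_singleton] at hq
      rcases hq with rfl | rfl | rfl | rfl | rfl | rfl | rfl | rfl
      · exact not_L hna (p := 7) (f := 1) (by norm_num) le_rfl (by norm_num) le_rfl (fun _ => by norm_num) h3
          (by simp only [Finset.prod_range_succ, Finset.prod_range_zero]; norm_num)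
      · exact absurd (by norm_num) h1
      · exact not_L hna (p := 11) (f := 1) (by norm_num) le_rfl (by norm_num) le_rfl (fun _ => by norm_num) h3
          (by simp only [Finset.prod_range_succ, Finset.prod_range_zero]; norm_num)
      · exact not_L hna (p := 13) (f := 1) (by norm_num) le_rfl (by norm_num) le_rfl (fun _ => by norm_num) h3
          (by simp only [Finset.prod_range_succ, Finset.prod_range_zero]; norm_num)
      · exact not_L hna (p := 17) (f := 1) (by norm_num) le_rfl (by norm_num) le_rfl (fun _ => by norm_num) h3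
          (by simp only [Finset.prod_range_succ, Finset.prod_range_zero]; norm_num)
      · norm_num at h2
      · norm_num at h2
      · norm_num at h2
    · exact not_L hna (p := 3) (f := 1) (by norm_num) le_rfl (by norm_num) (by norm_num) (by norm_num) h
        (by simp only [Finset.prod_range_succ, Finset.prod_range_zero]; norm_num) h25
    · exact not_U hna (p := 3) (f := 1) (by norm_num) le_rfl (by norm_num) le_rfl (by norm_num) h
        (by simp [Finset.prod_range_succ]) h25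
    · exact absurd rfl h
    · exact absurd rfl h
    · exact absurd rfl h
    · omega
    · exact absurd rfl h
    · exact absurd rfl h
  · rcases h with ⟨h, -⟩ | ⟨-, h, -⟩
    · exact absurd rfl h
    · omega
  · exact absurd rfl h.1
  · have hs : IsSporadicGroup S := by
      unfold SporC at h
      unfold IsSporadicGroup
      tauto
    rcases h with h | h | h | h | h | h | h | h | h
    · exact absurd h25 (not_spor hna hs (x := (.m11, 7920)) (by simp [spor]) h (by norm_num))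
    · exact absurd h25 (not_spor hna hs (x := (.m12, 95040)) (by simp [spor]) h (by norm_num))
    · exact absurd h25 (not_spor hna hs (x := (.m22, 443520)) (by simp [spor]) h (by norm_num))
    · exact absurd h25 (not_spor hna hs (x := (.m23, 10200960)) (by simp [spor]) h (by norm_num))
    · exact absurd h25 (not_spor hna hs (x := (.m24, 244823040)) (by simp [spor]) h (by norm_num))
    · exact absurd h25 (not_spor hna hs (x := (.j1, 175560)) (by simp [spor]) h (by norm_num))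
    · exact Or.inr (Or.inl h)
    · exact absurd h25 (not_spor hna hs (x := (.j3, 50232960)) (by simp [spor]) h (by norm_num))
    · refine Or.inr (Or.inr ?_)
      rw [OrdDiv.table.spor S (.suz, 448345497600) (by simp [spor]) h]
      norm_num

end

/-! ### the stub -/

section
variable {F : Type} [Field F] [Fintype F]

theorem eleven_not_dvd (hF : Nat.card F = 2) : ¬ 11 ∣ Nat.card (T8 F) := by
  have hT : Art.Real (.D 4) 2 1 (Nat.card (T8 F)) :=
    oplus_real Nat.prime_two le_rfl (by rw [← Nat.card_eq_fintype_card, hF, pow_one]) le_rfl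
  intro h
  have h1 : 11 ∣ (2 ^ 1) ^ Art.NN (.D 4) * Art.num (.D 4) (2 ^ 1) := by
    rw [← hT.eq]
    exact h.mul_left _
  revert h1
  decide

/-- **R3: `q = 2`** -/
theorem small_two (hF : Nat.card F = 2)
    {R : Subgroup (T8 F)} (S : Subgroup R) [S.Normal] (_hS : IsSimpleGroup S) (_hna : ¬ IsMulCommutative S)
    (hC : Subgroup.centralizer (S : Set R) = ⊥) {P : Subgroup (GL H708.O8.I8 F)}
    (hP : IsResidualCore (pre (quadFormPlus 4 F) R) P) (e : S ≃* Soc P) (hL : ¬ IsLieTypeChar 2 (Soc P))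
    {x y : T8 F} (hx : x ∈ R) (hy : y ∈ R) (ox : orderOf x = 15) (oy : orderOf y = 15)
    (sep : ∀ (c : T8 F) (j : ℤ), c * (x ^ 3) ^ j * c⁻¹ ≠ y ^ 3) (h25 : 25 ∣ Nat.card R)
    (hk : IsKnownSimple' (Soc P)) : False := by
  have hF2 : CharP F 2 := H105.O8.charP_of Nat.prime_two le_rfl (by rw [hF, pow_one])
  have hp2 : Fact (Nat.Prime 2) := ⟨Nat.prime_two⟩
  have hCo := core_of_residual hP
  have hcard : Fintype.card H708.O8.I8 = 8 := by decide
  have hSR : Nat.card S ∣ Nat.card R := Subgroup.card_subgroup_dvd_card S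
  have hRT : Nat.card R ∣ Nat.card (T8 F) := Subgroup.card_subgroup_dvd_card R
  have h1 : CandD 2 8 (Soc P) := by
    have h := H936.List12.list (p := 2) (by rw [hcard]; norm_num) hCo hk hL
    rwa [hcard] at h
  have h2 : 25 ∣ Nat.card (MulAut (Soc P)) := by
    rw [← Nat.card_congr (MulAut.congr e).toEquiv]
    exact h25.trans (dvd_aut S hC)
  have hsim : IsSimpleGroup (Soc P) := hCo.simple
  rcases cand hCo.nonabelian h1 h2 with h | h | h
  · obtain ⟨f⟩ : Nonempty (Soc P ≃* alternatingGroup (Fin 10)) := h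
    obtain ⟨c, hc⟩ := alt_conj S hC (e.trans f) (x := ⟨x, hx⟩) (y := ⟨y, hy⟩)
      (by rw [Subgroup.orderOf_mk]; exact Or.inl ox) (by rw [Subgroup.orderOf_mk]; exact Or.inl oy)
    rw [Subgroup.orderOf_mk, Subgroup.orderOf_mk, ox, oy] at hc
    have h3 := congrArg Subtype.val hc
    refine sep c 1 ?_
    rw [zpow_one]
    exact h3
  · let ix : H708.O8.I8 ≃ Fin 8 := finSumFinEquiv
    have hC' := H936.Reix.core_rx ix hCo
    have e' := H936.Reix.socEquiv ix P
    have hb : (scalars (Fin 8) F).subgroupOf (H936.Reix.rx ix P) = ⊥ := by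
      rw [eq_bot_iff]
      intro z hz
      rw [Subgroup.mem_subgroupOf, mem_scalars_iff] at hz
      obtain ⟨c, hc⟩ := hz
      have hc1 : (c : F) = 1 := by
        have h4 : (c : F) ^ (Fintype.card F - 1) = 1 := FiniteField.pow_card_sub_one_eq_one _ c.ne_zero
        rwa [← Nat.card_eq_fintype_card, hF, pow_one] at h4
      rw [Subgroup.mem_bot]
      apply Subtype.ext
      apply Units.ext
      rw [hc, hc1, one_smul]
      rfl
    obtain ⟨f⟩ := h
    have hJ : Spor.IsoJ2 (H936.Reix.rx ix P) :=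
      ⟨(((QuotientGroup.quotientBot (G := H936.Reix.rx ix P)).symm.trans
        (QuotientGroup.quotientMulEquivOfEq hb.symm)).trans e'.symm).trans f⟩
    refine H4.JT.j2_two_eight_irr hJ (Or.inr rfl) (H936.Reix.rx ix P).subtype ?_
    rw [Subgroup.range_subtype]
    exact hC'.absIrred.1
  · exact eleven_not_dvd hF ((h.trans (by rw [Nat.card_congr e.symm.toEquiv]; exact hSR)).trans hRT)

end

end Cfsg.Agent.H109.O8
end

-- part: H92/TD/Main_mg
section
prune_inst 0x703013400d0012000000000080002220640000900020800050800a400a06f3020000010040801900000a220000000000000000d00000000000000000000500209000020050d1000446000f800002000000000000000000000000000000041000000000000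
set_option linter.all false
open scoped Cfsg.Agent.FastGrp

-- part: H92/TD/IdNum
section
/-!
# Excluding alternating, sporadic and cross characteristic groups (helper92, S2499)

Everything from `r ^ (a + 1) ∣ c` for the prime powers `r ^ a ∣ q² ± q + 1`, `r ≠ 3`.
-/

set_option autoImplicit false
set_option exponentiation.threshold 700

namespace Cfsg.Agent.H92.TD

open Cfsg.Agent.H902 Cfsg.Agent.H290.ElReg Cfsg.Agent.H290.ElTab Cfsg.Agent.H290.ElCross Cfsg.Agent.H563.KG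
open Cfsg.Agent.H436 (Prim)

/-! ### arithmetic -/

section Arith

variable {q r : ℕ}

theorem odd_shape (q : ℕ) : Odd (q ^ 2 + q + 1) := by
  have h7 : q ^ 2 + q = q * (q + 1) := by ring
  rw [h7]
  exact (Nat.even_mul_succ_self q).add_one

/-- `r ≡ 1 (mod 6)` -/
theorem mod_six (hr : r.Prime) (h3 : r ≠ 3) (h : r ∣ q ^ 2 + q + 1) : r % 6 = 1 := by
  have := Fact.mk hr
  have h2 : Odd r := Odd.of_dvd_nat (odd_shape q) h
  have hz : (q : ZMod r) ^ 2 + (q : ZMod r) + 1 = 0 := by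
    have := (ZMod.natCast_eq_zero_iff _ _).2 h
    push_cast at this
    exact this
  have hq3 : (q : ZMod r) ^ 3 = 1 := by linear_combination ((q : ZMod r) - 1) * hz
  have hq1 : (q : ZMod r) ≠ 1 := by
    intro h1
    rw [h1] at hz
    have h4 : ((3 : ℕ) : ZMod r) = 0 := by push_cast; linear_combination hz
    rw [ZMod.natCast_eq_zero_iff] at h4
    exact h3 ((Nat.prime_dvd_prime_iff_eq hr Nat.prime_three).1 h4)
  have hq0 : (q : ZMod r) ≠ 0 := by
    intro h1
    rw [h1] at hq3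
    exact absurd hq3 (by simp)
  have ho : orderOf (q : ZMod r) = 3 := by
    have := Fact.mk Nat.prime_three
    exact orderOf_eq_prime hq3 hq1
  have h4 := ZMod.orderOf_dvd_card_sub_one hq0
  rw [ho] at h4
  have h5 := hr.two_le
  have h6 := Nat.odd_iff.1 h2
  omega

theorem nine_not_dvd (q : ℕ) : ¬ 9 ∣ q ^ 2 + q + 1 := by
  intro h
  have h1 : (q ^ 2 + q + 1) % 9 = 0 := Nat.mod_eq_zero_of_dvd h
  have h4 : ∀ x < 9, (x ^ 2 + x + 1) % 9 ≠ 0 := by decide
  have h6 := h4 (q % 9) (Nat.mod_lt _ (by norm_num))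
  rw [← h1] at h6
  exact h6 (by simp only [Nat.add_mod, Nat.pow_mod, _root_.dvd_refl, _root_.Nat.mod_mod_of_dvd, _root_.Nat.one_mod])

theorem exists_ne_three {n : ℕ} (h9 : ¬ 9 ∣ n) (h : 3 < n) : ∃ r, r.Prime ∧ r ≠ 3 ∧ r ∣ n := by
  by_contra hcon
  push Not at hcon
  have h1 := Nat.eq_prime_pow_of_unique_prime_dvd (n := n) (p := 3) (by omega) (fun {d} hd hdn => by
    by_contra h3
    exact hcon d hd h3 hdn)
  rcases Nat.lt_or_ge n.primeFactorsList.length 2 with h2 | h2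
  · have h3 : n ≤ 3 ^ 1 := by
      rw [h1]
      exact Nat.pow_le_pow_right (by norm_num) (by omega)
    omega
  · apply h9
    rw [h1]
    exact pow_dvd_pow 3 h2

end Arith

/-! ### alternating groups -/

theorem two_mul_le_of_sq {r n : ℕ} (hr : r.Prime) (h : r ^ 2 ∣ n.factorial) : 2 * r ≤ n := by
  by_contra hcon
  have h2 := hr.two_le
  have hlt : n < r ^ 2 := by nlinarith
  have hlog : Nat.log r n < 2 := by
    rcases Nat.eq_zero_or_pos n with rfl | hn
    · simp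
    · exact Nat.log_lt_of_lt_pow (by omega) hlt
  rw [hr.pow_dvd_factorial_iff hlog] at h
  have h3 : ∑ i ∈ Finset.Ico 1 2, n / r ^ i = n / r := by simp
  rw [h3] at h
  have h4 : n / r < 2 := Nat.div_lt_of_lt_mul (by omega)
  omega

theorem alt_elim {S : Type*} [Group S] [Finite S] {r s k : ℕ} (hr : r.Prime) (hs : s.Prime) (hr2 : Odd r)
    (hs2 : Odd s) (hrs : r ≠ s) (h1 : r ^ 2 ∣ Nat.card S) (h2 : s ^ 2 ∣ Nat.card S)
    (hno : ∀ x y : S, orderOf x = r → orderOf y = s → ¬ Commute x y) (Φ : S ≃* alternatingGroup (Fin k)) : False := by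
  have hcard : Nat.card S ∣ k.factorial := by
    rw [Nat.card_congr Φ.toEquiv]
    have h3 := Subgroup.card_subgroup_dvd_card (alternatingGroup (Fin k))
    rwa [Nat.card_perm, Nat.card_fin] at h3
  have h3 := two_mul_le_of_sq hr (h1.trans hcard)
  have h4 := two_mul_le_of_sq hs (h2.trans hcard)
  obtain ⟨σ, hσ⟩ := (Equiv.Perm.exists_with_cycleType_iff (Fin k) (m := {r, s})).2 ⟨by
    simp only [Multiset.insert_eq_cons, Multiset.sum_cons, Multiset.sum_singleton, Fintype.card_fin]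
    omega, by
    intro a ha
    simp only [Multiset.insert_eq_cons, Multiset.mem_cons, Multiset.mem_singleton] at ha
    rcases ha with rfl | rfl
    · exact hr.two_le
    · exact hs.two_le⟩
  have hcop : r.Coprime s := (Nat.coprime_primes hr hs).2 hrs
  have ho : orderOf σ = r * s := by
    rw [← Equiv.Perm.lcm_cycleType, hσ]
    simp only [Multiset.insert_eq_cons, Multiset.lcm_cons, Multiset.lcm_singleton, normalize_eq]
    exact hcop.lcm_eq_mul
  have hA : σ ∈ alternatingGroup (Fin k) := by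
    rw [Equiv.Perm.mem_alternatingGroup, Equiv.Perm.sign_of_cycleType, hσ]
    have h5 : Even (r + s + 2) := (hr2.add_odd hs2).add (by decide)
    simp only [Multiset.insert_eq_cons, Multiset.sum_cons, Multiset.sum_singleton, Multiset.card_cons,
      Multiset.card_singleton]
    exact h5.neg_one_pow
  have hoS : orderOf (Φ.symm ⟨σ, hA⟩) = r * s := by
    rw [MulEquiv.orderOf_eq, Subgroup.orderOf_mk, ho]
  set τ := Φ.symm ⟨σ, hA⟩ with hτ
  refine hno (τ ^ s) (τ ^ r) ?_ ?_ ((Commute.refl τ).pow_pow s r)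
  · rw [orderOf_pow_of_dvd hs.ne_zero (by rw [hoS]; exact dvd_mul_left s r), hoS, Nat.mul_div_cancel _ hs.pos]
  · rw [orderOf_pow_of_dvd hr.ne_zero (by rw [hoS]; exact dvd_mul_right r s), hoS, Nat.mul_div_cancel_left _ hr.pos]

/-! ### cross characteristic -/

def sqReg : Bool := (reg 8).all fun x => (pd (NS x.1 x.2.1 x.2.2)).all fun r =>
  !(Nat.ble 7 r && (r % 6 == 1 && OL x.1 (x.2.1 ^ x.2.2) % r ^ 2 == 0))

theorem sqReg_true : sqReg = true := by decide +kernel

/-- **Cross characteristic**: one prime suffices. -/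
theorem cross_elim {X : Art.Sh} {l a N : ℕ} (hR : Art.Real X l a N) (hlb : lb X (l ^ a) ≤ 8) {r : ℕ} (hr : r.Prime)
    (h7 : 7 ≤ r) (h6 : r % 6 = 1) (hd : r ^ 2 ∣ N) : False := by
  obtain ⟨hl, ha, hokX, heq⟩ := hR
  have hreg := mem_reg (by norm_num) hl ha hokX hlb
  have hs' : smooth (NA X l a) = true :=
    List.all_eq_true.1 smooth_reg (X, (l, a)) (mem_reg le_rfl hl ha hokX (hlb.trans (by norm_num)))
  have hsS : smooth (NS X l a) = true := by
    have h1 : NS X l a ∣ NA X l a := Dvd.intro_left _ rfl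
    have h2 : NA X l a ∣ prs.prod ^ 100 := Nat.dvd_of_mod_eq_zero (by simpa [smooth] using hs')
    simpa [smooth] using Nat.mod_eq_zero_of_dvd (h1.trans h2)
  have hM : OL X (l ^ a) = Art.dd X (l ^ a) * N := by unfold OL; rw [numL_eq]; exact heq.symm
  have hNM : N ∣ OL X (l ^ a) := Dvd.intro_left _ hM.symm
  have hNS : r ∣ NS X l a := by
    unfold NS
    have h1 : r ∣ (l ^ a) ^ Art.NN X * numL X (l ^ a) := ((dvd_pow_self r (by norm_num)).trans hd).trans hNM
    rcases hr.dvd_mul.1 h1 with h2 | h2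
    · exact (hr.dvd_of_dvd_pow (hr.dvd_of_dvd_pow h2)).mul_right _
    · exact h2.mul_left _
  have h1 := List.all_eq_true.1 (List.all_eq_true.1 sqReg_true _ hreg) r (mem_pd hsS hr hNS)
  have h2 : OL X (l ^ a) % r ^ 2 = 0 := Nat.mod_eq_zero_of_dvd (hd.trans hNM)
  have h3 : Nat.ble 7 r = true := Nat.ble_eq_true_of_le h7
  simp [h3, h6, h2] at h1

/-! ### sporadic groups -/

/-- the order of the Monster -/
def mo : ℕ := 808017424794512875886459904961710757005754368000000000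

def sqSpor : Bool := Cfsg.Agent.OrdDiv.spor.all fun x => (pd x.2).all fun r =>
  !(Nat.ble 7 r && (r % 6 == 1 && x.2 % r ^ 2 == 0)) || (r == 7 || (r == 13 && x.2 == mo))

theorem sqSpor_true : sqSpor = true := by decide +kernel

theorem spor_cases {x : Cfsg.Agent.OrdDiv.Grp × ℕ} (hx : x ∈ Cfsg.Agent.OrdDiv.spor) {r : ℕ} (hr : r.Prime)
    (h7 : 7 ≤ r) (h6 : r % 6 = 1) (hd : r ^ 2 ∣ x.2) : r = 7 ∨ (r = 13 ∧ x.2 = mo) := by
  have hs' : smooth x.2 = true := List.all_eq_true.1 smooth_spor x hx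
  have h1 := List.all_eq_true.1 (List.all_eq_true.1 sqSpor_true _ hx) r
    (mem_pd hs' hr ((dvd_pow_self r (by norm_num)).trans hd))
  have h2 : x.2 % r ^ 2 = 0 := Nat.mod_eq_zero_of_dvd hd
  have h3 : Nat.ble 7 r = true := Nat.ble_eq_true_of_le h7
  simpa [h3, h6, h2] using h1

/-- `r ^ a ∣ N` implies `r ^ (a + 1) ∣ c` -/
def Pw (N c : ℕ) : Prop := ∀ r a : ℕ, r.Prime → r ≠ 3 → 1 ≤ a → r ^ a ∣ N → r ^ (a + 1) ∣ c

theorem seven_of {q r : ℕ} (hr : r.Prime) (h3 : r ≠ 3) (h : r ∣ q ^ 2 + q + 1) : 7 ≤ r := by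
  have h1 := mod_six hr h3 h
  have h2 := hr.two_le
  omega

/-- the number without the prime 7 is small -/
theorem dvd_507 {q : ℕ} {x : Cfsg.Agent.OrdDiv.Grp × ℕ} (hx : x ∈ Cfsg.Agent.OrdDiv.spor) (hmo : x.2 = mo)
    (hP : Pw (q ^ 2 + q + 1) x.2) (h7 : ¬ 7 ∣ q ^ 2 + q + 1) : q ^ 2 + q + 1 ∣ 507 := by
  rw [Nat.dvd_iff_prime_pow_dvd_dvd]
  intro t k ht hk
  rcases Nat.eq_zero_or_pos k with rfl | hk0
  · rw [pow_zero]; exact one_dvd _
  by_cases h3 : t = 3
  · subst h3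
    have h1 : k < 2 := by
      by_contra hcon
      exact nine_not_dvd q ((pow_dvd_pow 3 (by omega : 2 ≤ k)).trans hk)
    obtain rfl : k = 1 := by omega
    norm_num
  have htN : t ∣ q ^ 2 + q + 1 := (dvd_pow_self t (by omega)).trans hk
  have h1 := hP t k ht h3 hk0 hk
  have h2 := (pow_dvd_pow t (by omega : 2 ≤ k + 1)).trans h1
  rcases spor_cases hx ht (seven_of ht h3 htN) (mod_six ht h3 htN) h2 with h4 | ⟨h4, -⟩
  · rw [h4] at htN
    exact absurd htN h7
  · subst h4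
    rw [hmo] at h1
    have h5 : k < 3 := by
      by_contra hcon
      have h6 := (pow_dvd_pow 13 (by omega : 4 ≤ k + 1)).trans h1
      exact absurd h6 (by decide)
    have h6 : (13 : ℕ) ^ k ∣ 13 ^ 2 := pow_dvd_pow 13 (by omega)
    exact h6.trans (by norm_num)

theorem small_td4 {q : ℕ} (hq : q ≤ 23) : OL .TD4 q < mo := by
  have h1 : OL .TD4 q ∣ OL .TD4 q := dvd_rfl
  interval_cases q <;> decide

end Cfsg.Agent.H92.TD
end

-- part: H92/TD/Top
section
/-!
# The part of the order of a group of Lie type at a primitive prime of the top exponent (helper92, S2499)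

`top_all` : if `s` is a primitive prime of the top exponent `f₁ M` of the order `c` and `s ^ k ∣ c`, then
`s ^ k ∣ p ^ (f₁ M) - 1`.
-/

set_option autoImplicit false

namespace Cfsg.Agent.H92.TD

open Cfsg.Agent.OrdDiv Cfsg.Agent.H436 Cfsg.Agent.H915.GN Cfsg.Agent.H264.GN Cfsg.Agent.H264.FKS

variable {p f c s k M a : ℕ}

theorem top_aux {A B : ℕ} (hs : s.Prime) (h : s ^ k ∣ A * B) (hA : ¬ s ∣ A) : s ^ k ∣ B :=
  (Nat.Coprime.pow_left k ((Nat.Prime.coprime_iff_not_dvd hs).2 hA)).dvd_of_dvd_mul_left h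

theorem mul_iff (hf : 1 ≤ f) {x : ℕ} : f * M ∣ f * x ↔ M ∣ x := Nat.mul_dvd_mul_iff_left (by omega)

theorem top_list {L : List ℕ} (hf : 1 ≤ f) (hs : Prim p (f * M) s) (hM : M ∈ L) (hL : ∀ d ∈ L.erase M, ¬ M ∣ d)
    (hc : c ∣ (p ^ f) ^ a * (L.map fun d => (p ^ f) ^ d - 1).prod) (hk : s ^ k ∣ c) : s ^ k ∣ p ^ (f * M) - 1 := by
  have h1 := hk.trans hc
  rw [← List.prod_map_erase (fun d => (p ^ f) ^ d - 1) hM, ← mul_assoc, mul_right_comm] at h1
  rw [pow_mul]
  refine top_aux hs.prime h1 fun h3 => ?_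
  rcases hs.prime.dvd_mul.1 h3 with h4 | h4
  · rw [← pow_mul] at h4
    exact hs.not_dvd_pow _ h4
  · rw [Prime.dvd_prod_iff hs.prime.prime] at h4
    obtain ⟨y, hy, hd⟩ := h4
    rw [List.mem_map] at hy
    obtain ⟨x, hx, rfl⟩ := hy
    rw [← pow_mul, hs.dvd_iff, mul_iff hf] at hd
    exact hL x hx hd

theorem top_range {n j : ℕ} {F : ℕ → ℕ} (hf : 1 ≤ f) (hs : Prim p (f * M) s) (hj : j < n)
    (hF : ∀ i < n, i ≠ j → ∃ x, F i ∣ (p ^ f) ^ x - 1 ∧ ¬ M ∣ x) (h0 : F j ∣ (p ^ f) ^ M - 1)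
    (hc : c ∣ (p ^ f) ^ a * ∏ i ∈ Finset.range n, F i) (hk : s ^ k ∣ c) : s ^ k ∣ p ^ (f * M) - 1 := by
  have h1 := hk.trans hc
  rw [← Finset.mul_prod_erase _ _ (Finset.mem_range.2 hj), mul_left_comm, mul_comm] at h1
  rw [pow_mul]
  refine (top_aux hs.prime h1 fun h3 => ?_).trans h0
  rcases hs.prime.dvd_mul.1 h3 with h4 | h4
  · rw [← pow_mul] at h4
    exact hs.not_dvd_pow _ h4
  · rw [Prime.dvd_finsetProd_iff hs.prime.prime] at h4
    obtain ⟨i, hi, hd⟩ := h4
    rw [Finset.mem_erase, Finset.mem_range] at hi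
    obtain ⟨x, hx, hx2⟩ := hF i hi.2 hi.1
    have h5 := hd.trans hx
    rw [← pow_mul, hs.dvd_iff, mul_iff hf] at h5
    exact hx2 h5

/-- **The top part.** -/
theorem top_all {g : Grp} (hp : p.Prime) (hg : Cond g) (hch : HasChar p g) (hc : den g * c = num g) (hf : 1 ≤ f)
    (hfl : fld g = p ^ f) (hs : Prim p (f * Mg g) s) (hk : s ^ k ∣ c) : s ^ k ∣ p ^ (f * Mg g) - 1 := by
  have hcn : c ∣ num g := by rw [← hc]; exact Dvd.intro_left _ rfl
  cases g
  case psl m q =>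
    obtain rfl : q = p ^ f := hfl
    obtain ⟨hm, hm2, hq⟩ := hg
    have h1 : c ∣ glN m (p ^ f) := hcn
    rw [glN_eq] at h1
    refine top_range (j := m - 1) hf hs (show m - 1 < m by omega) (fun i hi hne => ⟨i + 1, dvd_rfl, fun h => ?_⟩) ?_ h1 hk
    · have := Nat.le_of_dvd (by omega) h
      have : Mg (.psl m (p ^ f)) = m := rfl
      omega
    · rw [Nat.sub_add_cancel (by omega)]; exact dvd_rfl
  case psp m q =>
    obtain rfl : q = p ^ f := hfl
    obtain ⟨hm, hm2, hq⟩ := hg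
    have h1 : c ∣ (p ^ f) ^ (m ^ 2) * prB (p ^ f) m := hcn
    rw [prB_eq] at h1
    refine top_range (j := m - 1) hf hs (show m - 1 < m by omega) (fun i hi hne => ⟨2 * (i + 1), dvd_rfl, fun h => ?_⟩)
      ?_ h1 hk
    · have := Nat.le_of_dvd (by omega) h
      have : Mg (.psp m (p ^ f)) = 2 * m := rfl
      omega
    · rw [Nat.sub_add_cancel (by omega)]; exact dvd_rfl
  case psu m q =>
    obtain rfl : q = p ^ f := hfl
    obtain ⟨hm, hm2, hq⟩ := hg
    have h1 : c ∣ (p ^ f) ^ (m * (m - 1) / 2) * prU (p ^ f) m := hcn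
    unfold prU at h1
    rw [prod_list] at h1
    have hMg : Mg (.psu m (p ^ f)) = 2 * (if m % 2 = 0 then m - 1 else m) := rfl
    refine top_range (j := (if m % 2 = 0 then m - 1 else m) - 1) hf hs
      (show (if m % 2 = 0 then m - 1 else m) - 1 < m by split_ifs <;> omega) (fun i hi hne => ?_) ?_ h1 hk
    · rcases Nat.even_or_odd i with h2 | h2
      · have h3 : i % 2 = 0 := Nat.even_iff.1 h2
        refine ⟨2 * (i + 1), ?_, fun h => ?_⟩
        · rw [if_pos (by rw [h3]; rfl)]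
          exact add_dvd _ _
        · have h4 := Nat.le_of_dvd (by omega) h
          rw [hMg] at h4
          split_ifs at h4 hne <;> omega
      · have h3 : i % 2 = 1 := Nat.odd_iff.1 h2
        refine ⟨i + 1, ?_, fun h => ?_⟩
        · rw [if_neg (by rw [h3]; decide)]
        · have h4 := Nat.le_of_dvd (by omega) h
          rw [hMg] at h4
          split_ifs at h4 hne <;> (clear * - hm hi h4 h3; omega)
    · rw [hMg]
      have h5 : ((if m % 2 = 0 then m - 1 else m) - 1) % 2 = 0 := by split_ifs <;> omega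
      have h6 : (if m % 2 = 0 then m - 1 else m) - 1 + 1 = if m % 2 = 0 then m - 1 else m := by split_ifs <;> (clear * - hm; omega)
      rw [if_pos (by rw [h5]; rfl), h6]
      exact add_dvd _ _
  case oodd m q =>
    obtain rfl : q = p ^ f := hfl
    obtain ⟨hm, hm2, hq⟩ := hg
    have h1 : c ∣ (p ^ f) ^ (m ^ 2) * prB (p ^ f) m := hcn
    rw [prB_eq] at h1
    refine top_range (j := m - 1) hf hs (show m - 1 < m by omega) (fun i hi hne => ⟨2 * (i + 1), dvd_rfl, fun h => ?_⟩)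
      ?_ h1 hk
    · have := Nat.le_of_dvd (by omega) h
      have : Mg (.oodd m (p ^ f)) = 2 * m := rfl
      omega
    · rw [Nat.sub_add_cancel (by omega)]; exact dvd_rfl
  case oplus m q =>
    obtain rfl : q = p ^ f := hfl
    obtain ⟨hm, hq⟩ := hg
    have h1 : c ∣ (p ^ f) ^ (m * (m - 1)) * (((p ^ f) ^ m - 1) * prB (p ^ f) (m - 1)) := hcn
    rw [prB_eq] at h1
    have hMg : Mg (.oplus m (p ^ f)) = 2 * (m - 1) := rfl
    have h2 : c ∣ (p ^ f) ^ (m * (m - 1)) * ∏ i ∈ Finset.range m, (if i < m - 1 then (p ^ f) ^ (2 * (i + 1)) - 1 else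
        (p ^ f) ^ m - 1) := by
      refine h1.trans (dvd_of_eq ?_)
      congr 1
      obtain ⟨n, rfl⟩ : ∃ n, m = n + 1 := ⟨m - 1, by omega⟩
      rw [Finset.prod_range_succ, mul_comm, Nat.add_sub_cancel]
      congr 1
      · exact Finset.prod_congr rfl fun i hi => by rw [if_pos (Finset.mem_range.1 hi)]
      · rw [if_neg (lt_irrefl _)]
    refine top_range (j := m - 2) hf hs (show m - 2 < m by omega) (fun i hi hne => ?_) ?_ h2 hk
    · by_cases h3 : i < m - 1
      · refine ⟨2 * (i + 1), by rw [if_pos h3], fun h => ?_⟩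
        have h4 := Nat.le_of_dvd (by omega) h
        omega
      · refine ⟨m, by rw [if_neg h3], fun h => ?_⟩
        have h4 := Nat.le_of_dvd (by omega) h
        omega
    · rw [if_pos (by omega), hMg, show m - 2 + 1 = m - 1 by omega]
  case ominus m q =>
    obtain rfl : q = p ^ f := hfl
    obtain ⟨hm, hq⟩ := hg
    have h1 : c ∣ (p ^ f) ^ (m * (m - 1)) * (((p ^ f) ^ m + 1) * prB (p ^ f) (m - 1)) := hcn
    rw [prB_eq] at h1
    have hMg : Mg (.ominus m (p ^ f)) = 2 * m := rfl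
    have h2 : c ∣ (p ^ f) ^ (m * (m - 1)) * ∏ i ∈ Finset.range m, (if i < m - 1 then (p ^ f) ^ (2 * (i + 1)) - 1 else
        (p ^ f) ^ m + 1) := by
      refine h1.trans (dvd_of_eq ?_)
      congr 1
      obtain ⟨n, rfl⟩ : ∃ n, m = n + 1 := ⟨m - 1, by omega⟩
      rw [Finset.prod_range_succ, mul_comm, Nat.add_sub_cancel]
      congr 1
      · exact Finset.prod_congr rfl fun i hi => by rw [if_pos (Finset.mem_range.1 hi)]
      · rw [if_neg (lt_irrefl _)]
    refine top_range (j := m - 1) hf hs (show m - 1 < m by omega) (fun i hi hne => ?_) ?_ h2 hk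
    · have h3 : i < m - 1 := by omega
      refine ⟨2 * (i + 1), by rw [if_pos h3], fun h => ?_⟩
      have h4 := Nat.le_of_dvd (by omega) h
      omega
    · rw [if_neg (by omega), hMg]
      exact add_dvd _ _
  case g2 q =>
    obtain rfl : q = p ^ f := hfl
    have h : c ∣ (p ^ f) ^ 6 * (((p ^ f) ^ 2 - 1) * ((p ^ f) ^ 6 - 1)) := hcn
    have h2 : c ∣ (p ^ f) ^ 6 * ([2, 6].map fun d => (p ^ f) ^ d - 1).prod := by
      simpa only [List.map_cons, List.map_nil, List.prod_cons, List.prod_nil, mul_one] using h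
    exact top_list (M := 6) hf hs (by decide) (by decide) h2 hk
  case f4 q =>
    obtain rfl : q = p ^ f := hfl
    have h : c ∣ (p ^ f) ^ 24 * (((p ^ f) ^ 2 - 1) * ((p ^ f) ^ 6 - 1) * ((p ^ f) ^ 8 - 1) *
      ((p ^ f) ^ 12 - 1)) := hcn
    have h2 : c ∣ (p ^ f) ^ 24 * ([2, 6, 8, 12].map fun d => (p ^ f) ^ d - 1).prod := by
      simpa only [List.map_cons, List.map_nil, List.prod_cons, List.prod_nil, mul_one, mul_assoc] using h
    exact top_list (M := 12) hf hs (by decide) (by decide) h2 hk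
  case e6 q =>
    obtain rfl : q = p ^ f := hfl
    have h : c ∣ (p ^ f) ^ 36 * (((p ^ f) ^ 2 - 1) * ((p ^ f) ^ 5 - 1) * ((p ^ f) ^ 6 - 1) *
      ((p ^ f) ^ 8 - 1) * ((p ^ f) ^ 9 - 1) * ((p ^ f) ^ 12 - 1)) := hcn
    have h2 : c ∣ (p ^ f) ^ 36 * ([2, 5, 6, 8, 9, 12].map fun d => (p ^ f) ^ d - 1).prod := by
      simpa only [List.map_cons, List.map_nil, List.prod_cons, List.prod_nil, mul_one, mul_assoc] using h
    exact top_list (M := 12) hf hs (by decide) (by decide) h2 hk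
  case e7 q =>
    obtain rfl : q = p ^ f := hfl
    have h : c ∣ (p ^ f) ^ 63 * (((p ^ f) ^ 2 - 1) * ((p ^ f) ^ 6 - 1) *
      ((p ^ f) ^ 8 - 1) * ((p ^ f) ^ 10 - 1) * ((p ^ f) ^ 12 - 1) * ((p ^ f) ^ 14 - 1) *
      ((p ^ f) ^ 18 - 1)) := hcn
    have h2 : c ∣ (p ^ f) ^ 63 * ([2, 6, 8, 10, 12, 14, 18].map fun d => (p ^ f) ^ d - 1).prod := by
      simpa only [List.map_cons, List.map_nil, List.prod_cons, List.prod_nil, mul_one, mul_assoc] using h
    exact top_list (M := 18) hf hs (by decide) (by decide) h2 hk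
  case e8 q =>
    obtain rfl : q = p ^ f := hfl
    have h : c ∣ (p ^ f) ^ 120 * (((p ^ f) ^ 2 - 1) * ((p ^ f) ^ 8 - 1) * ((p ^ f) ^ 12 - 1) *
      ((p ^ f) ^ 14 - 1) * ((p ^ f) ^ 18 - 1) * ((p ^ f) ^ 20 - 1) * ((p ^ f) ^ 24 - 1) *
      ((p ^ f) ^ 30 - 1)) := hcn
    have h2 : c ∣ (p ^ f) ^ 120 * ([2, 8, 12, 14, 18, 20, 24, 30].map fun d => (p ^ f) ^ d - 1).prod := by
      simpa only [List.map_cons, List.map_nil, List.prod_cons, List.prod_nil, mul_one, mul_assoc] using h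
    exact top_list (M := 30) hf hs (by decide) (by decide) h2 hk
  case te6 q =>
    obtain rfl : q = p ^ f := hfl
    have h : c ∣ (p ^ f) ^ 36 * (((p ^ f) ^ 2 - 1) * ((p ^ f) ^ 5 + 1) * ((p ^ f) ^ 6 - 1) *
      ((p ^ f) ^ 8 - 1) * ((p ^ f) ^ 9 + 1) * ((p ^ f) ^ 12 - 1)) := hcn
    have h2 : c ∣ (p ^ f) ^ 36 * ([2, 10, 6, 8, 18, 12].map fun d => (p ^ f) ^ d - 1).prod := by
      refine h.trans (Nat.mul_dvd_mul_left _ ?_)
      simp only [List.map_cons, List.map_nil, List.prod_cons, List.prod_nil, mul_one]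
      have h1 := add_dvd (p ^ f) 5
      have h2 := add_dvd (p ^ f) 9
      norm_num only at h1 h2
      rw [mul_assoc, mul_assoc, mul_assoc, mul_assoc]
      exact Nat.mul_dvd_mul_left _ (Nat.mul_dvd_mul h1 (Nat.mul_dvd_mul_left _ (Nat.mul_dvd_mul_left _
        (Nat.mul_dvd_mul_right h2 _))))
    exact top_list (M := 18) hf hs (by decide) (by decide) h2 hk
  case td4 q =>
    obtain rfl : q = p ^ f := hfl
    have hQ : 1 ≤ p ^ f := Nat.one_le_pow _ _ hp.pos
    have h : c ∣ (p ^ f) ^ 12 * (((p ^ f) ^ 2 - 1) * ((p ^ f) ^ 6 - 1) * ((p ^ f) ^ 8 + (p ^ f) ^ 4 + 1)) := hcn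
    have h2 : c ∣ (p ^ f) ^ 12 * ([2, 6, 12].map fun d => (p ^ f) ^ d - 1).prod := by
      refine h.trans (Nat.mul_dvd_mul_left _ ?_)
      simp only [List.map_cons, List.map_nil, List.prod_cons, List.prod_nil, mul_one]
      rw [mul_assoc ((p ^ f) ^ 2 - 1)]
      refine Nat.mul_dvd_mul_left _ (Nat.mul_dvd_mul_left _ ?_)
      rw [td4_eq hQ]
      exact Dvd.intro _ rfl
    exact top_list (M := 12) hf hs (by decide) (by decide) h2 hk
  case sz q =>
    obtain rfl : q = p ^ f := hfl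
    have h : c ∣ (p ^ f) ^ 2 * ((p ^ f - 1) * ((p ^ f) ^ 2 + 1)) := hcn
    have h2 : c ∣ (p ^ f) ^ 2 * ([1, 4].map fun d => (p ^ f) ^ d - 1).prod := by
      refine h.trans (Nat.mul_dvd_mul_left _ ?_)
      simp only [List.map_cons, List.map_nil, List.prod_cons, List.prod_nil, mul_one]
      have h1 := add_dvd (p ^ f) 2
      norm_num only at h1
      rw [pow_one]
      exact Nat.mul_dvd_mul_left _ h1
    exact top_list (M := 4) hf hs (by decide) (by decide) h2 hk
  case ree q =>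
    obtain rfl : q = p ^ f := hfl
    have h : c ∣ (p ^ f) ^ 3 * ((p ^ f - 1) * ((p ^ f) ^ 3 + 1)) := hcn
    have h2 : c ∣ (p ^ f) ^ 3 * ([1, 6].map fun d => (p ^ f) ^ d - 1).prod := by
      refine h.trans (Nat.mul_dvd_mul_left _ ?_)
      simp only [List.map_cons, List.map_nil, List.prod_cons, List.prod_nil, mul_one]
      have h1 := add_dvd (p ^ f) 3
      norm_num only at h1
      rw [pow_one]
      exact Nat.mul_dvd_mul_left _ h1
    exact top_list (M := 6) hf hs (by decide) (by decide) h2 hk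
  case tf4 q =>
    obtain rfl : q = p ^ f := hfl
    have h : c ∣ (p ^ f) ^ 12 * ((p ^ f - 1) * ((p ^ f) ^ 3 + 1) * ((p ^ f) ^ 4 - 1) * ((p ^ f) ^ 6 + 1)) := hcn
    have h2 : c ∣ (p ^ f) ^ 12 * ([1, 6, 4, 12].map fun d => (p ^ f) ^ d - 1).prod := by
      refine h.trans (Nat.mul_dvd_mul_left _ ?_)
      simp only [List.map_cons, List.map_nil, List.prod_cons, List.prod_nil, mul_one]
      have h1 := add_dvd (p ^ f) 3
      have h2 := add_dvd (p ^ f) 6
      norm_num only at h1 h2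
      rw [mul_assoc, mul_assoc, pow_one]
      exact Nat.mul_dvd_mul_left _ (Nat.mul_dvd_mul h1 (Nat.mul_dvd_mul_left _ h2))
    exact top_list (M := 12) hf hs (by decide) (by decide) h2 hk
  all_goals exact absurd hch not_false

end Cfsg.Agent.H92.TD
end

-- part: H92/TD/Id
section
/-!
# Identification of the simple group (helper92, S2499)

* `spor_elim`, `charp_elim` : sporadic groups, equal characteristic;
* `identT` : the simple group is `³D₄(q)`, `q > 2`;
* `eq_top_of_meets` : a subgroup of `³D₄(q)`, `q > 2`, meeting the classes of all `r`-elements, `r ∣ q² ± q + 1`,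
  `r ≠ 3`, is `⊤`.
-/

set_option autoImplicit false

namespace Cfsg.Agent.H92.TD

open Cfsg Cfsg.Agent.OrdDiv Cfsg.Agent.H436 Cfsg.Agent.H902 Cfsg.Agent.H902.Names Cfsg.Agent.H915.GN
  Cfsg.Agent.H290.ElReg Cfsg.Agent.H264.FKS Cfsg.Agent.H563.KG Cfsg.Agent.H56.Exc Cfsg.Lie

section Num

variable {q : ℕ}

theorem exists_r3 (hq : 2 ≤ q) : ∃ r, r.Prime ∧ r ≠ 3 ∧ r ∣ q ^ 2 + q + 1 :=
  exists_ne_three (nine_not_dvd q) (by nlinarith)

theorem exists_r6 (hq : 2 < q) : ∃ r, r.Prime ∧ r ≠ 3 ∧ r ∣ q ^ 2 - q + 1 := by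
  rw [six_shape (by omega)]
  refine exists_ne_three (nine_not_dvd _) ?_
  obtain ⟨c, rfl⟩ : ∃ c, q = c + 3 := ⟨q - 3, by omega⟩
  have : c + 3 - 1 = c + 2 := rfl
  rw [this]
  nlinarith only []

theorem exists_exp {N r : ℕ} (hN : N ≠ 0) (hr : r.Prime) (h : r ∣ N) :
    ∃ a, 1 ≤ a ∧ r ^ a ∣ N ∧ ¬ r ^ (a + 1) ∣ N := by
  obtain ⟨a, n', hn, he⟩ := Nat.exists_eq_pow_mul_and_not_dvd hN r hr.one_lt.ne'
  refine ⟨a, ?_, Dvd.intro _ he.symm, fun h1 => hn ?_⟩
  · by_contra h0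
    obtain rfl : a = 0 := by omega
    rw [pow_zero, one_mul] at he
    exact hn (he ▸ h)
  · rw [he, pow_succ] at h1
    exact Nat.dvd_of_mul_dvd_mul_left (pow_pos hr.pos a) h1

/-- **Sporadic groups.** -/
theorem spor_elim (hq : 2 < q) {x : Cfsg.Agent.OrdDiv.Grp × ℕ} (hx : x ∈ Cfsg.Agent.OrdDiv.spor)
    (h3 : Pw (q ^ 2 + q + 1) x.2) (h6 : Pw (q ^ 2 - q + 1) x.2) (hd : x.2 ∣ OL .TD4 q) : False := by
  have hq1 : 1 ≤ q := by omega
  obtain ⟨r, hr, hr3, hrN⟩ := exists_r3 (q := q) (by omega)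
  obtain ⟨s, hs, hs3, hsN⟩ := exists_r6 hq
  have hsN' := hsN
  rw [six_shape hq1] at hsN' h6
  have h1 := spor_cases hx hr (seven_of hr hr3 hrN) (mod_six hr hr3 hrN) (h3 r 1 hr hr3 le_rfl (by rwa [pow_one]))
  have h2 := spor_cases hx hs (seven_of hs hs3 hsN') (mod_six hs hs3 hsN') (h6 s 1 hs hs3 le_rfl (by rwa [pow_one]))
  have hOL : OL .TD4 q ≠ 0 := by
    intro h0
    have h5 : OL .TD4 q = q ^ 12 * ((q ^ 2 - 1) * (q ^ 6 - 1) * (q ^ 8 + q ^ 4 + 1)) := rfl
    rw [h5] at h0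
    have h6 : 1 < q ^ 2 := Nat.one_lt_pow (by norm_num) (by omega)
    have h7 : 1 < q ^ 6 := Nat.one_lt_pow (by norm_num) (by omega)
    have h8 : 0 < q ^ 12 * ((q ^ 2 - 1) * (q ^ 6 - 1) * (q ^ 8 + q ^ 4 + 1)) :=
      Nat.mul_pos (Nat.pow_pos (by omega)) (Nat.mul_pos (Nat.mul_pos (by omega) (by omega)) (by omega))
    omega
  have key : ∀ {Q : ℕ}, Q ^ 2 + Q + 1 ∣ 507 → Q ≤ 22 := by
    intro Q hQ
    have := Nat.le_of_dvd (by norm_num) hQ
    nlinarith only [this]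
  have hend : x.2 = mo → q ≤ 23 → False := by
    intro hm hq23
    have h4 := Nat.le_of_dvd (Nat.pos_of_ne_zero hOL) hd
    have h5 := small_td4 hq23
    omega
  have hne : r ≠ s := fun h => cop_aux hr hq1 hrN (h ▸ hsN)
  rcases h1 with h1 | ⟨h1, hm⟩
  · rcases h2 with h2 | ⟨h2, hm⟩
    · exact hne (h1.trans h2.symm)
    · refine hend hm ?_
      have h7 : ¬ 7 ∣ (q - 1) ^ 2 + (q - 1) + 1 := by
        intro h7
        rw [← six_shape hq1] at h7
        subst h1
        exact cop_aux hr hq1 hrN h7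
      have := key (dvd_507 hx hm h6 h7)
      omega
  · rcases h2 with h2 | ⟨h2, -⟩
    · refine hend hm ?_
      have h7 : ¬ 7 ∣ q ^ 2 + q + 1 := by
        intro h7
        subst h2
        exact cop_aux hs hq1 h7 hsN
      have := key (dvd_507 hx hm h3 h7)
      omega
    · exact hne (h1.trans h2.symm)

end Num

/-- **Equal characteristic.** -/
theorem charp_elim {p f c : ℕ} {g : Grp} (hp : p.Prime) (hf : 1 ≤ f) (h2 : 2 < p ^ f) (hg : Cond g)
    (hch : HasChar p g) (hc : den g * c = num g) (hd : c ∣ num (.td4 (p ^ f)))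
    (h6 : Pw ((p ^ f) ^ 2 - p ^ f + 1) c) : g = .td4 (p ^ f) := by
  obtain ⟨f₁, hf₁, hfl, hK, hY⟩ := kd_all hp hg hch hc
  have hq1 : 1 ≤ p ^ f := by omega
  have hne : ¬ (p = 2 ∧ f * 6 ≤ 6) := by
    rintro ⟨rfl, h⟩
    obtain rfl : f = 1 := by omega
    norm_num at h2
  obtain ⟨s, hs⟩ := exists_prim (q := p) (e := f * 6) hp.two_le (by omega) (fun h => hne ⟨h.1, h.2.le⟩)
  have e3 : (p ^ f) ^ 3 + 1 = ((p ^ f) ^ 2 - p ^ f + 1) * (p ^ f + 1) := by
    have e8 : (p ^ f) ^ 2 - p ^ f = p ^ f * (p ^ f - 1) := by rw [Nat.mul_sub, mul_one, pow_two]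
    obtain ⟨d, hd⟩ : ∃ d, p ^ f = d + 1 := ⟨p ^ f - 1, by omega⟩
    rw [e8, hd, Nat.add_sub_cancel]
    ring
  have e6 : p ^ (f * 6) - 1 = ((p ^ f) ^ 3 - 1) * (p ^ f + 1) * ((p ^ f) ^ 2 - p ^ f + 1) := by
    have h1 : p ^ (f * 6) - 1 = ((p ^ f) ^ 3 - 1) * ((p ^ f) ^ 3 + 1) := by
      have h3 : 1 ≤ (p ^ f) ^ 3 := Nat.one_le_pow _ _ hq1
      obtain ⟨d, hd⟩ : ∃ d, (p ^ f) ^ 3 = d + 1 := ⟨(p ^ f) ^ 3 - 1, by omega⟩
      have h4 : p ^ (f * 6) = ((p ^ f) ^ 3) ^ 2 := by rw [← pow_mul, ← pow_mul]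
      rw [h4, hd, Nat.add_sub_cancel]
      apply Nat.sub_eq_of_eq_add
      ring
    rw [h1, e3]
    ring
  have hs3' : ¬ s ∣ (p ^ f) ^ 3 - 1 := by
    rw [← pow_mul, hs.dvd_iff]
    intro h
    have := Nat.le_of_dvd (by omega) h
    omega
  have hs2' : ¬ s ∣ p ^ f + 1 := by
    intro h
    have h3 : s ∣ (p ^ f) ^ 2 - 1 := by
      have h4 : (p ^ f) ^ 2 - 1 = (p ^ f + 1) * (p ^ f - 1) := by
        obtain ⟨d, hd⟩ : ∃ d, p ^ f = d + 1 := ⟨p ^ f - 1, by omega⟩
        rw [hd, Nat.add_sub_cancel]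
        apply Nat.sub_eq_of_eq_add
        ring
      rw [h4]
      exact Dvd.dvd.mul_right h _
    rw [← pow_mul, hs.dvd_iff] at h3
    have := Nat.le_of_dvd (by omega) h3
    omega
  have htop : ∀ k, s ^ k ∣ p ^ (f * 6) - 1 → s ^ k ∣ (p ^ f) ^ 2 - p ^ f + 1 := by
    intro k hk
    rw [e6] at hk
    refine top_aux hs.prime hk fun h => ?_
    rcases hs.prime.dvd_mul.1 h with h | h
    · exact hs3' h
    · exact hs2' h
  have hsN : s ∣ (p ^ f) ^ 2 - p ^ f + 1 := by
    have := htop 1 (by rw [pow_one]; exact hs.dvd dvd_rfl)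
    rwa [pow_one] at this
  have hsmod : f * 6 ∣ s - 1 := Nat.dvd_of_mod_eq_zero (mod_of_prim hp.two_le (by omega) hs)
  have hs3 : s ≠ 3 := by
    rintro rfl
    have := Nat.le_of_dvd (by norm_num) hsmod
    omega
  obtain ⟨b, hb1, hbN, hbn⟩ := exists_exp (by omega) hs.prime hsN
  have h1 : s ^ (b + 1) ∣ c := h6 s b hs.prime hs3 hb1 hbN
  obtain ⟨i, hi, hdi⟩ := hK.exp hs ((dvd_pow_self s (by omega)).trans h1)
  have hiM := hK.le hi
  have hM : f * 6 ≤ f₁ * Mg g :=
    (Nat.le_of_dvd (Nat.mul_pos (by omega) (by omega)) hdi).trans (Nat.mul_le_mul_left _ hiM.2)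
  obtain ⟨t, ht⟩ := exists_prim (q := p) (e := f₁ * Mg g) hp.two_le (by omega) (fun h => hne ⟨h.1, by omega⟩)
  have htc : t ∣ c := hK.has hY (by omega) ht
  obtain ⟨j, hj, hdj⟩ := (Cfsg.Agent.H325.Same.td_td4 hp hf hd).exp ht htc
  have hj' : j = 2 ∨ j = 6 ∨ j = 12 := by
    have : j ∈ [2, 6, 12] := hj
    simpa using this
  have hle : f₁ * Mg g ≤ f * j := Nat.le_of_dvd (Nat.mul_pos (by omega) (by omega)) hdj
  have hcases : f₁ * Mg g = f * 6 ∨ f₁ * Mg g = f * 12 := by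
    rcases hj' with rfl | rfl | rfl
    · omega
    · left; omega
    · obtain ⟨m, hm⟩ := hdj
      have hm2 : m ≤ 2 := by
        by_contra hcon
        have h3 : f₁ * Mg g * 3 ≤ f₁ * Mg g * m := Nat.mul_le_mul_left _ (by omega)
        omega
      interval_cases m <;> omega
  rcases hcases with h3 | h3
  · exfalso
    have h4 := top_all hp hg hch hc hf₁ hfl (by rw [h3]; exact hs) h1
    rw [h3] at h4
    exact hbn (htop _ h4)
  · exact Cfsg.Agent.H349.KD4.charp_td4z hp hf hg hch hc hd fun u hu => hK.has hY (by omega) (by rw [h3]; exact hu)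

variable {p f : ℕ}

/-- **The identification of the simple group.** -/
theorem identT (tb : OrderTable.{0}) (hp : p.Prime) (hf : 1 ≤ f) (h2 : 2 < p ^ f) {F : Type} [Field F] [CharP F p]
    {S : Type} [Group S] [Finite S] [IsSimpleGroup S] (hna : ¬ IsMulCommutative S) (hK : IsKnownSimple' S)
    (hrep : Fth 8 F S) (h3 : Pw ((p ^ f) ^ 2 + p ^ f + 1) (Nat.card S))
    (h6 : Pw ((p ^ f) ^ 2 - p ^ f + 1) (Nat.card S))
    (hno : ∀ r s, r.Prime → s.Prime → r ≠ 3 → s ≠ 3 → r ∣ (p ^ f) ^ 2 + p ^ f + 1 → s ∣ (p ^ f) ^ 2 - p ^ f + 1 →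
      ∀ x y : S, orderOf x = r → orderOf y = s → ¬ Commute x y)
    (hd : Nat.card S ∣ num (.td4 (p ^ f))) : Nat.card S = num (.td4 (p ^ f)) := by
  have hna' : ¬ ∀ a b : S, a * b = b * a := fun h => hna ⟨⟨h⟩⟩
  have hq1 : 1 ≤ p ^ f := by omega
  obtain ⟨r, hr, hr3, hrN⟩ := exists_r3 (q := p ^ f) (by omega)
  obtain ⟨s, hs, hs3, hsN⟩ := exists_r6 h2
  have hrS : r ^ 2 ∣ Nat.card S := h3 r 1 hr hr3 le_rfl (by rwa [pow_one])
  have hsS : s ^ 2 ∣ Nat.card S := h6 s 1 hs hs3 le_rfl (by rwa [pow_one])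
  obtain ⟨g, hgS⟩ := exists_named tb hK hna'
  rcases Cfsg.Agent.H192.Singer.cases_name hgS.cond with ⟨m, rfl⟩ | hsp | ⟨l, hl, hch⟩
  · exfalso
    obtain ⟨Φ⟩ : Nonempty (S ≃* alternatingGroup (Fin m)) := hgS.real
    exact alt_elim hr hs (odd_three hrN) (odd_six hq1 hsN) (fun h => cop_aux hr hq1 hrN (h ▸ hsN)) hrS hsS
      (hno r s hr hs hr3 hs3 hrN hsN) Φ
  · exfalso
    have h1 := Cfsg.Agent.H192.Singer.spor_mem hsp
    have h4 : Nat.card S = ordN g := hgS.ord
    exact spor_elim h2 h1 (by rw [← h4]; exact h3) (by rw [← h4]; exact h6) (by rw [← h4]; exact hd)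
  · by_cases hpl : p = l
    · subst hpl
      have h1 := charp_elim hp hf h2 hgS.cond hch hgS.eq hd h6
      subst h1
      have h4 := hgS.eq
      rw [show den (.td4 (p ^ f)) = 1 from rfl, one_mul] at h4
      exact h4
    · exfalso
      obtain ⟨X, f₁, h1, h4, -⟩ := exists_lie hl hgS hch
      have hlF : (l : F) ≠ 0 := by
        intro h
        exact hpl ((Nat.prime_dvd_prime_iff_eq hp hl).1 ((CharP.cast_eq_zero_iff F p l).1 h))
      have h5 := lb_le hna' (by norm_num) hrep h1 hgS.real h4 hlF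
      exact cross_elim h4 h5 hr (seven_of hr hr3 hrN) (mod_six hr hr3 hrN) hrS

variable {K : Type} [Field K] [Fintype K]

/-- **Subgroups meeting the classes of `r`-elements.** -/
theorem eq_top_of_meets (tb : OrderTable.{0})
    (hkn : ∀ (S : Type) [Group S] [Finite S], IsSimpleGroup S → IsKnownSimple' S) (hN : NilFix) (hG : Gross)
    (hp : p.Prime) (hf : 1 ≤ f) (h2 : 2 < p ^ f) (hK : Fintype.card K = (p ^ f) ^ 3)
    {Y : Subgroup ↥(twistedD4 K (p ^ f))}
    (hY : ∀ r, r.Prime → r ≠ 3 → (r ∣ (p ^ f) ^ 2 + p ^ f + 1 ∨ r ∣ (p ^ f) ^ 2 - p ^ f + 1) → Meets Y r) : Y = ⊤ := by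
  have hq : IsPrimePow (p ^ f) := hp.isPrimePow.pow (by omega)
  have hpq : p ∣ p ^ f := dvd_pow_self p (by omega)
  have hq1 : 1 ≤ p ^ f := by omega
  have : Fact p.Prime := ⟨hp⟩
  have : CharP K p := charP_of_pow (a := f * 3) hp (by rw [hK, ← pow_mul])
  obtain ⟨r, hr, hr3, hrN⟩ := exists_r3 (q := p ^ f) (by omega)
  obtain ⟨s, hs, hs3, hsN⟩ := exists_r6 h2
  obtain ⟨a, ha, haN, haN'⟩ := exists_exp (by omega) hr hrN
  obtain ⟨b, hb, hbN, hbN'⟩ := exists_exp (by omega) hs hsN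
  have hYr := hY r hr hr3 (Or.inl hrN)
  have hYs := hY s hs hs3 (Or.inr hsN)
  have hT := two_td hq hK hp hpq hr hr3 ha haN hs hs3 hb hbN
  obtain ⟨S, hSn, hSs, hSna, hall⟩ := exists_socK hN hG hT hYr hYs
    (no_solv hq hK hr hr3 ha haN haN' hs hs3 hb hbN hYr hYs)
  obtain ⟨ψ, hψ⟩ := Cfsg.Agent.H392.TD.exists_nat hq hK
  let τ : ↥(twistedD4 K (p ^ f)) →* Matrix.GeneralLinearGroup (Fin 4 ⊕ Fin 4) K :=
    (isometryGroup K (quadFormPlus 4 K)).subtype.comp ψ
  have hτ : Function.Injective τ := (Subgroup.subtype_injective _).comp hψ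
  have hrep : Fth 8 K S := by
    have h1 : Function.Injective ((τ.comp Y.subtype).comp S.subtype) :=
      (hτ.comp Y.subtype_injective).comp S.subtype_injective
    exact Fth.of h1
  have hcard := Cfsg.Agent.H349.KD4.card_eq hp hf hK
  have hSY : Nat.card S ∣ Nat.card Y := Subgroup.card_subgroup_dvd_card S
  have hYG : Nat.card Y ∣ Nat.card ↥(twistedD4 K (p ^ f)) := Subgroup.card_subgroup_dvd_card Y
  have hcS := identT tb hp hf h2 (F := K) hSna (hkn S hSs) hrep
    (fun t k ht ht3 hk hkN => hall t _ k (cf3 hq hK hp hpq ht ht3 hk hkN)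
      (hY t ht ht3 (Or.inl ((dvd_pow_self t (by omega)).trans hkN))))
    (fun t k ht ht3 hk hkN => hall t _ k (cf6 hq hK hp hpq ht ht3 hk hkN)
      (hY t ht ht3 (Or.inr ((dvd_pow_self t (by omega)).trans hkN))))
    (fun t u ht hu ht3 hu3 htN huN x y hx hy hc => nonadj hq hK ht hu ht3 hu3 htN huN
      (x := ((x : Y) : ↥(twistedD4 K (p ^ f)))) (y := ((y : Y) : ↥(twistedD4 K (p ^ f))))
      (by rw [Subgroup.orderOf_coe, Subgroup.orderOf_coe, hx])
      (by rw [Subgroup.orderOf_coe, Subgroup.orderOf_coe, hy]) ((hc.map S.subtype).map Y.subtype))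
    (by rw [← hcard]; exact hSY.trans hYG)
  apply Subgroup.eq_top_of_card_eq
  apply Nat.dvd_antisymm hYG
  rw [hcard, ← hcS]
  exact hSY

end Cfsg.Agent.H92.TD
end

-- part: H92/TD/Main
section
/-!
# `³D₄(q)`, `q > 2`, is not the union of the conjugates of two proper subgroups (helper92, S2499)

* `card_dvd_of_cox` : a proper subgroup containing an element of order `q⁴ - q² + 1` has order dividing
  `4 (q⁴ - q² + 1)`;
* `noTwo_gt`, `noTwo_td4_gt` : `NoTwo`.
-/

set_option autoImplicit false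

namespace Cfsg.Agent.H92.TD

open Cfsg Cfsg.Agent.OrdDiv Cfsg.Agent.H436 Cfsg.Agent.H902 Cfsg.Agent.H902.Names Cfsg.Agent.H915.GN
  Cfsg.Agent.H290.ElReg Cfsg.Agent.H264.FKS Cfsg.Agent.H563.KG Cfsg.Agent.H56.Exc Cfsg.Lie Cfsg.Agent.H278.Cov

variable {p f : ℕ} {K : Type} [Field K] [Fintype K]

/-- **Subgroups containing an element of order `q⁴ - q² + 1`.** -/
theorem card_dvd_of_cox (tb : OrderTable.{0})
    (hkn : ∀ (S : Type) [Group S] [Finite S], IsSimpleGroup S → IsKnownSimple' S) (hE : CycFixSolv.{0})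
    (hp : p.Prime) (hf : 1 ≤ f) (hK : Fintype.card K = (p ^ f) ^ 3) {H : Subgroup ↥(twistedD4 K (p ^ f))}
    (hH : H ≠ ⊤) (hd : (p ^ f) ^ 4 - (p ^ f) ^ 2 + 1 ∣ Nat.card H) :
    Nat.card H ∣ 4 * ((p ^ f) ^ 4 - (p ^ f) ^ 2 + 1) := by
  have hq2 : 2 ≤ p ^ f := hp.two_le.trans (Nat.le_self_pow (by omega) p)
  have h1 := (Cfsg.Agent.H349.KD4.kfull_TD4 tb hkn hE hp hf hK H fun r hr hri => ?_).resolve_left hH
  · rwa [Cfsg.Agent.H349.KD4.m_eq hq2, Cfsg.Agent.H349.KD4.ncl12] at h1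
  · obtain ⟨u, hu⟩ := hd
    have h2 := H.card_mul_index
    rw [Cfsg.Agent.H349.KD4.card_eq hp hf hK] at h2
    have h3 : num (.td4 (p ^ f)) = ((p ^ f) ^ 4 - (p ^ f) ^ 2 + 1) * ((p ^ f) ^ 12 * (((p ^ f) ^ 2 - 1) *
        (((p ^ f) ^ 6 - 1) * ((p ^ f) ^ 4 + (p ^ f) ^ 2 + 1)))) := by
      have h4 : num (.td4 (p ^ f)) = (p ^ f) ^ 12 * (((p ^ f) ^ 2 - 1) * ((p ^ f) ^ 6 - 1) *
        ((p ^ f) ^ 8 + (p ^ f) ^ 4 + 1)) := rfl
      have h5 : (p ^ f) ^ 8 + (p ^ f) ^ 4 + 1 = ((p ^ f) ^ 4 - (p ^ f) ^ 2 + 1) * ((p ^ f) ^ 4 + (p ^ f) ^ 2 + 1) := by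
        have h6 : (p ^ f) ^ 2 ≤ (p ^ f) ^ 4 := Nat.pow_le_pow_right (by omega) (by norm_num)
        obtain ⟨d, hd⟩ := Nat.exists_eq_add_of_le h6
        have h7 : (p ^ f) ^ 4 - (p ^ f) ^ 2 = d := by omega
        rw [h7]
        have h8 : (p ^ f) ^ 8 = ((p ^ f) ^ 2 + d) * (p ^ f) ^ 4 := by rw [← hd]; ring
        have h9 : (p ^ f) ^ 4 = (p ^ f) ^ 2 * (p ^ f) ^ 2 := by ring
        nlinarith only [hd]
      rw [h4, h5]
      ring
    rw [h3, hu, mul_assoc] at h2
    have h4 := Nat.eq_of_mul_eq_mul_left (by omega) h2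
    have h5 : r ∣ (p ^ f) ^ 12 * (((p ^ f) ^ 2 - 1) * (((p ^ f) ^ 6 - 1) * ((p ^ f) ^ 4 + (p ^ f) ^ 2 + 1))) := by
      rw [← h4]; exact Dvd.dvd.mul_left hri u
    rcases hr.prime.dvd_mul.1 h5 with h6 | h6
    · exact hr.not_dvd_pow _ h6
    rcases hr.prime.dvd_mul.1 h6 with h6 | h6
    · exact absurd ((hr.dvd_iff _).1 h6) (by norm_num)
    rcases hr.prime.dvd_mul.1 h6 with h6 | h6
    · exact absurd ((hr.dvd_iff _).1 h6) (by norm_num)
    have h7 : (p ^ f) ^ 6 - 1 = ((p ^ f) ^ 2 - 1) * ((p ^ f) ^ 4 + (p ^ f) ^ 2 + 1) := by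
      have h8 : 1 ≤ (p ^ f) ^ 2 := Nat.one_le_pow _ _ (by omega)
      obtain ⟨d, hd⟩ : ∃ d, (p ^ f) ^ 2 = d + 1 := ⟨(p ^ f) ^ 2 - 1, by omega⟩
      have h9 : (p ^ f) ^ 6 = ((p ^ f) ^ 2) ^ 3 := by ring
      have h10 : (p ^ f) ^ 4 = ((p ^ f) ^ 2) ^ 2 := by ring
      rw [h9, h10, hd, Nat.add_sub_cancel]
      apply Nat.sub_eq_of_eq_add
      ring
    have h8 : r ∣ (p ^ f) ^ 6 - 1 := by rw [h7]; exact Dvd.dvd.mul_left h6 _
    exact absurd ((hr.dvd_iff _).1 h8) (by norm_num)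

/-- **`³D₄(q)`, `q > 2`.** -/
theorem noTwo_gt (tb : OrderTable.{0})
    (hkn : ∀ (S : Type) [Group S] [Finite S], IsSimpleGroup S → IsKnownSimple' S) (hE : CycFixSolv.{0})
    (hN : NilFix) (hG : Gross) (hp : p.Prime) (hf : 1 ≤ f) (h2 : 2 < p ^ f) (hK : Fintype.card K = (p ^ f) ^ 3) :
    NoTwo ↥(twistedD4 K (p ^ f)) := by
  have hq : IsPrimePow (p ^ f) := hp.isPrimePow.pow (by omega)
  have hq1 : 1 ≤ p ^ f := by omega
  obtain ⟨C, hCc, hCcard, -⟩ := Cfsg.Agent.H129.TwD4Cyc.coxeter_torus hq hK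
  obtain ⟨x, hx⟩ := IsCyclic.exists_ofOrder_eq_natCard (α := C)
  have hxo : orderOf (x : ↥(twistedD4 K (p ^ f))) = (p ^ f) ^ 4 - (p ^ f) ^ 2 + 1 := by
    rw [Subgroup.orderOf_coe, hx, hCcard]
  have key : ∀ H Y : Subgroup ↥(twistedD4 K (p ^ f)), H ≠ ⊤ → Y ≠ ⊤ → ¬ Av (x : ↥(twistedD4 K (p ^ f))) H →
      ∃ z : ↥(twistedD4 K (p ^ f)), Av z H ∧ Av z Y := by
    intro H Y hH hY hAv
    obtain ⟨g, hg⟩ := not_av hAv
    have h3 : (p ^ f) ^ 4 - (p ^ f) ^ 2 + 1 ∣ Nat.card H := by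
      have h4 : orderOf (g * x * g⁻¹ : ↥(twistedD4 K (p ^ f))) = (p ^ f) ^ 4 - (p ^ f) ^ 2 + 1 := by
        rw [← hxo]
        exact orderOf_injective (MulAut.conj g).toMonoidHom (MulAut.conj g).injective _
      rw [← h4, ← Subgroup.orderOf_mk _ hg]
      exact orderOf_dvd_natCard _
    have h4 := card_dvd_of_cox tb hkn hE hp hf hK hH h3
    by_contra hcon
    push Not at hcon
    apply hY
    refine eq_top_of_meets tb hkn hN hG hp hf h2 hK fun r hr hr3 hrN y hy => ?_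
    obtain ⟨b, hb, hyb⟩ := hy
    refine not_av (hcon y (av_of_card fun hcard => ?_))
    have h5 : r ∣ 4 * ((p ^ f) ^ 4 - (p ^ f) ^ 2 + 1) := by
      refine dvd_trans ?_ (hcard.trans h4)
      rw [hyb]
      exact dvd_pow_self r (by omega)
    have h6 : ¬ r ∣ 4 := by
      intro h6
      have h7 : r ∣ 2 ^ 2 := h6
      have h8 := (Nat.prime_dvd_prime_iff_eq hr Nat.prime_two).1 (hr.dvd_of_dvd_pow h7)
      have h9 : Odd r := hrN.elim odd_three (odd_six hq1)
      rw [h8] at h9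
      exact absurd h9 (by decide)
    have h7 := (hr.dvd_mul.1 h5).resolve_left h6
    rcases hrN with h8 | h8
    · exact not_dvd_twelve hr hq1 h8 h7
    · exact not_dvd_twelve' hr hq1 h8 h7
  intro H Y hH hY
  by_cases h3 : Av (x : ↥(twistedD4 K (p ^ f))) H
  · by_cases h4 : Av (x : ↥(twistedD4 K (p ^ f))) Y
    · exact ⟨x, h3, h4⟩
    · obtain ⟨z, hz1, hz2⟩ := key Y H hY hH h4
      exact ⟨z, hz2, hz1⟩
  · exact key H Y hH hY h3

/-- **`³D₄(q)`, `q > 2`**, named form. -/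
theorem noTwo_td4_gt (tb : OrderTable.{0})
    (hkn : ∀ (S : Type) [Group S] [Finite S], IsSimpleGroup S → IsKnownSimple' S) (hE : CycFixSolv.{0})
    (hN : NilFix) (hG : Gross) {T : Type} [Group T] {q : ℕ} (h2 : 2 < q) (hT : IsNamed (.td4 q) T) : NoTwo T := by
  obtain ⟨K, _, _, hK, ⟨e⟩⟩ := hT.real
  have hq : IsPrimePow q := hT.cond
  obtain ⟨p, f, hp, hf, rfl⟩ := (isPrimePow_nat_iff _).1 hq
  exact (noTwo_gt (K := K) tb hkn hE hN hG hp hf h2 hK).congr e.symm

end Cfsg.Agent.H92.TD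
end

-- part: H257/Cov/Trans
section
/-!
# Transitive groups, their normal subgroups and elements with few fixed points (helper257)

* `orb A x` : the orbit of `x` under `A ≤ Perm Ω` (a finset)
* `fix_ge` : if all the orbits of `A` have size `d` and `w` (of prime order `p`) normalises `A`, then `w` has at least
  `(|Ω| / d % p) * (d % p)` fixed points
* `card_orb_of_norm` : the orbits of a subgroup normalised by a transitive group have the same size
-/

set_option autoImplicit false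

namespace Cfsg.Agent.H257.Cov.Tr

open Equiv

section

variable {α : Type*} [DecidableEq α]

/-- an invariant set and the fixed points of a function whose `p`-th iterate is trivial on it -/
theorem card_modEq (F : α → α) (Δ : Finset α) {p : ℕ} (hp : p.Prime)
    (hinv : ∀ x ∈ Δ, F x ∈ Δ) (hF : ∀ x ∈ Δ, F^[p] x = x) :
    Δ.card % p = (Δ.filter fun x => F x = x).card % p := by
  classical
  have : Fact p.Prime := ⟨hp⟩
  let f : Function.End {x // x ∈ Δ} := fun x => ⟨F x.1, hinv x.1 x.2⟩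
  have hf : ∀ (n : ℕ) (x : {x // x ∈ Δ}), ((f ^ n) x).1 = F^[n] x.1 := by
    intro n
    induction n with
    | zero => intro x; rfl
    | succ n ih =>
      intro x
      rw [pow_succ', Function.iterate_succ_apply']
      change F ((f ^ n) x).1 = F (F^[n] x.1)
      rw [ih]
  have h1 := Equiv.Perm.card_fixedPoints_modEq (f := f) (p := p) (n := 1) (by
    funext x
    apply Subtype.ext
    rw [hf, pow_one]
    exact hF x.1 x.2)
  rw [Fintype.card_coe] at h1
  have h2 : Fintype.card (Function.fixedPoints f) = (Δ.filter fun x => F x = x).card := by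
    rw [← Fintype.card_coe]
    refine Fintype.card_congr ⟨fun x => ⟨x.1.1, ?_⟩, fun x => ⟨⟨x.1, (Finset.mem_filter.1 x.2).1⟩, ?_⟩, ?_, ?_⟩
    · rw [Finset.mem_filter]
      exact ⟨x.1.2, congrArg Subtype.val x.2⟩
    · exact Subtype.ext (Finset.mem_filter.1 x.2).2
    · intro x; rfl
    · intro x; rfl
  rw [h2] at h1
  exact h1

end

variable {Ω : Type*} [Fintype Ω] [DecidableEq Ω]

open Classical in
/-- the orbit of `x` -/
noncomputable def orb (A : Subgroup (Perm Ω)) (x : Ω) : Finset Ω := Finset.univ.filter fun y => ∃ a ∈ A, a x = y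

theorem mem_orb {A : Subgroup (Perm Ω)} {x y : Ω} : y ∈ orb A x ↔ ∃ a ∈ A, a x = y := by
  classical
  unfold orb
  rw [Finset.mem_filter]
  exact and_iff_right (Finset.mem_univ _)

theorem self_mem_orb (A : Subgroup (Perm Ω)) (x : Ω) : x ∈ orb A x := mem_orb.2 ⟨1, A.one_mem, rfl⟩

theorem orb_eq {A : Subgroup (Perm Ω)} {x y : Ω} (h : y ∈ orb A x) : orb A y = orb A x := by
  obtain ⟨a, ha, rfl⟩ := mem_orb.1 h
  ext z
  rw [mem_orb, mem_orb]
  constructor
  · rintro ⟨b, hb, rfl⟩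
    exact ⟨b * a, A.mul_mem hb ha, rfl⟩
  · rintro ⟨b, hb, rfl⟩
    refine ⟨b * a⁻¹, A.mul_mem hb (A.inv_mem ha), ?_⟩
    change b (a.symm (a x)) = b x
    rw [Equiv.symm_apply_apply]

theorem orb_pos (A : Subgroup (Perm Ω)) (x : Ω) : 0 < (orb A x).card := Finset.card_pos.2 ⟨_, self_mem_orb A x⟩

/-- orbit and stabiliser -/
theorem card_orb_mul (A : Subgroup (Perm Ω)) (x : Ω) :
    (orb A x).card * Nat.card (MulAction.stabilizer A x) = Nat.card A := by
  have h1 : (MulAction.orbit A x) = (orb A x : Set Ω) := by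
    ext q
    rw [Finset.mem_coe, mem_orb, MulAction.mem_orbit_iff]
    constructor
    · rintro ⟨r, hr⟩
      exact ⟨r.1, r.2, hr⟩
    · rintro ⟨r, hr, hq⟩
      exact ⟨⟨r, hr⟩, hq⟩
  have h3 : Nat.card (MulAction.orbit A x) = (orb A x).card := by
    rw [h1, Nat.card_coe_set_eq, Set.ncard_coe_finset]
  have h4 := Nat.card_congr (MulAction.orbitProdStabilizerEquivGroup A x)
  rw [Nat.card_prod, h3] at h4
  exact h4

theorem image_orb_subset {A : Subgroup (Perm Ω)} {w : Perm Ω} (hn : ∀ a ∈ A, w * a * w⁻¹ ∈ A) (x : Ω) :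
    (orb A x).image w ⊆ orb A (w x) := by
  intro y hy
  obtain ⟨z, hz, rfl⟩ := Finset.mem_image.1 hy
  obtain ⟨a, ha, rfl⟩ := mem_orb.1 hz
  refine mem_orb.2 ⟨_, hn a ha, ?_⟩
  change w (a (w.symm (w x))) = w (a x)
  rw [Equiv.symm_apply_apply]

/-- the orbits of a subgroup normalised by a transitive group -/
theorem card_orb_of_norm {R A : Subgroup (Perm Ω)} (htr : ∀ x y : Ω, ∃ r ∈ R, r x = y)
    (hn : ∀ r ∈ R, ∀ a ∈ A, r * a * r⁻¹ ∈ A) (x y : Ω) : (orb A x).card = (orb A y).card := by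
  have key : ∀ x y : Ω, (orb A x).card ≤ (orb A y).card := by
    intro x y
    obtain ⟨r, hr, rfl⟩ := htr x y
    rw [← Finset.card_image_of_injective (orb A x) r.injective]
    exact Finset.card_le_card (image_orb_subset (hn r hr) x)
  exact le_antisymm (key x y) (key y x)

variable {A : Subgroup (Perm Ω)} {d : ℕ}

theorem image_orb (hd : ∀ x, (orb A x).card = d) {w : Perm Ω} (hn : ∀ a ∈ A, w * a * w⁻¹ ∈ A) (x : Ω) :
    (orb A x).image w = orb A (w x) := by
  apply Finset.eq_of_subset_of_card_le (image_orb_subset hn x)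
  rw [Finset.card_image_of_injective _ w.injective, hd, hd]

open Classical in
/-- the number of orbits -/
theorem card_orbits (hd : ∀ x, (orb A x).card = d) :
    (Finset.univ.image (orb A)).card * d = Fintype.card Ω := by
  have h1 := Finset.card_eq_sum_card_image (orb A) Finset.univ
  rw [Finset.card_univ] at h1
  rw [h1, Finset.sum_const_nat (m := d)]
  intro s hs
  obtain ⟨x, -, rfl⟩ := Finset.mem_image.1 hs
  rw [← hd x]
  congr 1
  ext y
  rw [Finset.mem_filter]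
  constructor
  · rintro ⟨-, h2⟩
    rw [← h2]
    exact self_mem_orb A y
  · intro h2
    exact ⟨Finset.mem_univ _, orb_eq h2⟩

open Classical in
/-- **fixed points of an element normalising a half-transitive group** -/
theorem fix_ge (hd : ∀ x, (orb A x).card = d) (hd0 : 0 < d) {w : Perm Ω} {p : ℕ} (hp : p.Prime) (hw : w ^ p = 1)
    (hn : ∀ a ∈ A, w * a * w⁻¹ ∈ A) :
    (Fintype.card Ω / d % p) * (d % p) ≤ (Finset.univ.filter fun x => w x = x).card := by
  set Q : Finset (Finset Ω) := Finset.univ.image (orb A) with hQ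
  have hcQ : Q.card = Fintype.card Ω / d := by
    rw [← card_orbits hd, Nat.mul_div_cancel _ hd0]
  have hmem : ∀ s, s ∈ Q ↔ ∃ x, orb A x = s := fun s => by
    rw [hQ, Finset.mem_image]
    simp only [_root_.Finset.mem_univ, _root_.true_and]
  have hQinv : ∀ s ∈ Q, Finset.image w s ∈ Q := by
    intro s hs
    obtain ⟨x, rfl⟩ := (hmem s).1 hs
    rw [image_orb hd hn]
    exact (hmem _).2 ⟨_, rfl⟩
  have hiter : ∀ (n : ℕ) (s : Finset Ω), (Finset.image w)^[n] s = s.image (w ^ n : Perm Ω) := by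
    intro n
    induction n with
    | zero => intro s; simp
    | succ n ih =>
      intro s
      rw [Function.iterate_succ_apply', ih, Finset.image_image, pow_succ']
      rfl
  have h1 := card_modEq (Finset.image w) Q hp hQinv (fun s _ => by
    rw [hiter, hw]
    simp)
  set Qf := Q.filter fun s => Finset.image w s = s with hQf
  have h2 : Q.card % p ≤ Qf.card := by
    rw [h1]
    exact Nat.mod_le _ _
  have hwit : ∀ n : ℕ, (w : Ω → Ω)^[n] = (w ^ n : Perm Ω) := by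
    intro n
    induction n with
    | zero => rfl
    | succ n ih =>
      funext x
      rw [Function.iterate_succ_apply', ih, pow_succ', Perm.mul_apply]
  have h3 : ∀ s ∈ Qf, d % p ≤ (s.filter fun x => w x = x).card := by
    intro s hs
    rw [hQf, Finset.mem_filter] at hs
    obtain ⟨x, hx⟩ := (hmem s).1 hs.1
    have h4 := card_modEq (w : Ω → Ω) s hp (fun y hy => by
      rw [← hs.2]
      exact Finset.mem_image_of_mem _ hy) (fun y _ => by
      rw [hwit, hw]
      rfl)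
    have h5 : s.card = d := by rw [← hx, hd]
    rw [h5] at h4
    rw [h4]
    exact Nat.mod_le _ _
  have h6 : (Qf.biUnion fun s => s.filter fun x => w x = x).card = ∑ s ∈ Qf, (s.filter fun x => w x = x).card := by
    apply Finset.card_biUnion
    intro s hs t ht hst
    change Disjoint (s.filter fun x => w x = x) (t.filter fun x => w x = x)
    rw [Finset.disjoint_left]
    intro x hx hy
    apply hst
    obtain ⟨a, ha⟩ := (hmem s).1 (Finset.mem_filter.1 hs).1
    obtain ⟨b, hb⟩ := (hmem t).1 (Finset.mem_filter.1 ht).1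
    have hxs := (Finset.mem_filter.1 hx).1
    have hxt := (Finset.mem_filter.1 hy).1
    rw [← ha] at hxs
    rw [← hb] at hxt
    rw [← ha, ← hb, ← orb_eq hxs, ← orb_eq hxt]
  have h7 : (Qf.biUnion fun s => s.filter fun x => w x = x) ⊆ Finset.univ.filter fun x => w x = x := by
    intro x hx
    obtain ⟨s, -, hs⟩ := Finset.mem_biUnion.1 hx
    rw [Finset.mem_filter]
    exact ⟨Finset.mem_univ _, (Finset.mem_filter.1 hs).2⟩
  rw [← hcQ]
  calc Q.card % p * (d % p) ≤ Qf.card * (d % p) := Nat.mul_le_mul_right _ h2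
    _ ≤ ∑ s ∈ Qf, (s.filter fun x => w x = x).card := by
        rw [← smul_eq_mul]
        exact Finset.card_nsmul_le_sum _ _ _ h3
    _ = _ := h6.symm
    _ ≤ _ := Finset.card_le_card h7

theorem eq_bot_of_card_orb (hd : ∀ x, (orb A x).card = 1) : A = ⊥ := by
  rw [Subgroup.eq_bot_iff_forall]
  intro a ha
  ext x
  have h1 : a x ∈ orb A x := mem_orb.2 ⟨a, ha, rfl⟩
  obtain ⟨y, hy⟩ := Finset.card_eq_one.1 (hd x)
  have h2 := self_mem_orb A x
  rw [hy, Finset.mem_singleton] at h1 h2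
  rw [h1, Perm.one_apply]
  exact h2.symm

/-- a nontrivial solvable normal subgroup contains a nontrivial abelian normal subgroup -/
theorem exists_abelian_normal {G : Type*} [Group G] (N : Subgroup G) [N.Normal] [Group.IsSolvable N] (hN : N ≠ ⊥) :
    ∃ A : Subgroup G, A.Normal ∧ A ≠ ⊥ ∧ A ≤ N ∧ ∀ x ∈ A, ∀ y ∈ A, x * y = y * x := by
  classical
  have hex : ∃ n, derivedSeries N n = ⊥ := Group.IsSolvable.solvable
  obtain ⟨n, hn, hmin⟩ : ∃ n, derivedSeries N n = ⊥ ∧ ∀ m < n, derivedSeries N m ≠ ⊥ :=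
    ⟨Nat.find hex, Nat.find_spec hex, fun m hm => Nat.find_min hex hm⟩
  cases n with
  | zero =>
    exfalso
    apply hN
    rw [derivedSeries_zero] at hn
    rw [Subgroup.eq_bot_iff_forall]
    intro x hx
    have h1 : (⟨x, hx⟩ : N) ∈ (⊤ : Subgroup N) := Subgroup.mem_top _
    rw [hn, Subgroup.mem_bot] at h1
    exact congrArg Subtype.val h1
  | succ k =>
    have h1 := hmin k (Nat.lt_succ_self k)
    refine ⟨(derivedSeries N k).map N.subtype, inferInstance, ?_, ?_, ?_⟩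
    · intro h2
      apply h1
      rwa [Subgroup.map_eq_bot_iff_of_injective _ N.subtype_injective] at h2
    · rintro _ ⟨x, -, rfl⟩
      exact x.2
    · rw [derivedSeries_succ, Subgroup.commutator_eq_bot_iff_le_centralizer] at hn
      rintro _ ⟨x, hx, rfl⟩ _ ⟨y, hy, rfl⟩
      have h2 := (Subgroup.mem_centralizer_iff.1 (hn hx)) y hy
      rw [← map_mul, ← h2, map_mul]

/-- if `k ∣ |B|` for all nontrivial normal subgroups `B` (`k` divisible by two primes) then `G` has no nontrivial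
solvable normal subgroup -/
theorem no_solvable {G : Type*} [Group G] [Finite G] {p q : ℕ} (hp : p.Prime) (hq : q.Prime) (hpq : p ≠ q)
    (h : ∀ B : Subgroup G, B.Normal → B ≠ ⊥ → p ∣ Nat.card B ∧ q ∣ Nat.card B) (N : Subgroup G) [N.Normal]
    [Group.IsSolvable N] : N = ⊥ := by
  by_contra hN
  obtain ⟨A, hAn, hA, -, hAc⟩ := exists_abelian_normal N hN
  let D : Subgroup G :=
    { carrier := {a | a ∈ A ∧ a ^ p = 1}
      one_mem' := ⟨A.one_mem, one_pow _⟩
      mul_mem' := by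
        rintro a b ⟨ha, ha'⟩ ⟨hb, hb'⟩
        refine ⟨A.mul_mem ha hb, ?_⟩
        have : Commute a b := hAc a ha b hb
        rw [this.mul_pow, ha', hb', one_mul]
      inv_mem' := by
        rintro a ⟨ha, ha'⟩
        exact ⟨A.inv_mem ha, by rw [inv_pow, ha', inv_one]⟩ }
  have hDn : D.Normal := ⟨by
    rintro a ⟨ha, ha'⟩ g
    exact ⟨hAn.conj_mem a ha g, by rw [conj_pow, ha']; group⟩⟩
  have : Fact p.Prime := ⟨hp⟩
  have : Fact q.Prime := ⟨hq⟩
  obtain ⟨a, ha⟩ := exists_prime_orderOf_dvd_card' (G := A) p (h A hAn hA).1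
  have hD : D ≠ ⊥ := by
    intro hb
    have h1 : a.1 ∈ D := ⟨a.2, by rw [← Subgroup.orderOf_coe] at ha; rw [← ha, pow_orderOf_eq_one]⟩
    rw [hb, Subgroup.mem_bot] at h1
    rw [← Subgroup.orderOf_coe, h1, orderOf_one] at ha
    exact hp.one_lt.ne ha
  obtain ⟨b, hb⟩ := exists_prime_orderOf_dvd_card' (G := D) q (h D hDn hD).2
  rw [← Subgroup.orderOf_coe] at hb
  have h2 : orderOf b.1 ∣ p := orderOf_dvd_of_pow_eq_one b.2.2
  rw [hb] at h2
  exact hpq ((Nat.prime_dvd_prime_iff_eq hq hp).1 h2).symm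

end Cfsg.Agent.H257.Cov.Tr
end

-- part: H257/Cov/Row/M23
section
/-!
# S2499 (normal 2-coverings): `M23` (orders 23, 14, 15)
-/

set_option autoImplicit false

namespace Cfsg.Agent.H257.Cov.Row

open Cfsg Cfsg.Agent.OrdDiv Cfsg.Agent.H278.Cov Cfsg.Agent.H257.El Cfsg.Agent.H257.Cov
open Equiv Equiv.Perm
open Cfsg.Agent.H866.InvolType (fx)
open Cfsg.Agent.H180.MEl (Fx mem_Fx fx2 fx3 fx5 fx7 fx11 fx23 fact24)
open Cfsg.Agent.J4Type.CocodeMask
open Cfsg.Agent.SporadicA.GolayPerm (isPerm isAut papp)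
open Cfsg.Agent.H180.KMathieu (orderOf_tab ordOk)

universe u

/-- an invariant set and the fixed points of a permutation whose `p`-th power is trivial on it -/
theorem card_modEq {α : Type*} [DecidableEq α] (σ : Perm α) (Δ : Finset α) {p : ℕ} (hp : p.Prime)
    (hinv : ∀ x ∈ Δ, σ x ∈ Δ) (hσ : ∀ x ∈ Δ, (σ ^ p) x = x) :
    Δ.card % p = (Δ.filter fun x => σ x = x).card % p := by
  classical
  have : Fact p.Prime := ⟨hp⟩
  let f : Function.End {x // x ∈ Δ} := fun x => ⟨σ x.1, hinv x.1 x.2⟩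
  have hf : ∀ (n : ℕ) (x : {x // x ∈ Δ}), ((f ^ n) x).1 = (σ ^ n) x.1 := by
    intro n
    induction n with
    | zero => intro x; rfl
    | succ n ih =>
      intro x
      rw [pow_succ', pow_succ']
      change σ ((f ^ n) x).1 = σ ((σ ^ n) x.1)
      rw [ih]
  have h1 := Equiv.Perm.card_fixedPoints_modEq (f := f) (p := p) (n := 1) (by
    funext x
    apply Subtype.ext
    rw [hf, pow_one]
    exact hσ x.1 x.2)
  rw [Fintype.card_coe] at h1
  have h2 : Fintype.card (Function.fixedPoints f) = (Δ.filter fun x => σ x = x).card := by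
    rw [← Fintype.card_coe]
    refine Fintype.card_congr ⟨fun x => ⟨x.1.1, ?_⟩, fun x => ⟨⟨x.1, (Finset.mem_filter.1 x.2).1⟩, ?_⟩, ?_, ?_⟩
    · rw [Finset.mem_filter]
      exact ⟨x.1.2, congrArg Subtype.val x.2⟩
    · exact Subtype.ext (Finset.mem_filter.1 x.2).2
    · intro x; rfl
    · intro x; rfl
  rw [h2] at h1
  exact h1

theorem filter_le {σ : Perm GolayPt} {Δ : Finset GolayPt} (hn : none ∉ Δ) (hf : σ none = none) :
    (Δ.filter fun x => σ x = x).card + 1 ≤ fx σ := by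
  unfold fx
  rw [← Finset.card_insert_of_notMem (s := Δ.filter fun x => σ x = x) (a := none) (fun h => hn (Finset.mem_filter.1 h).1)]
  apply Finset.card_le_card
  intro x hx
  rw [Finset.mem_filter]
  refine ⟨Finset.mem_univ _, ?_⟩
  rcases Finset.mem_insert.1 hx with rfl | hx
  · exact hf
  · exact (Finset.mem_filter.1 hx).2

theorem pow_none {σ : Perm GolayPt} (hf : σ none = none) (n : ℕ) : (σ ^ n) none = none := by
  induction n with
  | zero => rfl
  | succ n ih => rw [pow_succ, Perm.mul_apply, hf, ih]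

theorem pow_inv {σ : Perm GolayPt} {Δ : Finset GolayPt} (hinv : ∀ x ∈ Δ, σ x ∈ Δ) (n : ℕ) :
    ∀ x ∈ Δ, (σ ^ n) x ∈ Δ := by
  induction n with
  | zero => exact fun x hx => hx
  | succ n ih =>
    intro x hx
    rw [pow_succ, Perm.mul_apply]
    exact ih _ (hinv x hx)

/-- general: `g` of order `a * b` (primes), `Δ` invariant without fixed points -/
theorem four {g : M24} {a b : ℕ} (ha : a.Prime) (hb : b.Prime) (h : orderOf g = a * b) {Δ : Finset GolayPt}
    (hinv : ∀ x ∈ Δ, (g : Perm GolayPt) x ∈ Δ) (h0 : (Δ.filter fun x => (g : Perm GolayPt) x = x).card = 0) :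
    ((Δ.filter fun x => ((g : Perm GolayPt) ^ a) x = x).card % a = 0) ∧
      (Δ.card % b = (Δ.filter fun x => ((g : Perm GolayPt) ^ a) x = x).card % b) := by
  have hg : (g : Perm GolayPt) ^ (a * b) = 1 := by
    rw [← h, ← Subgroup.orderOf_coe, pow_orderOf_eq_one]
  constructor
  · have h1 := card_modEq (g : Perm GolayPt) (Δ.filter fun x => ((g : Perm GolayPt) ^ a) x = x) ha (by
      intro x hx
      rw [Finset.mem_filter] at hx ⊢
      refine ⟨hinv x hx.1, ?_⟩
      rw [← Perm.mul_apply, ← pow_succ, pow_succ', Perm.mul_apply, hx.2]) (fun x hx => (Finset.mem_filter.1 hx).2)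
    rw [h1]
    have h2 : ((Δ.filter fun x => ((g : Perm GolayPt) ^ a) x = x).filter fun x => (g : Perm GolayPt) x = x).card = 0 := by
      apply Nat.le_zero.1
      rw [← h0]
      apply Finset.card_le_card
      intro x hx
      rw [Finset.mem_filter] at hx
      rw [Finset.mem_filter]
      exact ⟨(Finset.mem_filter.1 hx.1).1, hx.2⟩
    rw [h2, Nat.zero_mod]
  · refine card_modEq ((g : Perm GolayPt) ^ a) Δ hb (pow_inv hinv a) ?_
    intro x _
    rw [← pow_mul, hg, Perm.one_apply]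

theorem card_14 {g : M24} (h : orderOf g = 14) (hg : (g : Perm GolayPt) none = none) {Δ : Finset GolayPt}
    (hn : none ∉ Δ) (hinv : ∀ x ∈ Δ, (g : Perm GolayPt) x ∈ Δ) :
    Δ.card % 14 = 0 ∨ Δ.card % 14 = 2 ∨ Δ.card % 14 = 7 ∨ Δ.card % 14 = 9 := by
  have h1 : fx (g : Perm GolayPt) < 2 := by
    by_contra hc
    exact H19.Cyc.no14 g (not_lt.1 hc) h
  have h0 : (Δ.filter fun x => (g : Perm GolayPt) x = x).card = 0 := by
    have := filter_le hn hg
    omega
  have h2 := four (a := 2) (b := 7) (by norm_num) (by norm_num) h hinv h0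
  have h3 := four (a := 7) (b := 2) (by norm_num) (by norm_num) h hinv h0
  have h4 := filter_le hn (pow_none hg 2)
  have h5 := filter_le hn (pow_none hg 7)
  have h6 := H19.Cyc.v2 h (d := 7) (by norm_num) (by norm_num)
  have h7 := H19.Cyc.v7 h (d := 2) (by norm_num) (by norm_num)
  have c1 : (Δ.filter fun x => ((g : Perm GolayPt) ^ 2) x = x).card = 0 ∨
      (Δ.filter fun x => ((g : Perm GolayPt) ^ 2) x = x).card = 2 := by (clear * - h2 h4 h7; omega)
  have c2 : (Δ.filter fun x => ((g : Perm GolayPt) ^ 7) x = x).card = 0 ∨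
      (Δ.filter fun x => ((g : Perm GolayPt) ^ 7) x = x).card = 7 := by (clear * - h3 h5 h6; omega)
  obtain ⟨-, h2⟩ := h2
  obtain ⟨-, h3⟩ := h3
  clear h4 h5 h6 h7 h0 h1
  rcases c1 with c1 | c1 <;> rcases c2 with c2 | c2 <;> rw [c1] at h2 <;> rw [c2] at h3 <;> (clear * - h2; omega)

theorem card_15 {g : M24} (h : orderOf g = 15) (hg : (g : Perm GolayPt) none = none) {Δ : Finset GolayPt}
    (hn : none ∉ Δ) (hinv : ∀ x ∈ Δ, (g : Perm GolayPt) x ∈ Δ) :
    Δ.card % 15 = 0 ∨ Δ.card % 15 = 3 ∨ Δ.card % 15 = 5 ∨ Δ.card % 15 = 8 := by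
  have h1 : fx (g : Perm GolayPt) < 2 := by
    by_contra hc
    exact H19.Cyc.no15 g (not_lt.1 hc) h
  have h0 : (Δ.filter fun x => (g : Perm GolayPt) x = x).card = 0 := by
    have := filter_le hn hg
    omega
  have h2 := four (a := 3) (b := 5) (by norm_num) (by norm_num) h hinv h0
  have h3 := four (a := 5) (b := 3) (by norm_num) (by norm_num) h hinv h0
  have h4 := filter_le hn (pow_none hg 3)
  have h5 := filter_le hn (pow_none hg 5)
  have h6 := H19.Cyc.v3 h (d := 5) (by norm_num) (by norm_num)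
  have h7 := H19.Cyc.v5 h (d := 3) (by norm_num) (by norm_num)
  have c1 : (Δ.filter fun x => ((g : Perm GolayPt) ^ 3) x = x).card = 0 ∨
      (Δ.filter fun x => ((g : Perm GolayPt) ^ 3) x = x).card = 3 := by (clear * - h2 h4 h7; omega)
  have c2 : (Δ.filter fun x => ((g : Perm GolayPt) ^ 5) x = x).card = 0 ∨
      (Δ.filter fun x => ((g : Perm GolayPt) ^ 5) x = x).card = 5 := by (clear * - h3 h5 h6; omega)
  obtain ⟨-, h2⟩ := h2
  obtain ⟨-, h3⟩ := h3
  clear h4 h5 h6 h7 h0 h1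
  rcases c1 with c1 | c1 <;> rcases c2 with c2 | c2 <;> rw [c1] at h2 <;> rw [c2] at h3 <;> omega

theorem card_pt' {Δ : Finset GolayPt} (hn : none ∉ Δ) : Δ.card ≤ 23 := by
  have h1 : (insert none Δ).card ≤ Fintype.card GolayPt := Finset.card_le_univ _
  rw [Finset.card_insert_of_notMem hn, H19.Cyc.card_pt] at h1
  omega

/-- a subgroup of `M23` with elements of order 14 and 15 is transitive -/
theorem m23_trans {R : Subgroup Spor.M23} {x y : Spor.M23} (hx : x ∈ R) (hy : y ∈ R) (hx14 : orderOf x = 14)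
    (hy15 : orderOf y = 15) : 23 ∣ Nat.card R := by
  classical
  have hfin : Finite Spor.M23 := Nat.finite_of_card_ne_zero (by rw [NotCT.Orders.m23 ⟨MulEquiv.refl _⟩]; norm_num)
  have hnone : ∀ z : Spor.M23, (z : Perm GolayPt) none = none := fun z => z.2.2
  let Δ : Finset GolayPt := Finset.univ.filter fun q => ∃ r ∈ R, (r : Perm GolayPt) (some 0) = q
  have hmem : ∀ q, q ∈ Δ ↔ ∃ r ∈ R, (r : Perm GolayPt) (some 0) = q := fun q => by
    simp only [Δ, Finset.mem_filter, Finset.mem_univ, true_and]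
  have hn : none ∉ Δ := by
    rw [hmem]
    rintro ⟨r, -, hr⟩
    have h1 := hnone r
    rw [← h1] at hr
    exact absurd ((r : Perm GolayPt).injective hr) (by simp)
  have hinv : ∀ z ∈ R, ∀ q ∈ Δ, (z : Perm GolayPt) q ∈ Δ := by
    intro z hz q hq
    obtain ⟨r, hr, rfl⟩ := (hmem q).1 hq
    exact (hmem _).2 ⟨z * r, R.mul_mem hz hr, rfl⟩
  have h0 : (some 0 : GolayPt) ∈ Δ := (hmem _).2 ⟨1, R.one_mem, rfl⟩
  have hpos : 0 < Δ.card := Finset.card_pos.2 ⟨_, h0⟩
  have hle := card_pt' hn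
  have h1 := card_14 (g := ⟨x.1, x.2.1⟩) (by rw [Subgroup.orderOf_mk, Subgroup.orderOf_coe, hx14]) (hnone x) hn (hinv x hx)
  have h2 := card_15 (g := ⟨y.1, y.2.1⟩) (by rw [Subgroup.orderOf_mk, Subgroup.orderOf_coe, hy15]) (hnone y) hn (hinv y hy)
  have h23 : Δ.card = 23 := by omega
  have horb : (MulAction.orbit R (some 0 : GolayPt)) = (Δ : Set GolayPt) := by
    ext q
    rw [Finset.mem_coe, hmem, MulAction.mem_orbit_iff]
    constructor
    · rintro ⟨r, hr⟩
      exact ⟨r.1, r.2, hr⟩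
    · rintro ⟨r, hr, hq⟩
      exact ⟨⟨r, hr⟩, hq⟩
  have h3 : Nat.card (MulAction.orbit R (some 0 : GolayPt)) = 23 := by
    rw [horb, Nat.card_coe_set_eq, Set.ncard_coe_finset]
    exact h23
  have h4 := Nat.card_congr (MulAction.orbitProdStabilizerEquivGroup R (some 0 : GolayPt))
  rw [Nat.card_prod] at h4
  exact Dvd.intro _ ((congrArg (· * _) h3.symm).trans h4)

noncomputable def e14 : M24 := mk 972624105726399355048898354068570766 (by decide +kernel)
noncomputable def e15 : M24 := mk 973649056260225833675278779119046983 (by decide +kernel)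

theorem o14 : orderOf e14 = 14 := orderOf_tab (isTab_mk _ _) (by decide +kernel)
theorem o15 : orderOf e15 = 15 := orderOf_tab (isTab_mk _ _) (by decide +kernel)

theorem fix_none {P : ℕ} (h : (isPerm P && isAut P) = true) (hP : papp P 23 = 23) :
    (mk P h : Perm GolayPt) none = none := by
  apply SporadicA.GolayBase.idx_injective
  rw [isTab_mk P h none]
  exact hP

theorem f14 : (e14 : Perm GolayPt) none = none := fix_none _ (by decide +kernel)

theorem f15 : (e15 : Perm GolayPt) none = none := fix_none _ (by decide +kernel)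

theorem not_order_m23 {k : ℕ} (hk : k ∉ ([1, 2, 3, 4, 5, 6, 7, 8, 10, 11, 12, 14, 15, 21, 23] : List ℕ))
    (z : Spor.M23) : orderOf z ≠ k := by
  rintro rfl
  have h := H19.Cyc.m24_orders ⟨z.1, z.2.1⟩
  rw [Subgroup.orderOf_mk, Subgroup.orderOf_coe] at h
  exact hk h

theorem noTwo_m23 (tab : OrderTable.{0}) (known : Known.{0}) {T : Type u} [Group T] (h : Spor.IsoM23 T) :
    NoTwo T := by
  obtain ⟨e⟩ := h
  refine NoTwo.congr ?_ e.symm
  have hN : Nat.card Spor.M23 = 10200960 := NotCT.Orders.m23 ⟨MulEquiv.refl _⟩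
  have hfin : Finite Spor.M23 := Nat.finite_of_card_ne_zero (by rw [hN]; norm_num)
  have hiso : Isol Spor.M23 23 := by
    intro p hp _
    refine not_order_m23 ?_
    intro hc
    have h2 := hp.two_le
    simp only [List.mem_cons, List.not_mem_nil, or_false] at hc
    omega
  have h1 : OInc Spor.M23 23 14 := oinc_of_chkI tab known (l := [(2, 7), (3, 2), (5, 1), (7, 1), (11, 1), (23, 1)]) []
    hN (by norm_num) hiso (by decide +kernel) (by simp only [_root_.List.not_mem_nil, _root_.ne_eq, _root_.IsEmpty.forall_iff, _root_.implies_true])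
  have h2 : OInc Spor.M23 23 15 := oinc_of_chkI tab known (l := [(2, 7), (3, 2), (5, 1), (7, 1), (11, 1), (23, 1)]) []
    hN (by norm_num) hiso (by decide +kernel) (by simp only [_root_.List.not_mem_nil, _root_.ne_eq, _root_.IsEmpty.forall_iff, _root_.implies_true])
  refine noTwo_of_orders (a := 23) (b := 14) (c := 15) (exists_of_prime_dvd (by norm_num) (by rw [hN]; norm_num))
    ⟨⟨e14, e14.2, f14⟩, ?_⟩ ⟨⟨e15, e15.2, f15⟩, ?_⟩ h1 ?_ h2
  · rw [← Subgroup.orderOf_coe]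
    change orderOf (e14 : Perm GolayPt) = 14
    rw [Subgroup.orderOf_coe, o14]
  · rw [← Subgroup.orderOf_coe]
    change orderOf (e15 : Perm GolayPt) = 15
    rw [Subgroup.orderOf_coe, o15]
  · intro R hR x hx y hy h14 h15
    have h3 := m23_trans hx hy h14 h15
    obtain ⟨z, hz⟩ := exists_of_prime_dvd (T := R) (by norm_num) h3
    exact h1 R hR z.1 z.2 x hx (by rw [Subgroup.orderOf_coe, hz]) h14

end Cfsg.Agent.H257.Cov.Row
end

-- part: H257/Cov/Row/M24
section
/-!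
# S2499 (normal 2-coverings): `M24` (orders 23, 21, 10)
-/

set_option autoImplicit false

namespace Cfsg.Agent.H257.Cov.Row

open Cfsg Cfsg.Agent.OrdDiv Cfsg.Agent.H278.Cov Cfsg.Agent.H257.El Cfsg.Agent.H257.Cov
open Equiv Equiv.Perm
open Cfsg.Agent.H866.InvolType (fx)
open Cfsg.Agent.J4Type.CocodeMask
open Cfsg.Agent.SporadicA.GolayPerm (isPerm isAut papp)
open Cfsg.Agent.H180.KMathieu (orderOf_tab ordOk)
open Cfsg.Agent.H257.Cov.Tr

universe u

theorem card_M24 : Nat.card M24 = 244823040 := NotCT.Orders.m24 ⟨MulEquiv.refl _⟩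

/-- `B` normal in a transitive subgroup `R` of order divisible by 35 -/
theorem normal24 {R : Subgroup M24} (htr : ∀ x y : GolayPt, ∃ r ∈ R, (r : Perm GolayPt) x = y) {u v : M24}
    (hu : u ∈ R) (hv : v ∈ R) (hu7 : orderOf u = 7) (hv5 : orderOf v = 5) (B : Subgroup R) [hB : B.Normal]
    (hBb : B ≠ ⊥) : ∃ S : Subgroup M24, 24 * Nat.card S = Nat.card B := by
  let R' : Subgroup (Perm GolayPt) := R.map M24.subtype
  let A : Subgroup (Perm GolayPt) := (B.map R.subtype).map M24.subtype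
  have hcA : Nat.card A = Nat.card B := by
    rw [Subgroup.card_map_of_injective M24.subtype_injective, Subgroup.card_map_of_injective R.subtype_injective]
  have hn : ∀ r ∈ R', ∀ a ∈ A, r * a * r⁻¹ ∈ A := by
    rintro _ ⟨r, hr, rfl⟩ _ ⟨_, ⟨b, hb, rfl⟩, rfl⟩
    refine ⟨_, ⟨_, hB.conj_mem b hb ⟨r, hr⟩, rfl⟩, ?_⟩
    simp only [_root_.Subgroup.subtype_apply, _root_.Subgroup.coe_mul, _root_.InvMemClass.coe_inv]
  have htr' : ∀ x y : GolayPt, ∃ r ∈ R', r x = y := by
    intro x y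
    obtain ⟨r, hr, h⟩ := htr x y
    exact ⟨_, ⟨r, hr, rfl⟩, h⟩
  have hd : ∀ x, (orb A x).card = (orb A none).card := fun x => card_orb_of_norm htr' hn x none
  have hd0 : 0 < (orb A none).card := orb_pos A none
  have hdv : (orb A none).card ∣ 24 := by
    rw [← H19.Cyc.card_pt]
    exact Dvd.intro_left _ (card_orbits hd)
  have f7 := fix_ge hd hd0 (w := (u : Perm GolayPt)) (p := 7) (by norm_num)
    (by rw [← hu7, ← Subgroup.orderOf_coe, pow_orderOf_eq_one]) (hn _ ⟨u, hu, rfl⟩)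
  have f5 := fix_ge hd hd0 (w := (v : Perm GolayPt)) (p := 5) (by norm_num)
    (by rw [← hv5, ← Subgroup.orderOf_coe, pow_orderOf_eq_one]) (hn _ ⟨v, hv, rfl⟩)
  have g7 : (Finset.univ.filter fun x => (u : Perm GolayPt) x = x).card = 3 :=
    H180.MEl.fx7 u.2 (by rw [Subgroup.orderOf_coe, hu7])
  have g5 : (Finset.univ.filter fun x => (v : Perm GolayPt) x = x).card = 4 :=
    H180.MEl.fx5 v.2 (by rw [Subgroup.orderOf_coe, hv5])
  have h7 : (24 / (orb A none).card % 7) * ((orb A none).card % 7) ≤ 3 := by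
    rw [← g7]
    refine le_trans (le_of_eq ?_) (f7.trans (le_of_eq ?_))
    · rw [H19.Cyc.card_pt]
    · congr!
  have h5 : (24 / (orb A none).card % 5) * ((orb A none).card % 5) ≤ 4 := by
    rw [← g5]
    refine le_trans (le_of_eq ?_) (f5.trans (le_of_eq ?_))
    · rw [H19.Cyc.card_pt]
    · congr!
  have h24 : (orb A none).card = 24 := by
    have h1 : (orb A none).card ∈ Nat.divisors 24 := Nat.mem_divisors.2 ⟨hdv, by norm_num⟩
    have h2 : (orb A none).card ≠ 1 := by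
      intro h2
      apply hBb
      have h3 : A = ⊥ := eq_bot_of_card_orb (fun x => (hd x).trans h2)
      rw [← Subgroup.card_eq_one, ← hcA, h3, Subgroup.card_bot]
    rw [show Nat.divisors 24 = {1, 2, 3, 4, 6, 8, 12, 24} by decide] at h1
    simp only [Finset.mem_insert, Finset.mem_singleton] at h1
    rcases h1 with h1 | h1 | h1 | h1 | h1 | h1 | h1 | h1
    · exact absurd h1 h2
    all_goals first
      | exact h1
      | (exfalso; rw [h1] at h7; revert h7; decide)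
      | (exfalso; rw [h1] at h5; revert h5; decide)
  have h3 := card_orb_mul A none
  rw [h24, hcA] at h3
  refine ⟨((MulAction.stabilizer A (none : GolayPt)).map A.subtype).comap M24.subtype, ?_⟩
  rw [← h3]
  congr 1
  have h4 : ((MulAction.stabilizer A (none : GolayPt)).map A.subtype) ≤ M24 := by
    rintro _ ⟨a, -, rfl⟩
    obtain ⟨b, -, hb⟩ := a.2
    have : ((A.subtype) a) = (b : Perm GolayPt) := hb.symm
    rw [this]
    exact b.2
  rw [← Subgroup.card_map_of_injective A.subtype_injective]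
  exact Nat.card_congr (Subgroup.subgroupOfEquivOfLe h4).toEquiv

theorem not_order_m24 {k : ℕ} (hk : k ∉ ([1, 2, 3, 4, 5, 6, 7, 8, 10, 11, 12, 14, 15, 21, 23] : List ℕ))
    (z : M24) : orderOf z ≠ k := by
  rintro rfl
  exact hk (H19.Cyc.m24_orders z)

/-- the factorisation of `|M24|` -/
abbrev l24 : List (ℕ × ℕ) := [(2, 10), (3, 3), (5, 1), (7, 1), (11, 1), (23, 1)]

/-- **a transitive proper subgroup of `M24` of order divisible by 35 has order divisible by 11 or 23** -/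
theorem no_trans35 (tab : OrderTable.{0}) (known : Known.{0}) {R : Subgroup M24} (hR : R ≠ ⊤)
    (htr : ∀ x y : GolayPt, ∃ r ∈ R, (r : Perm GolayPt) x = y) (h5 : 5 ∣ Nat.card R) (h7 : 7 ∣ Nat.card R)
    (h11 : ¬ 11 ∣ Nat.card R) (h23 : ¬ 23 ∣ Nat.card R) : False := by
  have hfin : Finite M24 := Nat.finite_of_card_ne_zero (by rw [card_M24]; norm_num)
  obtain ⟨u', hu'⟩ := exists_of_prime_dvd (T := R) (by norm_num) h7
  obtain ⟨v', hv'⟩ := exists_of_prime_dvd (T := R) (by norm_num) h5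
  have key := fun (B : Subgroup R) (hB : B.Normal) (hBb : B ≠ ⊥) => normal24 htr u'.2 v'.2
    (by rw [Subgroup.orderOf_coe, hu']) (by rw [Subgroup.orderOf_coe, hv']) B hBb
  have h35 : ∀ s ∈ [5], s.Prime ∧ ∀ z : M24, orderOf z ≠ 7 * s := by
    intro s hs
    rw [List.mem_singleton] at hs
    subst hs
    exact ⟨by norm_num, not_order_m24 (by decide)⟩
  obtain ⟨S, O, hO, N, h, hcO, hcN, hna, g, hg, -, hgc⟩ := exists_surv_ex tab known (l := l24) (r := 7) [5]
    card_M24 (by norm_num) h35 (by decide +kernel) hR h7 (by simpa only [_root_.List.mem_cons, _root_.List.not_mem_nil, _root_.or_false, _root_.forall_eq] using h5)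
  -- the core is trivial
  have hOb : O = ⊥ := by
    have hd : Nat.card O ∣ 2 ^ 10 * 3 ^ 3 := by
      have h1 : Nat.card O ∣ (2 ^ 10 * 3 ^ 3) * (5 * 7 * 11 * 23) := by
        have := (O.card_subgroup_dvd_card).trans ((Subgroup.card_subgroup_dvd_card R))
        rw [card_M24] at this
        exact this
      have n5 : ¬ 5 ∣ Nat.card O := hcO 5 (by simp)
      have n7 : ¬ 7 ∣ Nat.card O := h.core
      have n11 : ¬ 11 ∣ Nat.card O := fun hd => h11 (hd.trans O.card_subgroup_dvd_card)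
      have n23 : ¬ 23 ∣ Nat.card O := fun hd => h23 (hd.trans O.card_subgroup_dvd_card)
      refine Nat.Coprime.dvd_of_dvd_mul_right ?_ h1
      refine Nat.Coprime.mul_right (Nat.Coprime.mul_right (Nat.Coprime.mul_right ?_ ?_) ?_) ?_
      · exact ((Nat.Prime.coprime_iff_not_dvd (by norm_num)).2 n5).symm
      · exact ((Nat.Prime.coprime_iff_not_dvd (by norm_num)).2 n7).symm
      · exact ((Nat.Prime.coprime_iff_not_dvd (by norm_num)).2 n11).symm
      · exact ((Nat.Prime.coprime_iff_not_dvd (by norm_num)).2 n23).symm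
    obtain ⟨y, z, hy, hz, hyz⟩ := (Nat.dvd_mul).1 hd
    obtain ⟨a, -, rfl⟩ := (Nat.dvd_prime_pow Nat.prime_two).1 hy
    obtain ⟨b, -, rfl⟩ := (Nat.dvd_prime_pow Nat.prime_three).1 hz
    have hsol : Group.IsSolvable O := S0144.result 2 3 a b Nat.prime_two Nat.prime_three hyz.symm
    refine no_solvable (p := 2) (q := 3) Nat.prime_two Nat.prime_three (by norm_num) (fun B hB hBb => ?_) O
    obtain ⟨S', hS'⟩ := key B hB hBb
    rw [← hS']
    exact ⟨(by norm_num : (2 : ℕ) ∣ 24).mul_right _, (by norm_num : (3 : ℕ) ∣ 24).mul_right _⟩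
  subst hOb
  -- the simple normal subgroup
  have hNn := h.normal
  let B : Subgroup R := N.comap (QuotientGroup.mk' ⊥)
  have hBc : Nat.card B = Nat.card N := by
    have h1 := Subgroup.index_comap_of_surjective N (QuotientGroup.mk'_surjective (⊥ : Subgroup R))
    have h2 := B.card_mul_index
    have h3 := N.card_mul_index
    have h4 : Nat.card (R ⧸ (⊥ : Subgroup R)) = Nat.card R := by
      have := Subgroup.card_eq_card_quotient_mul_card_subgroup (⊥ : Subgroup R)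
      rw [Subgroup.card_bot, mul_one] at this
      exact this.symm
    rw [h4, ← h1] at h3
    have h5 : 0 < B.index := Nat.pos_of_ne_zero Subgroup.index_ne_zero_of_finite
    exact Nat.eq_of_mul_eq_mul_right h5 (h2.trans h3.symm)
  have hBb : B ≠ ⊥ := by
    intro hb
    have h1 := h.dvd
    rw [← hBc, hb, Subgroup.card_bot] at h1
    exact absurd h1 (by norm_num)
  obtain ⟨U, hU⟩ := key B inferInstance hBb
  have hnum : ((surv 244823040 l24 7 [5]).all fun g => (ordN g % 11 == 0) || (decide (ordN g ≤ 20160) &&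
      decide (2520 ≤ ordN g) && (ordN g % 5 == 0) && (ordN g % 7 == 0))) = true := by decide +kernel
  rw [List.all_eq_true] at hnum
  have h1 := hnum g hg
  rw [← hgc] at h1
  simp only [Bool.or_eq_true, Bool.and_eq_true, decide_eq_true_eq, beq_iff_eq] at h1
  rcases h1 with h1 | ⟨⟨⟨h1, -⟩, h2⟩, h3⟩
  · apply h11
    refine (Nat.dvd_of_mod_eq_zero h1).trans ?_
    rw [← hBc]
    exact B.card_subgroup_dvd_card
  · have hU5 : 5 ∣ Nat.card U := by
      have h4 : 5 ∣ 24 * Nat.card U := by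
        rw [hU, hBc]
        exact Nat.dvd_of_mod_eq_zero h2
      exact Nat.Coprime.dvd_of_dvd_mul_left (by norm_num) h4
    have hU7 : 7 ∣ Nat.card U := by
      have h4 : 7 ∣ 24 * Nat.card U := by
        rw [hU, hBc]
        exact Nat.dvd_of_mod_eq_zero h3
      exact Nat.Coprime.dvd_of_dvd_mul_left (by norm_num) h4
    have hUle : Nat.card U ≤ 840 := by
      have h4 : 24 * Nat.card U ≤ 20160 := by rw [hU, hBc]; exact h1
      (clear * - hBc hU h1; omega)
    have hUt : U ≠ ⊤ := by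
      rintro rfl
      rw [Subgroup.card_top, card_M24] at hUle
      omega
    obtain ⟨S2, O2, hO2, N2, t2, -, -, -, g2, hg2, -, hgc2⟩ := exists_surv_ex tab known (l := l24) (r := 7) [5]
      card_M24 (by norm_num) h35 (by decide +kernel) hUt hU7 (by simpa only [_root_.List.mem_cons, _root_.List.not_mem_nil, _root_.or_false, _root_.forall_eq] using hU5)
    have hnum2 : ((surv 244823040 l24 7 [5]).all fun g => decide (2520 ≤ ordN g)) = true := by decide +kernel
    rw [List.all_eq_true] at hnum2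
    have h4 := hnum2 g2 hg2
    rw [decide_eq_true_eq, ← hgc2] at h4
    have h5 : Nat.card N2 ∣ Nat.card U :=
      (N2.card_subgroup_dvd_card).trans (Subgroup.card_quotient_dvd_card O2)
    have h6 := Nat.le_of_dvd Nat.card_pos h5
    (clear * - hBc hU h1 h4 h6; omega)

/-! ### elements of order 21 and 10 -/

theorem fx_21 {g : M24} (h : orderOf g = 21) : fx ((g : Perm GolayPt) ^ 7) = 0 := by
  obtain ⟨c, c1, hc, -⟩ := H19.Cyc.base g h
  have e1 := hc 1
  have e2 := hc 7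
  have e3 := hc 3
  have w2 := H19.Cyc.v3 h (d := 7) (by norm_num) (by norm_num)
  have w3 := H19.Cyc.v7 h (d := 3) (by norm_num) (by norm_num)
  rw [show Nat.divisors 21 = {1, 3, 7, 21} by decide] at e1 e2 e3
  simp +decide only [Finset.sum_insert, Finset.sum_singleton, Finset.mem_insert, Finset.mem_singleton, if_true, if_false,
    c1] at e1 e2 e3
  rw [pow_one] at e1
  omega

theorem fx_10 {g : M24} (h : orderOf g = 10) : fx ((g : Perm GolayPt) ^ 5) = 0 := by
  obtain ⟨c, c1, hc, -⟩ := H19.Cyc.base g h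
  have e1 := hc 1
  have e2 := hc 5
  have e3 := hc 2
  have w2 := H19.Cyc.v2 h (d := 5) (by norm_num) (by norm_num)
  have w3 := H19.Cyc.v5 h (d := 2) (by norm_num) (by norm_num)
  rw [show Nat.divisors 10 = {1, 2, 5, 10} by decide] at e1 e2 e3
  simp +decide only [Finset.sum_insert, Finset.sum_singleton, Finset.mem_insert, Finset.mem_singleton, if_true, if_false,
    c1] at e1 e2 e3
  rw [pow_one] at e1
  omega

theorem filter_le' (σ : Perm GolayPt) (Δ : Finset GolayPt) : (Δ.filter fun x => σ x = x).card ≤ fx σ :=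
  Finset.card_le_card (Finset.filter_subset_filter _ (Finset.subset_univ _))

theorem card_21 {g : M24} (h : orderOf g = 21) {Δ : Finset GolayPt}
    (hinv : ∀ x ∈ Δ, (g : Perm GolayPt) x ∈ Δ) : Δ.card % 3 = 0 ∧ (Δ.card % 7 = 0 ∨ Δ.card % 7 = 3) := by
  have h7 := filter_le' ((g : Perm GolayPt) ^ 7) Δ
  rw [fx_21 h] at h7
  have h1 : (Δ.filter fun x => (g : Perm GolayPt) x = x).card = 0 := by
    apply Nat.le_zero.1
    refine le_trans (Finset.card_le_card ?_) h7
    intro x hx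
    rw [Finset.mem_filter] at hx ⊢
    refine ⟨hx.1, ?_⟩
    have : ∀ n : ℕ, ((g : Perm GolayPt) ^ n) x = x := by
      intro n
      induction n with
      | zero => rfl
      | succ n ih => rw [pow_succ, Perm.mul_apply, hx.2, ih]
    exact this 7
  have h2 := four (a := 3) (b := 7) (by norm_num) (by norm_num) h hinv h1
  have h3 := four (a := 7) (b := 3) (by norm_num) (by norm_num) h hinv h1
  have h4 := filter_le' ((g : Perm GolayPt) ^ 3) Δ
  have h5 := H19.Cyc.v7 h (d := 3) (by norm_num) (by norm_num)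
  rw [h5] at h4
  have h6 : (Δ.filter fun x => ((g : Perm GolayPt) ^ 7) x = x).card = 0 := Nat.le_zero.1 h7
  rw [h6] at h3
  refine ⟨by (clear * - h3; omega), ?_⟩
  have h8 : (Δ.filter fun x => ((g : Perm GolayPt) ^ 3) x = x).card = 0 ∨
      (Δ.filter fun x => ((g : Perm GolayPt) ^ 3) x = x).card = 3 := by (clear * - h2 h4; omega)
  rcases h8 with h8 | h8 <;> rw [h8] at h2 <;> omega

theorem card_10 {g : M24} (h : orderOf g = 10) {Δ : Finset GolayPt}
    (hinv : ∀ x ∈ Δ, (g : Perm GolayPt) x ∈ Δ) : Δ.card % 2 = 0 := by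
  have h7 := filter_le' ((g : Perm GolayPt) ^ 5) Δ
  rw [fx_10 h] at h7
  have h1 : (Δ.filter fun x => (g : Perm GolayPt) x = x).card = 0 := by
    apply Nat.le_zero.1
    refine le_trans (Finset.card_le_card ?_) h7
    intro x hx
    rw [Finset.mem_filter] at hx ⊢
    refine ⟨hx.1, ?_⟩
    have : ∀ n : ℕ, ((g : Perm GolayPt) ^ n) x = x := by
      intro n
      induction n with
      | zero => rfl
      | succ n ih => rw [pow_succ, Perm.mul_apply, hx.2, ih]
    exact this 5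
  have h3 := four (a := 5) (b := 2) (by norm_num) (by norm_num) h hinv h1
  rw [Nat.le_zero.1 h7] at h3
  omega

/-- a subgroup of `M24` with elements of order 21 and 10 is transitive -/
theorem m24_trans {R : Subgroup M24} {x y : M24} (hx : x ∈ R) (hy : y ∈ R) (hx21 : orderOf x = 21)
    (hy10 : orderOf y = 10) (p q : GolayPt) : ∃ r ∈ R, (r : Perm GolayPt) p = q := by
  classical
  let Δ : Finset GolayPt := Finset.univ.filter fun q => ∃ r ∈ R, (r : Perm GolayPt) p = q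
  have hmem : ∀ q, q ∈ Δ ↔ ∃ r ∈ R, (r : Perm GolayPt) p = q := fun q => by
    simp only [Δ, Finset.mem_filter, Finset.mem_univ, true_and]
  have hinv : ∀ z ∈ R, ∀ q ∈ Δ, (z : Perm GolayPt) q ∈ Δ := by
    intro z hz q hq
    obtain ⟨r, hr, rfl⟩ := (hmem q).1 hq
    exact (hmem _).2 ⟨z * r, R.mul_mem hz hr, rfl⟩
  have h0 : p ∈ Δ := (hmem _).2 ⟨1, R.one_mem, rfl⟩
  have hpos : 0 < Δ.card := Finset.card_pos.2 ⟨_, h0⟩
  have hle : Δ.card ≤ 24 := by
    have := Finset.card_le_univ Δ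
    rwa [H19.Cyc.card_pt] at this
  have h1 := card_21 hx21 (hinv x hx)
  have h2 := card_10 hy10 (hinv y hy)
  have h24 : Δ.card = 24 := by omega
  have h3 : Δ = Finset.univ := Finset.eq_univ_of_card _ (h24.trans H19.Cyc.card_pt.symm)
  exact (hmem q).1 (h3 ▸ Finset.mem_univ q)

noncomputable def e21 : M24 := mk 609452581379389964312662400893066593 (by decide +kernel)
noncomputable def e10 : M24 := mk 265029068334931094912267725692984324 (by decide +kernel)

theorem o21 : orderOf e21 = 21 := orderOf_tab (isTab_mk _ _) (by decide +kernel)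
theorem o10 : orderOf e10 = 10 := orderOf_tab (isTab_mk _ _) (by decide +kernel)

theorem isol_m24 {r : ℕ} (hr : r = 11 ∨ r = 23) : Isol M24 r := by
  intro p hp _
  refine not_order_m24 ?_
  intro hc
  have h2 := hp.two_le
  simp only [List.mem_cons, List.not_mem_nil, or_false] at hc
  rcases hr with rfl | rfl <;> omega

/-- `M22` and `M23` have no elements of order 21; `M23` has none of order 10 -/
theorem no21_m23 {X : Type*} [Group X] (h : Spor.IsoM23 X) (x : X) : orderOf x ≠ 21 := by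
  obtain ⟨e⟩ := h
  intro hx
  have h1 : orderOf (e x) = 21 := by rw [← hx]; exact orderOf_injective e.toMonoidHom e.injective x
  have h2 : orderOf (⟨(e x).1, (e x).2.1⟩ : M24) = 21 := by rw [Subgroup.orderOf_mk, Subgroup.orderOf_coe, h1]
  have h3 := card_21 h2 (Δ := {none}) (by
    intro y hy
    rw [Finset.mem_singleton] at hy ⊢
    rw [hy]
    exact (e x).2.2)
  simp at h3

theorem no10_m23 {X : Type*} [Group X] (h : Spor.IsoM23 X) (x : X) : orderOf x ≠ 10 := by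
  obtain ⟨e⟩ := h
  intro hx
  have h1 : orderOf (e x) = 10 := by rw [← hx]; exact orderOf_injective e.toMonoidHom e.injective x
  have h2 : orderOf (⟨(e x).1, (e x).2.1⟩ : M24) = 10 := by rw [Subgroup.orderOf_mk, Subgroup.orderOf_coe, h1]
  have h3 := card_10 h2 (Δ := {none}) (by
    intro y hy
    rw [Finset.mem_singleton] at hy ⊢
    rw [hy]
    exact (e x).2.2)
  simp at h3

theorem no21_m22 {X : Type*} [Group X] (h : Spor.IsoM22 X) (x : X) : orderOf x ≠ 21 := by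
  obtain ⟨e⟩ := h
  intro hx
  have h1 : orderOf (e x) = 21 := by rw [← hx]; exact orderOf_injective e.toMonoidHom e.injective x
  have h2 : orderOf (⟨(e x).1, (e x).2.1.1⟩ : M24) = 21 := by rw [Subgroup.orderOf_mk, Subgroup.orderOf_coe, h1]
  have h3 := card_21 h2 (Δ := {none}) (by
    intro y hy
    rw [Finset.mem_singleton] at hy ⊢
    rw [hy]
    exact (e x).2.1.2)
  simp at h3

theorem noTwo_m24 (tab : OrderTable.{0}) (known : Known.{0}) {T : Type u} [Group T] (h : Spor.IsoM24 T) :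
    NoTwo T := by
  obtain ⟨e⟩ := h
  refine NoTwo.congr ?_ e.symm
  have hfin : Finite M24 := Nat.finite_of_card_ne_zero (by rw [card_M24]; norm_num)
  have h1 : OInc M24 23 21 := oinc_of_chkI tab known (l := l24) [.m23]
    card_M24 (by norm_num) (isol_m24 (by norm_num)) (by decide +kernel) (by
      intro g hg X _ _ hX
      rw [List.mem_singleton] at hg
      subst hg
      exact no21_m23 hX)
  have h2 : OInc M24 23 10 := oinc_of_chkI tab known (l := l24) [.m23]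
    card_M24 (by norm_num) (isol_m24 (by norm_num)) (by decide +kernel) (by
      intro g hg X _ _ hX
      rw [List.mem_singleton] at hg
      subst hg
      exact no10_m23 hX)
  have h3 : OInc M24 11 21 := oinc_of_chkI tab known (l := l24) [.m22, .m23]
    card_M24 (by norm_num) (isol_m24 (by norm_num)) (by decide +kernel) (by
      intro g hg X _ _ hX
      simp only [List.mem_cons, List.not_mem_nil, or_false] at hg
      rcases hg with rfl | rfl
      · exact no21_m22 hX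
      · exact no21_m23 hX)
  refine noTwo_of_orders (a := 23) (b := 21) (c := 10)
    (exists_of_prime_dvd (by norm_num) (by rw [card_M24]; norm_num)) ⟨e21, o21⟩ ⟨e10, o10⟩ h1 ?_ h2
  intro R hR x hx y hy hx21 hy10
  refine no_trans35 tab known hR (m24_trans hx hy hx21 hy10) ?_ ?_ ?_ ?_
  · have := Subgroup.orderOf_dvd_natCard R hy
    rw [hy10] at this
    exact (by norm_num : (5 : ℕ) ∣ 10).trans this
  · have := Subgroup.orderOf_dvd_natCard R hx
    rw [hx21] at this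
    exact (by norm_num : (7 : ℕ) ∣ 21).trans this
  · intro h11
    obtain ⟨z, hz⟩ := exists_of_prime_dvd (T := R) (by norm_num) h11
    exact h3 R hR z.1 z.2 x hx (by rw [Subgroup.orderOf_coe, hz]) hx21
  · intro h23
    obtain ⟨z, hz⟩ := exists_of_prime_dvd (T := R) (by norm_num) h23
    exact h1 R hR z.1 z.2 x hx (by rw [Subgroup.orderOf_coe, hz]) hx21

end Cfsg.Agent.H257.Cov.Row
end

-- part: H348/Cov/MTwPerm
section
/-!
# S2499 (normal 2-coverings), `M₁₂`: permutations of twelve points (helper348)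

`φ : T → Sym(12)` such that only `1` fixes five points.
* `TyB σ` : cycle type `1, 1, 2, 8`; `TyZ σ` : cycle type `2, 10`; `TyX σ` : cycle type `1, 11`;
* `stab_pair` : a subgroup `R` of order prime to `11` with elements of types `TyB`, `TyZ` stabilises a pair;
* `fix_or` : a subgroup with elements of types `TyX`, `TyB` fixes a point or has order divisible by `1056`.
-/

set_option autoImplicit false

universe u

namespace Cfsg.Agent.H348.Cov.MTw

open Subgroup

/-- cycle type `1, 1, 2, 8` -/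
def TyB (σ : Equiv.Perm (Fin 12)) : Prop :=
  ∃ f g a b : Fin 12, (f ≠ g ∧ a ≠ b ∧ a ≠ f ∧ a ≠ g ∧ b ≠ f ∧ b ≠ g) ∧ (σ f = f ∧ σ g = g ∧ σ a = b ∧ σ b = a) ∧
    (∀ c, c ≠ f → c ≠ g → c ≠ a → c ≠ b → ∀ j < 8, (σ ^ (2 * j)) c = c → j = 0 ∨ j = 4) ∧
    (∀ c, c ≠ f → c ≠ g → c ≠ a → c ≠ b → ∀ c', c' ≠ f → c' ≠ g → c' ≠ a → c' ≠ b → ∃ j < 8, (σ ^ j) c = c')

/-- cycle type `2, 10` -/
def TyZ (σ : Equiv.Perm (Fin 12)) : Prop :=
  ∃ d e : Fin 12, d ≠ e ∧ σ d = e ∧ σ e = d ∧ (∀ c, c ≠ d → c ≠ e → ∀ c', c' ≠ d → c' ≠ e → ∃ j < 10, (σ ^ j) c = c') ∧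
    (∀ c, c ≠ d → c ≠ e → ∀ i < 5, ∀ j < 5, (σ ^ (2 * i)) c = (σ ^ (2 * j)) c → i = j)

/-- cycle type `1, 11` -/
def TyX (σ : Equiv.Perm (Fin 12)) : Prop :=
  ∃ d : Fin 12, σ d = d ∧ ∀ c, c ≠ d → ∀ c', c' ≠ d → ∃ j < 11, (σ ^ j) c = c'

theorem ai (τ : Equiv.Perm (Fin 12)) (c : Fin 12) : τ (τ⁻¹ c) = c := by
  rw [← Equiv.Perm.mul_apply, mul_inv_cancel, Equiv.Perm.one_apply]

theorem ia (τ : Equiv.Perm (Fin 12)) (c : Fin 12) : τ⁻¹ (τ c) = c := by
  rw [← Equiv.Perm.mul_apply, inv_mul_cancel, Equiv.Perm.one_apply]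

theorem conj_pow_apply (τ σ : Equiv.Perm (Fin 12)) (j : ℕ) (c : Fin 12) :
    ((τ * σ * τ⁻¹) ^ j) c = τ ((σ ^ j) (τ⁻¹ c)) := by
  rw [conj_pow, Equiv.Perm.mul_apply, Equiv.Perm.mul_apply]

theorem conj_apply (τ σ : Equiv.Perm (Fin 12)) (c : Fin 12) : (τ * σ * τ⁻¹) c = τ (σ (τ⁻¹ c)) := by
  rw [Equiv.Perm.mul_apply, Equiv.Perm.mul_apply]

theorem inv_ne {τ : Equiv.Perm (Fin 12)} {c f : Fin 12} (h : c ≠ τ f) : τ⁻¹ c ≠ f := by
  rintro rfl
  exact h (ai τ c).symm

theorem TyB.conj {σ : Equiv.Perm (Fin 12)} (h : TyB σ) (τ : Equiv.Perm (Fin 12)) : TyB (τ * σ * τ⁻¹) := by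
  obtain ⟨f, g, a, b, ⟨h1, h2, h3, h4, h5, h6⟩, ⟨k1, k2, k3, k4⟩, h7, h8⟩ := h
  refine ⟨τ f, τ g, τ a, τ b, ⟨τ.injective.ne h1, τ.injective.ne h2, τ.injective.ne h3, τ.injective.ne h4,
    τ.injective.ne h5, τ.injective.ne h6⟩, ⟨?_, ?_, ?_, ?_⟩, ?_, ?_⟩
  · rw [conj_apply, ia, k1]
  · rw [conj_apply, ia, k2]
  · rw [conj_apply, ia, k3]
  · rw [conj_apply, ia, k4]
  · intro c c1 c2 c3 c4 j hj hc
    refine h7 (τ⁻¹ c) (inv_ne c1) (inv_ne c2) (inv_ne c3) (inv_ne c4) j hj ?_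
    rw [conj_pow_apply] at hc
    rw [Equiv.Perm.eq_inv_iff_eq, hc]
  · intro c c1 c2 c3 c4 c' c1' c2' c3' c4'
    obtain ⟨j, hj, hc⟩ := h8 (τ⁻¹ c) (inv_ne c1) (inv_ne c2) (inv_ne c3) (inv_ne c4) (τ⁻¹ c') (inv_ne c1')
      (inv_ne c2') (inv_ne c3') (inv_ne c4')
    refine ⟨j, hj, ?_⟩
    rw [conj_pow_apply, hc, ai]

theorem TyZ.conj {σ : Equiv.Perm (Fin 12)} (h : TyZ σ) (τ : Equiv.Perm (Fin 12)) : TyZ (τ * σ * τ⁻¹) := by
  obtain ⟨d, e, h1, h2, h3, h4, h5⟩ := h
  refine ⟨τ d, τ e, τ.injective.ne h1, ?_, ?_, ?_, ?_⟩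
  · rw [conj_apply, ia, h2]
  · rw [conj_apply, ia, h3]
  · intro c c1 c2 c' c1' c2'
    obtain ⟨j, hj, hc⟩ := h4 (τ⁻¹ c) (inv_ne c1) (inv_ne c2) (τ⁻¹ c') (inv_ne c1') (inv_ne c2')
    refine ⟨j, hj, ?_⟩
    rw [conj_pow_apply, hc, ai]
  · intro c c1 c2 i hi j hj hc
    rw [conj_pow_apply, conj_pow_apply] at hc
    exact h5 (τ⁻¹ c) (inv_ne c1) (inv_ne c2) i hi j hj (τ.injective hc)

theorem TyX.conj {σ : Equiv.Perm (Fin 12)} (h : TyX σ) (τ : Equiv.Perm (Fin 12)) : TyX (τ * σ * τ⁻¹) := by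
  obtain ⟨d, h1, h2⟩ := h
  refine ⟨τ d, ?_, ?_⟩
  · rw [conj_apply, ia, h1]
  · intro c c1 c' c1'
    obtain ⟨j, hj, hc⟩ := h2 (τ⁻¹ c) (inv_ne c1) (τ⁻¹ c') (inv_ne c1')
    refine ⟨j, hj, ?_⟩
    rw [conj_pow_apply, hc, ai]

section

variable {T : Type u} [Group T] (φ : T →* Equiv.Perm (Fin 12))

/-- the stabilizer of a point -/
def St (p : Fin 12) : Subgroup T := (MulAction.stabilizer (Equiv.Perm (Fin 12)) p).comap φ

theorem mem_St {p : Fin 12} {t : T} : t ∈ St φ p ↔ φ t p = p := Iff.rfl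

/-- orbit-stabilizer -/
theorem card_eq [Finite T] {S : Subgroup T} {p : Fin 12} {X : Finset (Fin 12)}
    (h : ∀ q, q ∈ X ↔ ∃ r ∈ S, φ r p = q) :
    Nat.card S = X.card * Nat.card (S ⊓ St φ p : Subgroup T) := by
  classical
  let act : MulAction S (Fin 12) := MulAction.compHom (Fin 12) (φ.comp S.subtype)
  have h1 : ∀ (s : S) (q : Fin 12), s • q = φ (s : T) q := fun _ _ => rfl
  have h2 : MulAction.orbit S p = (X : Set (Fin 12)) := by
    ext q
    rw [Finset.mem_coe, h q, MulAction.mem_orbit_iff]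
    constructor
    · rintro ⟨s, hs⟩
      exact ⟨s, s.2, by rw [← h1, hs]⟩
    · rintro ⟨r, hr, hq⟩
      exact ⟨⟨r, hr⟩, by rw [h1, hq]⟩
  have h3 : MulAction.stabilizer S p = (S ⊓ St φ p).subgroupOf S := by
    ext s
    rw [MulAction.mem_stabilizer_iff, h1, Subgroup.mem_subgroupOf, Subgroup.mem_inf, mem_St]
    exact ⟨fun h => ⟨s.2, h⟩, fun h => h.2⟩
  have h4 := (MulAction.stabilizer S p).card_mul_index
  rw [MulAction.index_stabilizer, h2, Set.ncard_coe_finset, h3,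
    Nat.card_congr (Subgroup.subgroupOfEquivOfLe (inf_le_left : S ⊓ St φ p ≤ S)).toEquiv] at h4
  rw [← h4, mul_comm]

theorem map_mul_apply (s t : T) (p : Fin 12) : φ (s * t) p = φ s (φ t p) := by
  rw [map_mul, Equiv.Perm.mul_apply]

theorem map_pow_apply (s : T) (j : ℕ) (p : Fin 12) : φ (s ^ j) p = (φ s ^ j) p := by
  rw [map_pow]

theorem map_inv_apply' {s : T} {p q : Fin 12} (h : φ s p = q) : φ s⁻¹ q = p := by
  rw [← h, map_inv, ia]

theorem trans_or_pair {R : Subgroup T} {z : T} (hz : z ∈ R) (hZ : TyZ (φ z)) :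
    (∀ p q, ∃ r ∈ R, φ r p = q) ∨ ∃ d, ∀ r ∈ R, (φ r ^ 2) d = d := by
  obtain ⟨d, e, h1, h2, h3, h4, -⟩ := hZ
  by_cases h : ∀ r ∈ R, φ r d = d ∨ φ r d = e
  · right
    refine ⟨d, fun r hr => ?_⟩
    rw [pow_two, Equiv.Perm.mul_apply]
    rcases h r hr with h5 | h5
    · rw [h5, h5]
    · rw [h5]
      have h6 := h (r * z) (R.mul_mem hr hz)
      rw [map_mul_apply, h2] at h6
      rcases h6 with h6 | h6
      · exact h6
      · exact absurd ((φ r).injective (h5.trans h6.symm)) h1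
  · left
    push Not at h
    obtain ⟨r, hr, hd, he⟩ := h
    have key : ∀ q, ∃ r ∈ R, φ r d = q := by
      intro q
      by_cases hqd : q = d
      · exact ⟨1, R.one_mem, by rw [map_one, hqd]; rfl⟩
      by_cases hqe : q = e
      · exact ⟨z, hz, by rw [h2, hqe]⟩
      obtain ⟨j, -, hj⟩ := h4 (φ r d) hd he q hqd hqe
      exact ⟨z ^ j * r, R.mul_mem (R.pow_mem hz j) hr, by rw [map_mul_apply, map_pow_apply, hj]⟩
    intro p q
    obtain ⟨r1, hr1, h5⟩ := key p
    obtain ⟨r2, hr2, h6⟩ := key q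
    exact ⟨r2 * r1⁻¹, R.mul_mem hr2 (R.inv_mem hr1), by rw [map_mul_apply, map_inv_apply' φ h5, h6]⟩

/-- the orbits of the stabilizer of `f` -/
theorem key_orbit [Finite T] {R : Subgroup T} (h11 : ¬ 11 ∣ Nat.card R) (htr : ∀ p q, ∃ r ∈ R, φ r p = q)
    {z : T} (hz : z ∈ R) (hZ : TyZ (φ z)) {y : T} (hy : y ∈ R) {f g a b : Fin 12}
    (hne : f ≠ g ∧ a ≠ b ∧ a ≠ f ∧ a ≠ g ∧ b ≠ f ∧ b ≠ g) (hyy : φ y f = f ∧ φ y g = g ∧ φ y a = b ∧ φ y b = a)
    (hC : ∀ c, c ≠ f → c ≠ g → c ≠ a → c ≠ b → ∀ c', c' ≠ f → c' ≠ g → c' ≠ a → c' ≠ b →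
      ∃ j < 8, (φ y ^ j) c = c') :
    (∀ r ∈ R, φ r f = f → φ r g = g) ∧
      ∀ q, q ≠ f → q ≠ g → ∀ q', q' ≠ f → q' ≠ g → ∃ r ∈ R, φ r f = f ∧ φ r q = q' := by
  classical
  obtain ⟨hfg, hab, haf, hag, hbf, hbg⟩ := hne
  obtain ⟨yf, yg, ya, yb⟩ := hyy
  obtain ⟨d, e, z1, z2, z3, -, z5⟩ := hZ
  obtain ⟨r0, hr0, hd0⟩ := htr d f
  set g' := φ r0 e with hg'
  have hg'f : g' ≠ f := by
    rw [hg', ← hd0]
    exact fun h => z1 ((φ r0).injective h).symm
  set w := r0 * z ^ 2 * r0⁻¹ with hw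
  have hwR : w ∈ R := R.mul_mem (R.mul_mem hr0 (R.pow_mem hz 2)) (R.inv_mem hr0)
  have hwp : ∀ (j : ℕ) (p : Fin 12), φ (w ^ j) p = φ r0 ((φ z ^ (2 * j)) (φ r0⁻¹ p)) := by
    intro j p
    have h1 : w ^ j = r0 * (z ^ (2 * j)) * r0⁻¹ := by rw [hw, conj_pow, ← pow_mul]
    rw [h1, map_mul_apply, map_mul_apply, map_pow_apply]
  have hz2d : ∀ j : ℕ, (φ z ^ (2 * j)) d = d := by
    intro j
    induction j with
    | zero => rw [mul_zero, pow_zero]; rfl
    | succ j ih =>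
      rw [show 2 * (j + 1) = 2 * j + 2 by ring, pow_add, Equiv.Perm.mul_apply, pow_two, Equiv.Perm.mul_apply, z2, z3, ih]
  have hwf : ∀ j : ℕ, φ (w ^ j) f = f := by
    intro j
    rw [hwp, map_inv_apply' φ hd0, hz2d, hd0]
  -- the relation
  set Rel : Fin 12 → Fin 12 → Prop := fun q q' => ∃ r ∈ R, φ r f = f ∧ φ r q = q' with hRel
  have rsymm : ∀ q q', Rel q q' → Rel q' q := by
    rintro q q' ⟨r, hr, h1, h2⟩
    exact ⟨r⁻¹, R.inv_mem hr, map_inv_apply' φ h1, map_inv_apply' φ h2⟩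
  have rtrans : ∀ q q' q'', Rel q q' → Rel q' q'' → Rel q q'' := by
    rintro q q' q'' ⟨r, hr, h1, h2⟩ ⟨s, hs, h3, h4⟩
    exact ⟨s * r, R.mul_mem hs hr, by rw [map_mul_apply, h1, h3], by rw [map_mul_apply, h2, h4]⟩
  have yfj : ∀ j : ℕ, φ (y ^ j) f = f := by
    intro j
    induction j with
    | zero => rw [pow_zero, map_one]; rfl
    | succ j ih => rw [pow_succ, map_mul_apply, yf, ih]
  have rC : ∀ c, c ≠ f → c ≠ g → c ≠ a → c ≠ b → ∀ c', c' ≠ f → c' ≠ g → c' ≠ a → c' ≠ b → Rel c c' := by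
    intro c c1 c2 c3 c4 c' c1' c2' c3' c4'
    obtain ⟨j, -, hj⟩ := hC c c1 c2 c3 c4 c' c1' c2' c3' c4'
    exact ⟨y ^ j, R.pow_mem hy j, yfj j, by rw [map_pow_apply, hj]⟩
  -- a point of `C`
  obtain ⟨c0, c01, c02, c03, c04⟩ : ∃ c : Fin 12, c ≠ f ∧ c ≠ g ∧ c ≠ a ∧ c ≠ b := by
    by_contra hcon
    push Not at hcon
    have h1 : (Finset.univ : Finset (Fin 12)) ⊆ {f, g, a, b} := by
      intro c _
      simp only [Finset.mem_insert, Finset.mem_singleton]
      by_contra h2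
      push Not at h2
      exact h2.2.2.2 (hcon c h2.1 h2.2.1 h2.2.2.1)
    have h2 := (Finset.card_le_card h1).trans Finset.card_le_four
    rw [Finset.card_univ, Fintype.card_fin] at h2
    omega
  have rW : ∀ q, q ≠ f → q ≠ g' → Rel q c0 := by
    intro q h1 h2
    have h3 : φ r0⁻¹ q ≠ d := by
      intro h
      apply h1
      rw [← hd0, ← h, ← map_mul_apply, mul_inv_cancel, map_one]
      rfl
    have h4 : φ r0⁻¹ q ≠ e := by
      intro h
      apply h2
      rw [hg', ← h, ← map_mul_apply, mul_inv_cancel, map_one]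
      rfl
    have hinj : ∀ i < 5, ∀ j < 5, φ (w ^ i) q = φ (w ^ j) q → i = j := by
      intro i hi j hj hij
      rw [hwp, hwp] at hij
      exact z5 _ h3 h4 i hi j hj ((φ r0).injective hij)
    obtain ⟨j, hj⟩ : ∃ j : ℕ, φ (w ^ j) q ≠ g ∧ φ (w ^ j) q ≠ a ∧ φ (w ^ j) q ≠ b := by
      by_contra hcon
      push Not at hcon
      have h5 : (Finset.range 5).image (fun j => φ (w ^ j) q) ⊆ {g, a, b} := by
        intro c hc
        rw [Finset.mem_image] at hc
        obtain ⟨j, -, rfl⟩ := hc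
        simp only [Finset.mem_insert, Finset.mem_singleton]
        by_contra h6
        push Not at h6
        exact h6.2.2 (hcon j h6.1 h6.2.1)
      have h6 := (Finset.card_le_card h5).trans Finset.card_le_three
      rw [Finset.card_image_of_injOn, Finset.card_range] at h6
      · omega
      · intro i hi j hj hij
        rw [Finset.coe_range, Set.mem_Iio] at hi hj
        exact hinj i hi j hj hij
    have h7 : φ (w ^ j) q ≠ f := by
      intro h
      exact h1 ((φ (w ^ j)).injective (h.trans (hwf j).symm))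
    exact rtrans _ _ _ ⟨w ^ j, R.pow_mem hwR j, hwf j, rfl⟩ (rC _ h7 hj.1 hj.2.1 hj.2.2 c0 c01 c02 c03 c04)
  -- not all the other points are in one orbit
  have hno : ¬ ∀ q, q ≠ f → Rel q c0 := by
    intro hall
    apply h11
    have h1 := card_eq φ (S := R ⊓ St φ f) (p := c0) (X := Finset.univ.erase f) (by
      intro q
      rw [Finset.mem_erase]
      constructor
      · rintro ⟨hq, -⟩
        obtain ⟨r, hr, h1, h2⟩ := rsymm _ _ (hall q hq)
        exact ⟨r, ⟨hr, h1⟩, h2⟩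
      · rintro ⟨r, ⟨hr, h1⟩, h2⟩
        refine ⟨?_, Finset.mem_univ _⟩
        rintro rfl
        exact c01 ((φ r).injective (h2.trans ((mem_St φ).1 h1).symm)))
    rw [Finset.card_erase_of_mem (Finset.mem_univ _), Finset.card_univ, Fintype.card_fin] at h1
    have h2 : Nat.card (R ⊓ St φ f : Subgroup T) ∣ Nat.card R := Subgroup.card_dvd_of_le inf_le_left
    exact (Dvd.intro _ h1.symm).trans h2
  have hg : g' = g := by
    by_contra hgg
    apply hno
    intro q hq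
    by_cases hqg : q = g'
    · subst hqg
      by_cases h1 : g' = a
      · have h2 : Rel b c0 := rW b hbf (by rw [h1]; exact hab.symm)
        rw [h1]
        exact rtrans _ _ _ ⟨y, hy, yf, ya⟩ h2
      by_cases h2 : g' = b
      · have h3 : Rel a c0 := rW a haf (by rw [h2]; exact hab)
        rw [h2]
        exact rtrans _ _ _ ⟨y, hy, yf, yb⟩ h3
      exact rC _ hg'f hgg h1 h2 c0 c01 c02 c03 c04
    · exact rW q hq hqg
  constructor
  · intro r hr hrf
    by_contra hrg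
    apply hno
    intro q hq
    by_cases hqg : q = g
    · subst hqg
      have h1 : φ r q ≠ f := by
        intro h
        exact hfg.symm ((φ r).injective (h.trans hrf.symm))
      exact rtrans _ _ _ ⟨r, hr, hrf, rfl⟩ (rW _ h1 (by rw [hg]; exact hrg))
    · exact rW q hq (by rw [hg]; exact hqg)
  · intro q h1 h2 q' h3 h4
    exact rtrans _ _ _ (rW q h1 (by rw [hg]; exact h2)) (rsymm _ _ (rW q' h3 (by rw [hg]; exact h4)))

/-- a transitive subgroup of order prime to `11` has no elements of types `TyB` and `TyZ` -/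
theorem no_trans [Finite T] (h5 : ∀ t : T, ∀ s : Finset (Fin 12), 5 ≤ s.card → (∀ i ∈ s, φ t i = i) → t = 1)
    {R : Subgroup T} (h11 : ¬ 11 ∣ Nat.card R) (htr : ∀ p q, ∃ r ∈ R, φ r p = q)
    {z : T} (hz : z ∈ R) (hZ : TyZ (φ z)) {y : T} (hy : y ∈ R) (hY : TyB (φ y)) : False := by
  classical
  obtain ⟨f, g, a, b, hne, hyy, hC4, hC⟩ := hY
  obtain ⟨k1, k2⟩ := key_orbit φ h11 htr hz hZ hy hne hyy hC
  obtain ⟨hfg, hab, haf, hag, hbf, hbg⟩ := hne
  obtain ⟨yf, yg, ya, yb⟩ := hyy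
  -- the partner of a point
  choose ρ hρR hρ using htr f
  set π : Fin 12 → Fin 12 := fun p => φ (ρ p) g with hπ
  have πr : ∀ r ∈ R, ∀ p, π (φ r p) = φ r (π p) := by
    intro r hr p
    have h1 : φ ((ρ (φ r p))⁻¹ * (r * ρ p)) f = f := by
      rw [map_mul_apply, map_mul_apply, hρ, map_inv_apply' φ (hρ (φ r p))]
    have h2 := k1 _ (R.mul_mem (R.inv_mem (hρR _)) (R.mul_mem hr (hρR _))) h1
    have h3 := map_inv_apply' φ h2
    rw [mul_inv_rev, inv_inv, map_mul_apply] at h3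
    have h4 : φ (ρ (φ r p)) g = φ (r * ρ p) g := by
      have h5 := congrArg (φ (r * ρ p)) h3
      rwa [← map_mul_apply, mul_inv_cancel, map_one, Equiv.Perm.one_apply] at h5
    rw [hπ]
    show φ (ρ (φ r p)) g = φ r (φ (ρ p) g)
    rw [h4, map_mul_apply]
  have πf : π f = g := k1 _ (hρR f) (hρ f)
  have πne : ∀ p, π p ≠ p := by
    intro p h
    have h1 : φ (ρ p) g = φ (ρ p) f := h.trans (hρ p).symm
    exact hfg ((φ (ρ p)).injective h1).symm
  have πg : π g = f := by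
    by_contra h
    have hg' : π g ≠ g := πne g
    obtain ⟨q', q1, q2, q3⟩ : ∃ q : Fin 12, q ≠ f ∧ q ≠ g ∧ q ≠ π g := by
      by_contra hcon
      push Not at hcon
      have h1 : (Finset.univ : Finset (Fin 12)) ⊆ {f, g, π g} := by
        intro c _
        simp only [Finset.mem_insert, Finset.mem_singleton]
        by_contra h2
        push Not at h2
        exact h2.2.2 (hcon c h2.1 h2.2.1)
      have h2 := (Finset.card_le_card h1).trans Finset.card_le_three
      rw [Finset.card_univ, Fintype.card_fin] at h2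
      omega
    obtain ⟨r, hr, hrf, hrq⟩ := k2 _ h hg' q' q1 q2
    apply q3
    rw [← hrq, ← πr r hr, k1 r hr hrf]
  have ππ : ∀ p, π (π p) = p := by
    intro p
    show π (φ (ρ p) g) = p
    rw [πr _ (hρR p), πg, hρ]
  have πinj : ∀ p q, π p = π q → p = q := fun p q h => by rw [← ππ p, h, ππ]
  -- `π a = b`
  have hya2 : φ (y ^ 2) a = a := by rw [pow_two, map_mul_apply, ya, yb]
  have πa : π a = b := by
    have h1 : φ (y ^ 2) (π a) = π a := by rw [← πr _ (R.pow_mem hy 2), hya2]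
    rw [map_pow_apply] at h1
    have h2 : π a ≠ f := by
      intro h
      exact hag (by rw [← ππ a, h, πf])
    have h3 : π a ≠ g := by
      intro h
      exact haf (by rw [← ππ a, h, πg])
    by_contra h4
    have h5' := hC4 (π a) h2 h3 (πne a) h4 1 (by norm_num) (by rw [mul_one]; exact h1)
    omega
  have πb : π b = a := by rw [← πa, ππ]
  have πC : ∀ c, c ≠ f → c ≠ g → c ≠ a → c ≠ b → π c ≠ f ∧ π c ≠ g ∧ π c ≠ a ∧ π c ≠ b := by
    intro c c1 c2 c3 c4
    refine ⟨fun h => c2 ?_, fun h => c1 ?_, fun h => c4 ?_, fun h => c3 ?_⟩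
    · rw [← ππ c, h, πf]
    · rw [← ππ c, h, πg]
    · rw [← ππ c, h, πa]
    · rw [← ππ c, h, πb]
  -- `u = y ^ 4`
  have uC : ∀ c, c ≠ f → c ≠ g → c ≠ a → c ≠ b → φ (y ^ 4) c = π c := by
    intro c c1 c2 c3 c4
    obtain ⟨p1, p2, p3, p4⟩ := πC c c1 c2 c3 c4
    obtain ⟨j, hj, hjc⟩ := hC c c1 c2 c3 c4 (π c) p1 p2 p3 p4
    have h1 : φ (y ^ j) c = π c := by rw [map_pow_apply, hjc]
    have h2 : φ (y ^ j) (π c) = c := by rw [← πr _ (R.pow_mem hy j), h1, ππ]
    have h3 : φ (y ^ (2 * j)) c = c := by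
      rw [two_mul, pow_add, map_mul_apply, h1, h2]
    rw [map_pow_apply] at h3
    rcases hC4 c c1 c2 c3 c4 j hj h3 with h4 | h4
    · exfalso
      rw [h4, pow_zero, map_one] at h1
      exact πne c h1.symm
    · rw [← h4, h1]
  have uf : φ (y ^ 4) f = f := by
    rw [show y ^ 4 = y * y * y * y by simp only [pow_succ, pow_zero, one_mul], map_mul_apply, map_mul_apply, map_mul_apply, yf, yf, yf, yf]
  have ug : φ (y ^ 4) g = g := by
    rw [show y ^ 4 = y * y * y * y by simp only [pow_succ, pow_zero, one_mul], map_mul_apply, map_mul_apply, map_mul_apply, yg, yg, yg, yg]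
  have ua : φ (y ^ 4) a = a := by
    rw [show y ^ 4 = y * y * y * y by simp only [pow_succ, pow_zero, one_mul], map_mul_apply, map_mul_apply, map_mul_apply, ya, yb, ya, yb]
  have ub : φ (y ^ 4) b = b := by
    rw [show y ^ 4 = y * y * y * y by simp only [pow_succ, pow_zero, one_mul], map_mul_apply, map_mul_apply, map_mul_apply, yb, ya, yb, ya]
  obtain ⟨c0, c01, c02, c03, c04⟩ : ∃ c : Fin 12, c ≠ f ∧ c ≠ g ∧ c ≠ a ∧ c ≠ b := by
    by_contra hcon
    push Not at hcon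
    have h1 : (Finset.univ : Finset (Fin 12)) ⊆ {f, g, a, b} := by
      intro c _
      simp only [Finset.mem_insert, Finset.mem_singleton]
      by_contra h2
      push Not at h2
      exact h2.2.2.2 (hcon c h2.1 h2.2.1 h2.2.2.1)
    have h2 := (Finset.card_le_card h1).trans Finset.card_le_four
    rw [Finset.card_univ, Fintype.card_fin] at h2
    omega
  obtain ⟨r, hr, hrf, hra⟩ := k2 a haf hag c0 c01 c02
  have hrg := k1 r hr hrf
  have hrb : φ r b = π c0 := by rw [← πa, ← πr r hr, hra]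
  obtain ⟨p1, p2, p3, p4⟩ := πC c0 c01 c02 c03 c04
  -- the conjugate of `u`
  have hinv : ∀ p, φ r (φ r⁻¹ p) = p := by
    intro p
    rw [← map_mul_apply, mul_inv_cancel, map_one]; rfl
  have u' : ∀ p, p ≠ f → p ≠ g → p ≠ c0 → p ≠ π c0 → φ (r * y ^ 4 * r⁻¹) p = π p := by
    intro p q1 q2 q3 q4
    have e1 : φ r⁻¹ p ≠ f := by
      intro h; apply q1; rw [← hinv p, h, hrf]
    have e2 : φ r⁻¹ p ≠ g := by
      intro h; apply q2; rw [← hinv p, h, hrg]
    have e3 : φ r⁻¹ p ≠ a := by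
      intro h; apply q3; rw [← hinv p, h, hra]
    have e4 : φ r⁻¹ p ≠ b := by
      intro h; apply q4; rw [← hinv p, h, hrb]
    rw [map_mul_apply, map_mul_apply, uC _ e1 e2 e3 e4, ← πr r hr, hinv]
  have uf' : φ (r * y ^ 4 * r⁻¹) f = f := by
    rw [map_mul_apply, map_mul_apply, map_inv_apply' φ hrf, uf, hrf]
  have ug' : φ (r * y ^ 4 * r⁻¹) g = g := by
    rw [map_mul_apply, map_mul_apply, map_inv_apply' φ hrg, ug, hrg]
  have hv : y ^ 4 * (r * y ^ 4 * r⁻¹) = 1 := by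
    refine h5 _ (Finset.univ \ {a, b, c0, π c0}) ?_ ?_
    · have h1 : (Finset.univ \ {a, b, c0, π c0} : Finset (Fin 12)).card ≥ 12 - 4 := by
        have h2 := Finset.le_card_sdiff ({a, b, c0, π c0} : Finset (Fin 12)) Finset.univ
        have h3 : ({a, b, c0, π c0} : Finset (Fin 12)).card ≤ 4 := Finset.card_le_four
        rw [Finset.card_univ, Fintype.card_fin] at h2
        omega
      omega
    · intro i hi
      rw [Finset.mem_sdiff, Finset.mem_insert, Finset.mem_insert, Finset.mem_insert, Finset.mem_singleton] at hi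
      obtain ⟨-, hi⟩ := hi
      push Not at hi
      obtain ⟨i1, i2, i3, i4⟩ := hi
      rw [map_mul_apply]
      by_cases hif : i = f
      · rw [hif, uf', uf]
      by_cases hig : i = g
      · rw [hig, ug', ug]
      rw [u' i hif hig i3 i4]
      obtain ⟨q1, q2, q3, q4⟩ := πC i hif hig i1 i2
      rw [uC _ q1 q2 q3 q4, ππ]
  have hva : φ (y ^ 4 * (r * y ^ 4 * r⁻¹)) a = b := by
    rw [map_mul_apply, u' a haf hag c03.symm (Ne.symm p3), πa, ub]
  rw [hv, map_one] at hva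
  exact hab hva

/-- **a subgroup of order prime to `11` with elements of types `TyB`, `TyZ` stabilises a pair** -/
theorem stab_pair [Finite T] (h5 : ∀ t : T, ∀ s : Finset (Fin 12), 5 ≤ s.card → (∀ i ∈ s, φ t i = i) → t = 1)
    {R : Subgroup T} (h11 : ¬ 11 ∣ Nat.card R) {z : T} (hz : z ∈ R) (hZ : TyZ (φ z)) {y : T} (hy : y ∈ R)
    (hY : TyB (φ y)) : ∃ d, ∀ r ∈ R, (φ r ^ 2) d = d :=
  (trans_or_pair φ hz hZ).resolve_left fun htr => no_trans φ h5 h11 htr hz hZ hy hY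

theorem trans_or_fix {R : Subgroup T} {x : T} (hx : x ∈ R) (hX : TyX (φ x)) :
    (∃ d, (∀ q, ∃ r ∈ R, φ r d = q) ∧ (∀ c, c ≠ d → ∀ c', c' ≠ d → ∃ r ∈ R, φ r d = d ∧ φ r c = c')) ∨
      ∃ d, ∀ r ∈ R, φ r d = d := by
  obtain ⟨d, h1, h2⟩ := hX
  have hj : ∀ j : ℕ, φ (x ^ j) d = d := by
    intro j
    induction j with
    | zero => rw [pow_zero, map_one]; rfl
    | succ j ih => rw [pow_succ, map_mul_apply, h1, ih]
  by_cases h : ∀ r ∈ R, φ r d = d
  · exact Or.inr ⟨d, h⟩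
  · left
    push Not at h
    obtain ⟨r, hr, hrd⟩ := h
    refine ⟨d, fun q => ?_, fun c hc c' hc' => ?_⟩
    · by_cases hq : q = d
      · exact ⟨1, R.one_mem, by rw [map_one, hq]; rfl⟩
      · obtain ⟨j, -, hjq⟩ := h2 _ hrd q hq
        exact ⟨x ^ j * r, R.mul_mem (R.pow_mem hx j) hr, by rw [map_mul_apply, map_pow_apply, hjq]⟩
    · obtain ⟨j, -, hjq⟩ := h2 c hc c' hc'
      exact ⟨x ^ j, R.pow_mem hx j, hj j, by rw [map_pow_apply, hjq]⟩

/-- a subgroup with elements of types `TyX` and `TyB` fixes a point or has order divisible by `1056` -/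
theorem fix_or [Finite T] {R : Subgroup T} {x : T} (hx : x ∈ R) (hX : TyX (φ x)) {y : T} (hy : y ∈ R)
    (hY : TyB (φ y)) (hy8 : 8 ∣ orderOf y) : (∃ d, ∀ r ∈ R, φ r d = d) ∨ 1056 ∣ Nat.card R := by
  classical
  rcases trans_or_fix φ hx hX with ⟨d, h1, h2⟩ | h
  swap
  · exact Or.inl h
  right
  obtain ⟨f, g, a, b, ⟨hfg, -⟩, ⟨yf, yg, -⟩, -⟩ := hY
  obtain ⟨s, hs, hsf⟩ := h1 f
  have e1 : Nat.card R = (Finset.univ : Finset (Fin 12)).card * Nat.card (R ⊓ St φ f : Subgroup T) := by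
    refine card_eq φ fun q => ⟨fun _ => ?_, fun _ => Finset.mem_univ _⟩
    obtain ⟨r, hr, hrq⟩ := h1 q
    exact ⟨r * s⁻¹, R.mul_mem hr (R.inv_mem hs), by rw [map_mul_apply, map_inv_apply' φ hsf, hrq]⟩
  have hsinv : ∀ q, φ s (φ s⁻¹ q) = q := by
    intro q
    rw [← map_mul_apply, mul_inv_cancel, map_one]; rfl
  have hne : ∀ q, q ≠ f → φ s⁻¹ q ≠ d := by
    intro q hq h
    apply hq
    rw [← hsinv q, h, hsf]
  have e2 : Nat.card (R ⊓ St φ f : Subgroup T) = (Finset.univ.erase f).card *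
      Nat.card (R ⊓ St φ f ⊓ St φ g : Subgroup T) := by
    refine card_eq φ fun q => ?_
    rw [Finset.mem_erase]
    constructor
    · rintro ⟨hq, -⟩
      obtain ⟨r, hr, hr1, hr2⟩ := h2 _ (hne g hfg.symm) _ (hne q hq)
      refine ⟨s * r * s⁻¹, ⟨R.mul_mem (R.mul_mem hs hr) (R.inv_mem hs), ?_⟩, ?_⟩
      · show φ (s * r * s⁻¹) f = f
        rw [map_mul_apply, map_mul_apply, map_inv_apply' φ hsf, hr1, hsf]
      · rw [map_mul_apply, map_mul_apply, hr2, hsinv]
    · rintro ⟨r, ⟨-, hr1⟩, hr2⟩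
      refine ⟨?_, Finset.mem_univ _⟩
      rintro rfl
      exact hfg ((φ r).injective (hr2.trans ((mem_St φ).1 hr1).symm)).symm
  rw [Finset.card_univ, Fintype.card_fin] at e1
  rw [Finset.card_erase_of_mem (Finset.mem_univ _), Finset.card_univ, Fintype.card_fin] at e2
  have hmem : y ∈ R ⊓ St φ f ⊓ St φ g := ⟨⟨hy, yf⟩, yg⟩
  have h8 : 8 ∣ Nat.card (R ⊓ St φ f ⊓ St φ g : Subgroup T) := by
    refine hy8.trans ?_
    rw [← Subgroup.orderOf_mk y hmem]
    exact _root_.orderOf_dvd_natCard _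
  obtain ⟨k, hk⟩ := h8
  refine ⟨k, ?_⟩
  rw [e1, e2, hk]
  ring

end

end Cfsg.Agent.H348.Cov.MTw
end

-- part: H348/Cov/MTw
section
/-!
# S2499 (normal 2-coverings): `M₁₂` (helper348)

Witnesses: `x` (11A), `z` (10A), `a` (8A), `b` (8B), `c` (3B). No proper subgroup meets the classes of `x` and `z`. A proper
subgroup which meets the classes of `x` or `z` and of `b` (respectively `a`) fixes a point or a pair of points of the
dodecad (respectively of the complement), so that it does not meet the classes of `a` and `c` (respectively `b`, `c`).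
-/

set_option autoImplicit false

namespace Cfsg.Agent.H348.Cov.MTw

open Subgroup Cfsg Cfsg.Agent.OrdDiv Cfsg.Agent.H278.Cov Cfsg.Agent.H257.El Cfsg.Agent.H257.Cov
open Cfsg.Agent.CoThreeStd.MTwelve (wd act act_spec enc_dec dec_enc enc_lt)

universe u

/-! ### the order -/

def n : ℕ := 95040
def l : List (ℕ × ℕ) := [(2, 6), (3, 3), (5, 1), (11, 1)]

theorem chk11_10 : chkI n l 11 10 [.psl 2 11, .m11] = true := by decide +kernel

/-! ### the two actions -/

/-- the action on the dodecad -/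
def φ₁ : Spor.M12 →* Equiv.Perm (Fin 12) := CoThreeStd.M12.rho

/-- the action on the complement -/
def φ₂ : Spor.M12 →* Equiv.Perm (Fin 12) := CoThreeStd.M12.rho.comp CoThreeStd.OutAut.alpha

theorem five₁ (t : Spor.M12) (s : Finset (Fin 12)) (hs : 5 ≤ s.card) (h : ∀ i ∈ s, φ₁ t i = i) : t = 1 := by
  have h1 : φ₁ t ∈ CoThreeStd.M12.G12 := by
    rw [← CoThreeStd.M12.range_eq]
    exact ⟨t, rfl⟩
  have h2 := CoThreeStd.M12.Out.fix_five h1 s hs h
  exact CoThreeStd.M12.rho_injective (h2.trans (map_one _).symm)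

theorem five₂ (t : Spor.M12) (s : Finset (Fin 12)) (hs : 5 ≤ s.card) (h : ∀ i ∈ s, φ₂ t i = i) : t = 1 := by
  have h1 : CoThreeStd.OutAut.alpha t = 1 := five₁ _ s hs h
  rw [← CoThreeStd.OutAut.alpha_alpha t, h1, map_one]

/-- the table of a word -/
def tab (w : List ℕ) (i : Fin 12) : Fin 12 :=
  CoThreeStd.M12.dn (SporadicStructure.M11InvPerms.dec (act w (SporadicStructure.M11InvPerms.enc (CoThreeStd.M12.dp i))))

theorem phi_tab (w : List ℕ) (i : Fin 12) : φ₁ (wd w) i = tab w i := by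
  show CoThreeStd.M12.dn ((wd w : Equiv.Perm GolayPt) (CoThreeStd.M12.dp i)) = _
  rw [tab, ← (act_spec w _ (enc_lt (CoThreeStd.M12.dp i))).1, dec_enc, dec_enc]

theorem phi_tab₂ (w : List ℕ) (i : Fin 12) : φ₂ (wd w) i = tab (CoThreeStd.OutAut.aw w) i := by
  show φ₁ (CoThreeStd.OutAut.alpha (wd w)) i = _
  rw [CoThreeStd.OutAut.alpha_wd, phi_tab]

/-! ### cycle types from tables -/

theorem pow_tab {σ : Equiv.Perm (Fin 12)} {t : Fin 12 → Fin 12} (h : ∀ i, σ i = t i) (j : ℕ) (c : Fin 12) :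
    (σ ^ j) c = t^[j] c := by
  rw [← Equiv.Perm.iterate_eq_pow, show (⇑σ) = t from funext h]

theorem tyB_of {σ : Equiv.Perm (Fin 12)} {t : Fin 12 → Fin 12} (h : ∀ i, σ i = t i) (f g a b : Fin 12)
    (h1 : f ≠ g ∧ a ≠ b ∧ a ≠ f ∧ a ≠ g ∧ b ≠ f ∧ b ≠ g) (h2 : t f = f ∧ t g = g ∧ t a = b ∧ t b = a)
    (h3 : ∀ c, c ≠ f → c ≠ g → c ≠ a → c ≠ b → ∀ j < 8, t^[2 * j] c = c → j = 0 ∨ j = 4)
    (h4 : ∀ c, c ≠ f → c ≠ g → c ≠ a → c ≠ b → ∀ c', c' ≠ f → c' ≠ g → c' ≠ a → c' ≠ b → ∃ j < 8, t^[j] c = c') :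
    TyB σ := by
  refine ⟨f, g, a, b, h1, by rw [h, h, h, h]; exact h2, ?_, ?_⟩
  · intro c c1 c2 c3 c4 j hj hc
    rw [pow_tab h] at hc
    exact h3 c c1 c2 c3 c4 j hj hc
  · intro c c1 c2 c3 c4 c' c1' c2' c3' c4'
    obtain ⟨j, hj, hc⟩ := h4 c c1 c2 c3 c4 c' c1' c2' c3' c4'
    exact ⟨j, hj, by rw [pow_tab h, hc]⟩

theorem tyZ_of {σ : Equiv.Perm (Fin 12)} {t : Fin 12 → Fin 12} (h : ∀ i, σ i = t i) (d e : Fin 12)
    (h1 : d ≠ e ∧ t d = e ∧ t e = d)
    (h2 : ∀ c, c ≠ d → c ≠ e → ∀ c', c' ≠ d → c' ≠ e → ∃ j < 10, t^[j] c = c')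
    (h3 : ∀ c, c ≠ d → c ≠ e → ∀ i < 5, ∀ j < 5, t^[2 * i] c = t^[2 * j] c → i = j) : TyZ σ := by
  refine ⟨d, e, h1.1, by rw [h, h1.2.1], by rw [h, h1.2.2], ?_, ?_⟩
  · intro c c1 c2 c' c1' c2'
    obtain ⟨j, hj, hc⟩ := h2 c c1 c2 c' c1' c2'
    exact ⟨j, hj, by rw [pow_tab h, hc]⟩
  · intro c c1 c2 i hi j hj hc
    rw [pow_tab h, pow_tab h] at hc
    exact h3 c c1 c2 i hi j hj hc

theorem tyX_of {σ : Equiv.Perm (Fin 12)} {t : Fin 12 → Fin 12} (h : ∀ i, σ i = t i) (d : Fin 12)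
    (h1 : t d = d) (h2 : ∀ c, c ≠ d → ∀ c', c' ≠ d → ∃ j < 11, t^[j] c = c') : TyX σ := by
  refine ⟨d, by rw [h, h1], ?_⟩
  intro c c1 c' c1'
  obtain ⟨j, hj, hc⟩ := h2 c c1 c' c1'
  exact ⟨j, hj, by rw [pow_tab h, hc]⟩

/-- the square has no fixed points -/
def Mv (σ : Equiv.Perm (Fin 12)) : Prop := ∀ d, (σ ^ 2) d ≠ d

theorem mv_of {σ : Equiv.Perm (Fin 12)} {t : Fin 12 → Fin 12} (h : ∀ i, σ i = t i) (h1 : ∀ d, t^[2] d ≠ d) : Mv σ := by
  intro d hd
  rw [pow_tab h] at hd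
  exact h1 d hd

theorem Mv.conj {σ : Equiv.Perm (Fin 12)} (h : Mv σ) (τ : Equiv.Perm (Fin 12)) : Mv (τ * σ * τ⁻¹) := by
  intro d hd
  rw [conj_pow_apply] at hd
  apply h (τ⁻¹ d)
  rw [Equiv.Perm.eq_inv_iff_eq, hd]

/-! ### the witnesses -/

def wx : List ℕ := [0, 1, 2, 5]
def wz : List ℕ := [1, 3, 5]
def wb : List ℕ := [2, 3, 5]
def wa : List ℕ := [1, 2, 5, 3]
def wc : List ℕ := [1, 2]

/-- a permutation given by a list -/
def ls (L : List (Fin 12)) (i : Fin 12) : Fin 12 := L.getD i 0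

theorem tx₁ : ∀ i, tab wx i = ls [11, 3, 6, 10, 2, 5, 7, 9, 0, 8, 4, 1] i := by decide +kernel
theorem tz₁ : ∀ i, tab wz i = ls [4, 6, 1, 11, 8, 9, 5, 10, 3, 0, 7, 2] i := by decide +kernel
theorem tb₁ : ∀ i, tab wb i = ls [10, 11, 4, 2, 5, 7, 3, 1, 8, 9, 0, 6] i := by decide +kernel
theorem ta₁ : ∀ i, tab wa i = ls [6, 3, 0, 11, 2, 7, 4, 10, 9, 5, 1, 8] i := by decide +kernel
theorem tc₁ : ∀ i, tab wc i = ls [7, 10, 11, 5, 1, 8, 2, 9, 3, 0, 4, 6] i := by decide +kernel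
theorem tx₂ : ∀ i, tab (CoThreeStd.OutAut.aw wx) i = ls [11, 8, 2, 10, 1, 9, 4, 3, 5, 0, 6, 7] i := by decide +kernel
theorem tz₂ : ∀ i, tab (CoThreeStd.OutAut.aw wz) i = ls [4, 0, 8, 11, 2, 10, 7, 6, 9, 3, 1, 5] i := by decide +kernel
theorem ta₂ : ∀ i, tab (CoThreeStd.OutAut.aw wa) i = ls [0, 1, 4, 10, 5, 3, 8, 11, 2, 6, 9, 7] i := by decide +kernel
theorem tc₂ : ∀ i, tab (CoThreeStd.OutAut.aw wc) i = ls [7, 10, 11, 5, 1, 8, 2, 9, 3, 0, 4, 6] i := by decide +kernel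

theorem X₁ : TyX (φ₁ (wd wx)) :=
  tyX_of (fun i => (phi_tab wx i).trans (tx₁ i)) 5 (by decide +kernel) (by decide +kernel)

theorem X₂ : TyX (φ₂ (wd wx)) :=
  tyX_of (fun i => (phi_tab₂ wx i).trans (tx₂ i)) 2 (by decide +kernel) (by decide +kernel)

theorem Z₁ : TyZ (φ₁ (wd wz)) :=
  tyZ_of (fun i => (phi_tab wz i).trans (tz₁ i)) 7 10 (by decide +kernel) (by decide +kernel) (by decide +kernel)

theorem Z₂ : TyZ (φ₂ (wd wz)) :=
  tyZ_of (fun i => (phi_tab₂ wz i).trans (tz₂ i)) 6 7 (by decide +kernel) (by decide +kernel) (by decide +kernel)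

theorem B₁ : TyB (φ₁ (wd wb)) :=
  tyB_of (fun i => (phi_tab wb i).trans (tb₁ i)) 8 9 0 10 (by decide +kernel) (by decide +kernel) (by decide +kernel)
    (by decide +kernel)

theorem B₂ : TyB (φ₂ (wd wa)) :=
  tyB_of (fun i => (phi_tab₂ wa i).trans (ta₂ i)) 0 1 7 11 (by decide +kernel) (by decide +kernel) (by decide +kernel)
    (by decide +kernel)

theorem Ma₁ : Mv (φ₁ (wd wa)) := mv_of (fun i => (phi_tab wa i).trans (ta₁ i)) (by decide +kernel)
theorem Mc₁ : Mv (φ₁ (wd wc)) := mv_of (fun i => (phi_tab wc i).trans (tc₁ i)) (by decide +kernel)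
theorem Mc₂ : Mv (φ₂ (wd wc)) := mv_of (fun i => (phi_tab₂ wc i).trans (tc₂ i)) (by decide +kernel)

/-! ### orders -/

open Cfsg.Agent.CoThreeStd.MTwelve (wd_eq wd_ne)
open Cfsg.Agent.H858.SidM12 (wd_rep card_c11 card_n11)

theorem ord_x : orderOf (wd wx) = 11 :=
  have : Fact (Nat.Prime 11) := ⟨by norm_num⟩
  orderOf_eq_prime (by rw [← wd_rep]; exact wd_eq (l' := []) (by decide +kernel))
    (wd_ne (l' := []) 0 (by norm_num) (by decide +kernel))

theorem ord_z : orderOf (wd wz) = 10 := by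
  refine orderOf_eq_of_pow_and_pow_div_prime (by norm_num)
    (by rw [← wd_rep]; exact wd_eq (l' := []) (by decide +kernel)) ?_
  intro p hp hd
  have hp10 : p ∈ Nat.divisors 10 := Nat.mem_divisors.2 ⟨hd, by norm_num⟩
  rw [show Nat.divisors 10 = {1, 2, 5, 10} by decide] at hp10
  simp only [Finset.mem_insert, Finset.mem_singleton] at hp10
  rcases hp10 with rfl | rfl | rfl | rfl
  · exact absurd hp (by norm_num)
  · rw [← wd_rep]
    exact wd_ne (l' := []) 0 (by norm_num) (by decide +kernel)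
  · rw [← wd_rep]
    exact wd_ne (l' := []) 0 (by norm_num) (by decide +kernel)
  · exact absurd hp (by norm_num)

theorem ord_b : orderOf (wd wb) = 2 ^ (2 + 1) :=
  have : Fact (Nat.Prime 2) := ⟨by norm_num⟩
  orderOf_eq_prime_pow (by rw [← wd_rep]; exact wd_ne (l' := []) 1 (by norm_num) (by decide +kernel))
    (by rw [← wd_rep]; exact wd_eq (l' := []) (by decide +kernel))

theorem ord_a : orderOf (wd wa) = 2 ^ (2 + 1) :=
  have : Fact (Nat.Prime 2) := ⟨by norm_num⟩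
  orderOf_eq_prime_pow (by rw [← wd_rep]; exact wd_ne (l' := []) 1 (by norm_num) (by decide +kernel))
    (by rw [← wd_rep]; exact wd_eq (l' := []) (by decide +kernel))

/-! ### subgroups of order divisible by `1056` -/

theorem num_1056 : ∀ k ∈ Nat.divisors 90, (96 * k % 11) ∣ 5 → 11 * (96 * k % 11) ∣ 1056 * k → k = 18 ∨ k = 90 := by
  decide +kernel

theorem num_mod : ∀ k ∈ Nat.divisors 90, 96 * k % 11 ≠ 0 := by decide +kernel

theorem no_1056 {R : Subgroup Spor.M12} (hR : R ≠ ⊤) (h : 1056 ∣ Nat.card R) : False := by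
  have hT : Nat.card Spor.M12 = 95040 := CoThreeStd.MTwelve.card_H
  have hfin : Finite Spor.M12 := Nat.finite_of_card_ne_zero (by rw [hT]; norm_num)
  have hs : IsSimpleGroup Spor.M12 := Schreier.MTwelve.isSimpleGroup
  obtain ⟨k, hk⟩ := h
  have h1 := R.card_mul_index
  rw [hT, hk] at h1
  have h2 : k * R.index = 90 := by
    apply Nat.eq_of_mul_eq_mul_left (show 0 < 1056 by norm_num)
    rw [← mul_assoc, h1]
  have hkd : k ∈ Nat.divisors 90 := Nat.mem_divisors.2 ⟨Dvd.intro _ h2, by norm_num⟩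
  have h11 : Fact (Nat.Prime 11) := ⟨by norm_num⟩
  obtain ⟨x, hx⟩ := exists_prime_orderOf_dvd_card' (G := R) 11 (by rw [hk]; exact ⟨96 * k, by ring⟩)
  have hx' : orderOf (x : Spor.M12) = 11 := by rw [Subgroup.orderOf_coe, hx]
  have hc : Nat.card (centralizer ({x} : Set R)) = 11 := by
    apply Nat.dvd_antisymm
    · rw [← card_c11 _ hx', ← Subgroup.card_map_of_injective (K := centralizer ({x} : Set R)) R.subtype_injective]
      apply Subgroup.card_dvd_of_le
      rintro _ ⟨c, hc, rfl⟩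
      rw [mem_centralizer_singleton_iff]
      exact congrArg Subtype.val (mem_centralizer_singleton_iff.1 hc)
    · rw [← hx]
      exact Subgroup.orderOf_dvd_natCard _ (mem_centralizer_singleton_iff.2 rfl)
  have hn := Cfsg.Agent.H217.Odm.norm_of_self_cent (G := R) (n := 96 * k) (r := 11) (by norm_num)
    (by rw [hk]; ring) (num_mod k hkd) hx hc
  have hn1 : 11 * (96 * k % 11) ∣ 1056 * k := by
    rw [← hn, ← hk]
    exact Subgroup.card_subgroup_dvd_card _
  have hn2 : 11 * (96 * k % 11) ∣ 11 * 5 := by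
    rw [← hn, ← card_n11 _ hx', ← Subgroup.card_map_of_injective
      (K := normalizer ((zpowers x : Subgroup R) : Set R)) R.subtype_injective]
    apply Subgroup.card_dvd_of_le
    rintro _ ⟨c, hc, rfl⟩
    have hc' := Subgroup.mem_normalizer_iff.1 hc
    have hmem : ∀ w : R, (w : Spor.M12) ∈ zpowers (x : Spor.M12) ↔ w ∈ zpowers x := by
      intro w
      constructor
      · rintro ⟨j, hj⟩
        refine ⟨j, Subtype.ext ?_⟩
        rw [← hj]
        exact SubgroupClass.coe_zpow _ _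
      · rintro ⟨j, rfl⟩
        exact ⟨j, (SubgroupClass.coe_zpow _ _).symm⟩
    have hle : zpowers (x : Spor.M12) ≤ R := zpowers_le.2 x.2
    rw [Subgroup.mem_normalizer_iff]
    intro w
    constructor
    · intro hw
      have h3 := (hc' ⟨w, hle hw⟩).1 ((hmem ⟨w, hle hw⟩).1 hw)
      exact (hmem _).2 h3
    · intro hw
      have h3 : w ∈ R := by
        have h4 := R.mul_mem (R.mul_mem (R.inv_mem c.2) (hle hw)) c.2
        have h5 : (c : Spor.M12)⁻¹ * (R.subtype c * w * (R.subtype c)⁻¹) * c = w := by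
          show (c : Spor.M12)⁻¹ * (c * w * (c : Spor.M12)⁻¹) * c = w
          group
        rwa [h5] at h4
      exact (hmem ⟨w, h3⟩).2 ((hc' ⟨w, h3⟩).2 ((hmem _).1 hw))
  rcases num_1056 k hkd (Nat.dvd_of_mul_dvd_mul_left (by norm_num) hn2) hn1 with rfl | rfl
  · have h3 : R.index = 5 := by omega
    have h4 := SmallSimple.SylowCount.card_dvd_factorial_index R hR
    rw [hT, h3] at h4
    exact absurd (Nat.le_of_dvd (Nat.factorial_pos _) h4) (by decide)
  · apply hR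
    rw [← Subgroup.index_eq_one]
    omega

/-! ### the theorem -/

theorem isol11 : Isol Spor.M12 11 := isol_of_cent (by norm_num) fun x hx => card_c11 x hx

theorem oinc (tab : OrderTable.{0}) (known : Known.{0}) : OInc Spor.M12 11 10 := by
  have hT : Nat.card Spor.M12 = n := CoThreeStd.MTwelve.card_H
  have hfin : Finite Spor.M12 := Nat.finite_of_card_ne_zero (by rw [hT]; decide)
  refine oinc_of_chkI tab known [.psl 2 11, .m11] hT (by norm_num) isol11 chk11_10 ?_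
  intro g hg X _ _ hX
  simp only [List.mem_cons, List.not_mem_nil, or_false] at hg
  rcases hg with rfl | rfl
  · exact JThree.no_of_mod (m := 10) (by norm_num : Nat.Prime 11) (by norm_num : 11 = 11 ^ 1) (by norm_num)
      (by decide) hX
  · intro x hx
    have h1 := Cfsg.Agent.H180.KM11.orders (L := X) hX x
    rw [hx] at h1
    revert h1
    decide

theorem map_conj (φ : Spor.M12 →* Equiv.Perm (Fin 12)) (g x : Spor.M12) :
    φ (g * x * g⁻¹) = φ g * φ x * (φ g)⁻¹ := by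
  rw [map_mul, map_mul, map_inv]

theorem ord_conj (g x : Spor.M12) : orderOf (g * x * g⁻¹) = orderOf x :=
  orderOf_injective (MulAut.conj g).toMonoidHom (MulAut.conj g).injective x

/-- a subgroup with a pair of points stabilised by all its elements avoids the elements whose square has no fixed
points -/
theorem av_of_pair {φ : Spor.M12 →* Equiv.Perm (Fin 12)} {R : Subgroup Spor.M12} (h : ∃ d, ∀ r ∈ R, (φ r ^ 2) d = d)
    {m : Spor.M12} (hm : Mv (φ m)) : Av m R := by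
  obtain ⟨d, hd⟩ := h
  intro g hg
  have h1 := hd _ hg
  rw [map_conj] at h1
  exact hm.conj (φ g) d h1

theorem eleven_case {φ : Spor.M12 →* Equiv.Perm (Fin 12)} {R : Subgroup Spor.M12} (hR : R ≠ ⊤) {x y : Spor.M12}
    (hX : TyX (φ x)) (hY : TyB (φ y)) (hy8 : orderOf y = 2 ^ (2 + 1)) (hx : ¬ Av x R) (hy : ¬ Av y R) :
    ∃ d, ∀ r ∈ R, (φ r ^ 2) d = d := by
  have hT : Nat.card Spor.M12 = 95040 := CoThreeStd.MTwelve.card_H
  have hfin : Finite Spor.M12 := Nat.finite_of_card_ne_zero (by rw [hT]; norm_num)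
  obtain ⟨g, hg⟩ := not_av hx
  obtain ⟨k, hk⟩ := not_av hy
  rcases fix_or φ hg (by rw [map_conj]; exact hX.conj _) hk (by rw [map_conj]; exact hY.conj _)
    (by rw [ord_conj, hy8]; norm_num) with ⟨d, hd⟩ | h
  · exact ⟨d, fun r hr => by rw [pow_two, Equiv.Perm.mul_apply, hd r hr, hd r hr]⟩
  · exact (no_1056 hR h).elim

theorem ten_case {φ : Spor.M12 →* Equiv.Perm (Fin 12)}
    (h5 : ∀ t : Spor.M12, ∀ s : Finset (Fin 12), 5 ≤ s.card → (∀ i ∈ s, φ t i = i) → t = 1)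
    {R : Subgroup Spor.M12} (h11 : ¬ 11 ∣ Nat.card R) {z y : Spor.M12}
    (hZ : TyZ (φ z)) (hY : TyB (φ y)) (hz : ¬ Av z R) (hy : ¬ Av y R) :
    ∃ d, ∀ r ∈ R, (φ r ^ 2) d = d := by
  have hT : Nat.card Spor.M12 = 95040 := CoThreeStd.MTwelve.card_H
  have hfin : Finite Spor.M12 := Nat.finite_of_card_ne_zero (by rw [hT]; norm_num)
  obtain ⟨g, hg⟩ := not_av hz
  obtain ⟨k, hk⟩ := not_av hy
  exact stab_pair φ h5 h11 hg (by rw [map_conj]; exact hZ.conj _) hk (by rw [map_conj]; exact hY.conj _)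

/-- a pair `H ∋ x`, `K ∋ z` -/
theorem key (hinc : OInc Spor.M12 11 10) {H K : Subgroup Spor.M12} (hH : H ≠ ⊤) (hK : K ≠ ⊤)
    (hx : ¬ Av (wd wx) H) (hz : ¬ Av (wd wz) K) : ∃ w : Spor.M12, Av w H ∧ Av w K := by
  have hT : Nat.card Spor.M12 = 95040 := CoThreeStd.MTwelve.card_H
  have hfin : Finite Spor.M12 := Nat.finite_of_card_ne_zero (by rw [hT]; norm_num)
  have h11 : ¬ 11 ∣ Nat.card K := by
    intro hd
    have : Fact (Nat.Prime 11) := ⟨by norm_num⟩
    obtain ⟨w, hw⟩ := exists_prime_orderOf_dvd_card' (G := K) 11 hd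
    obtain ⟨g, hg⟩ := not_av hz
    exact hinc K hK w w.2 _ hg (by rw [Subgroup.orderOf_coe, hw]) (by rw [ord_conj, ord_z])
  by_cases hb : Av (wd wb) K
  · by_cases hbH : Av (wd wb) H
    · exact ⟨_, hbH, hb⟩
    -- `b` in `H`: `H` fixes a point of the dodecad
    have h1 := eleven_case hH X₁ B₁ ord_b hx hbH
    by_cases ha : Av (wd wa) K
    · exact ⟨_, av_of_pair h1 Ma₁, ha⟩
    have h2 := ten_case five₂ h11 Z₂ B₂ hz ha
    exact ⟨_, av_of_pair h1 Mc₁, av_of_pair h2 Mc₂⟩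
  · -- `b` in `K`: `K` stabilises a pair of points of the dodecad
    have h1 := ten_case five₁ h11 Z₁ B₁ hz hb
    by_cases ha : Av (wd wa) H
    · exact ⟨_, ha, av_of_pair h1 Ma₁⟩
    have h2 := eleven_case hH X₂ B₂ ord_a hx ha
    exact ⟨_, av_of_pair h2 Mc₂, av_of_pair h1 Mc₁⟩

theorem noTwo_model (tab : OrderTable.{0}) (known : Known.{0}) : NoTwo Spor.M12 := by
  have hinc := oinc tab known
  intro H K hH hK
  have hxz := hinc.inc ord_x ord_z
  rcases hxz H hH with h1 | h1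
  · rcases hxz K hK with h2 | h2
    · exact ⟨_, h1, h2⟩
    · by_cases h3 : Av (wd wx) K
      · exact ⟨_, h1, h3⟩
      by_cases h4 : Av (wd wz) H
      · exact ⟨_, h4, h2⟩
      obtain ⟨w, hw1, hw2⟩ := key hinc hK hH h3 h4
      exact ⟨w, hw2, hw1⟩
  · rcases hxz K hK with h2 | h2
    · by_cases h3 : Av (wd wx) H
      · exact ⟨_, h3, h2⟩
      by_cases h4 : Av (wd wz) K
      · exact ⟨_, h1, h4⟩
      exact key hinc hH hK h3 h4
    · exact ⟨_, h1, h2⟩

theorem NoTwo.congr {G : Type*} {G' : Type*} [Group G] [Group G'] (h : NoTwo G) (e : G ≃* G') : NoTwo G' := by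
  intro H K hH hK
  have hne : ∀ L : Subgroup G', L ≠ ⊤ → L.comap e.toMonoidHom ≠ ⊤ := by
    intro L hL ht
    apply hL
    rw [eq_top_iff]
    intro w _
    have h3 : e.symm w ∈ L.comap e.toMonoidHom := by rw [ht]; trivial
    have h4 : e (e.symm w) ∈ L := h3
    rwa [e.apply_symm_apply] at h4
  obtain ⟨x, h1, h2⟩ := h _ _ (hne H hH) (hne K hK)
  refine ⟨e x, fun g hg => h1 (e.symm g) ?_, fun g hg => h2 (e.symm g) ?_⟩
  · change e (e.symm g * x * (e.symm g)⁻¹) ∈ H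
    rwa [map_mul, map_mul, map_inv, e.apply_symm_apply]
  · change e (e.symm g * x * (e.symm g)⁻¹) ∈ K
    rwa [map_mul, map_mul, map_inv, e.apply_symm_apply]

/-- **`M₁₂` is not covered by the conjugates of two proper subgroups** -/
theorem noTwo_m12 (tab : OrderTable.{0}) (known : Known.{0}) {T : Type u} [Group T] (h : Spor.IsoM12 T) : NoTwo T := by
  obtain ⟨e⟩ := h
  exact NoTwo.congr (noTwo_model tab known) e.symm

end Cfsg.Agent.H348.Cov.MTw
end

private theorem dce_30defbb042c6 : _root_.True := by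
  try have : _root_.True := by simp only [_root_.Cfsg.Agent.H348.Cov.MTw.tab.eq_1]
  exact _root_.True.intro
end
end
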